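import Cfsg.Agent.SB.Low.Defs
import Cfsg.Agent.Nodes.SimplyLaced

/-!
# S5765 : root tables, the abstract lemmas (helper61)
-/

set_option autoImplicit false
set_option linter.unusedSectionVars false

namespace Cfsg.Agent.SB.Low.Tab

open Subgroup Cfsg CoxeterSystem
open Cfsg.Agent.ChevalleyStructure.CoxeterGeom Cfsg.Agent.Tits.Roots Cfsg.Agent.Nodes.Reps Cfsg.Agent.Nodes.Coroot
  Cfsg.Agent.Nodes.SimplyLaced

variable {I W : Type} [Fintype I] [DecidableEq I] [Group W] {M : CoxeterMatrix I} (cs : CoxeterSystem M W)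
  {A : I → I → ℤ} (h : IsCartan M A)

/-- `d` is `±1` or `±2` -/
def un (d : ℤ) : Bool := d == 1 || d == -1 || d == 2 || d == -2

theorem mem_of_sq {Λ : AddSubgroup (I → ℤ)} {d : ℤ} (hd : d * d = 1) {x : I → ℤ} (hx : d • x ∈ Λ) : x ∈ Λ := by
  have := Λ.zsmul_mem hx d
  rwa [smul_smul, hd, one_smul] at this

theorem mem_of_un {Λ : AddSubgroup (I → ℤ)} (hΛ : Sat 2 Λ) {d : ℤ} (hd : un d = true) {x : I → ℤ} (hx : d • x ∈ Λ) :
    x ∈ Λ := by
  simp only [un, Bool.or_eq_true, beq_iff_eq] at hd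
  rcases hd with ((rfl | rfl) | rfl) | rfl
  · exact mem_of_sq (by norm_num) hx
  · exact mem_of_sq (by norm_num) hx
  · exact hΛ x hx
  · exact hΛ x (by simpa using neg_mem hx)

theorem exists_rf [Finite W] {c : I → ℤ} (hc : IsRoot cs h c) : ∃ s : W, ∀ b, rep cs h s b = b - cpr cs h b c • c := by
  obtain ⟨w, i, rfl⟩ := hc
  exact ⟨_, rep_rfl'_eq cs h w i⟩

theorem simple_rf [Finite W] (i : I) (b : I → ℤ) : rep cs h (cs.simple i) b = b - cpr cs h b (sr i) • sr i := by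
  rw [rep_simple, refl_apply, cpr_sr, single_eq_smul]
  rfl

theorem pp_of [Finite W] (P : W → ℕ) (H : ∀ v : W, v = 1 ∨ ∃ c x, IsRoot cs h c ∧ rep cs h v x - x = (4 : ℤ) • c ∧
    ∀ s : W, (∀ b, rep cs h s b = b - cpr cs h b c • c) → P (s * v) < P v) : PPr cs h := by
  intro v Λ hΛ
  induction hn : P v using Nat.strong_induction_on generalizing v with
  | _ n ih =>
    intro hv
    rcases H v with rfl | ⟨c, x, hc, h1, h2⟩
    · exact one_mem _
    have hcΛ : c ∈ Λ := hΛ c (hΛ _ (by rw [smul_smul]; exact h1 ▸ hv x))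
    obtain ⟨s, hs⟩ := exists_rf cs h hc
    have hsm : s ∈ closure (Rfl cs h Λ) := subset_closure ⟨c, ⟨hc, hcΛ⟩, hs⟩
    have h3 := ih _ (hn ▸ h2 s hs) (s * v) rfl fun y => by
      rw [rep_mul_apply, hs, sub_right_comm]
      exact sub_mem (hv y) (Λ.zsmul_mem hcΛ _)
    simpa using mul_mem (inv_mem hsm) h3

theorem cpr_range [Finite W] (h4 : ∀ i j, M i j ≠ 4) (h6 : ∀ i j, M i j ≠ 6) {x y : I → ℤ} (hx : IsRoot cs h x)
    (hy : IsRoot cs h y) : (x = y ∧ cpr cs h x y = 2) ∨ (x = -y ∧ cpr cs h x y = -2) ∨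
      cpr cs h x y = -1 ∨ cpr cs h x y = 0 ∨ cpr cs h x y = 1 := by
  by_cases h1 : x = y
  · exact Or.inl ⟨h1, by rw [h1, cpr_self cs h hy]⟩
  by_cases h2 : x = -y
  · exact Or.inr (Or.inl ⟨h2, by rw [h2, cpr_neg cs h _ hy, cpr_self cs h hy]⟩)
  have := abs_le.1 (abs_cpr_le_one cs h h4 h6 hx hy h1 h2)
  omega

theorem btw_key [Finite W] (h4 : ∀ i j, M i j ≠ 4) (h6 : ∀ i j, M i j ≠ 6) {x y z : I → ℤ} (hx : IsRoot cs h x)
    (hy : IsRoot cs h y) (hp : cpr cs h y x = -1 ∨ cpr cs h y x = 0 ∨ cpr cs h y x = 1) (hz : Btwn cs h x y z) :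
    cpr cs h y x = -1 ∧ z = x + y := by
  obtain ⟨hzr, m, a, b, hm, ha, hb, he⟩ := hz
  have e1 : m * cpr cs h z x = a * 2 + b * cpr cs h y x := by
    have h1 := congrArg (fun v => cpr cs h v x) he
    simpa only [cpr_add cs h _ _ hx, cpr_smul cs h _ _ hx, cpr_self cs h hx] using h1
  have e2 : m * cpr cs h z y = a * cpr cs h y x + b * 2 := by
    have h1 := congrArg (fun v => cpr cs h v y) he
    simp only [cpr_add cs h _ _ hy, cpr_smul cs h _ _ hy, cpr_self cs h hy] at h1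
    rwa [cpr_symm cs h h4 h6 hx hy] at h1
  have e3 : m * 2 = a * cpr cs h z x + b * cpr cs h z y := by
    have h1 := congrArg (fun v => cpr cs h v z) he
    simp only [cpr_add cs h _ _ hzr, cpr_smul cs h _ _ hzr, cpr_self cs h hzr] at h1
    rwa [cpr_symm cs h h4 h6 hx hzr, cpr_symm cs h h4 h6 hy hzr] at h1
  have c1 : cpr cs h z x = 2 ∨ cpr cs h z x = -2 ∨ cpr cs h z x = -1 ∨ cpr cs h z x = 0 ∨ cpr cs h z x = 1 :=
    (cpr_range cs h h4 h6 hzr hx).imp And.right (Or.imp_left And.right)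
  have c2 : cpr cs h z y = 2 ∨ cpr cs h z y = -2 ∨ cpr cs h z y = -1 ∨ cpr cs h z y = 0 ∨ cpr cs h z y = 1 :=
    (cpr_range cs h h4 h6 hzr hy).imp And.right (Or.imp_left And.right)
  generalize cpr cs h z x = s at *
  generalize cpr cs h z y = r at *
  generalize cpr cs h y x = c at *
  have key : c = -1 ∧ a = m ∧ b = m := by
    rcases c1 with rfl | rfl | rfl | rfl | rfl <;> rcases c2 with rfl | rfl | rfl | rfl | rfl <;>
      rcases hp with rfl | rfl | rfl <;> omega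
  obtain ⟨h1, rfl, rfl⟩ := key
  rw [← smul_add] at he
  exact ⟨h1, smul_right_injective _ hm.ne' he⟩

theorem btw0 [Finite W] (h4 : ∀ i j, M i j ≠ 4) (h6 : ∀ i j, M i j ≠ 6) (a b c : I → ℤ) (ha : IsRoot cs h a)
    (hb : IsRoot cs h b) (hab : a ≠ b) (h0 : 0 ≤ cpr cs h b a) : ¬ Btwn cs h a b c := fun hz => by
  rcases cpr_range cs h h4 h6 hb ha with h1 | h1 | h1
  · exact hab h1.1.symm
  · omega
  · have := (btw_key cs h h4 h6 ha hb h1 hz).1
    omega

theorem btw1 [Finite W] (h4 : ∀ i j, M i j ≠ 4) (h6 : ∀ i j, M i j ≠ 6) (a b c : I → ℤ) (ha : IsRoot cs h a)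
    (hb : IsRoot cs h b) (h0 : cpr cs h b a = -1) : Btwn cs h a b c ↔ c = a + b := by
  refine ⟨fun hz => (btw_key cs h h4 h6 ha hb (Or.inl h0) hz).2, fun e => ?_⟩
  have h1 := isRoot_refl cs h hb ha
  rw [h0, neg_smul, one_smul, sub_neg_eq_add, add_comm, ← e] at h1
  exact Btwn.of_int h1 one_pos one_pos (by rw [one_smul, one_smul, e])

/-- a set with more elements than a list -/
theorem exists_out {α β : Type} {S : Set α} {f : α → β} (hf : Function.Injective f) (L : List β)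
    (hL : L.length < S.ncard) : ∃ x ∈ S, f x ∉ L := by
  classical
  by_contra hc
  push Not at hc
  have h1 := Set.ncard_le_ncard_of_injOn (s := S) (t := (L.toFinset : Set β)) f
    (fun x hx => by simpa using hc x hx) hf.injOn (Finset.finite_toSet _)
  rw [Set.ncard_coe_finset] at h1
  have := L.toFinset_card_le
  omega

theorem ncard_le {α β : Type} {S : Set α} {f : α → β} (hf : Function.Injective f) (L : List β) {n : ℕ}
    (hL : L.length ≤ n) (h : ∀ x ∈ S, f x ∈ L) : S.ncard ≤ n := by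
  by_contra hc
  obtain ⟨x, hx, h1⟩ := exists_out (S := S) hf L (by omega)
  exact h1 (h x hx)

end Cfsg.Agent.SB.Low.Tab
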