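import Cfsg.Agent.SB.Low.TabD1

/-!
# S5765 : root tables for `D₄` with the triality (helper61)

`boxTabD : BoxTabD`.
-/

set_option autoImplicit false
set_option linter.unusedSectionVars false

namespace Cfsg.Agent.SB.Low

open Subgroup Cfsg Cfsg.Lie CoxeterSystem
open Cfsg.Agent.ChevalleyStructure.CoxeterGeom Cfsg.Agent.ChevalleyStructure.CoxeterGeomTypes Cfsg.Agent.Tits.Roots
  Cfsg.Agent.Nodes.Reps Cfsg.Agent.Nodes.Coroot Cfsg.Agent.Nodes.RGDChev Cfsg.Lie.ChevalleyDatum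
  Cfsg.Agent.Nodes.RGDTwD4

namespace Tab.D

theorem tv_vt (x : Fin 4 → ℤ) : tv (vt x) = x := by
  funext i; fin_cases i <;> rfl

theorem vt_tv (x : T4) : vt (tv x) = x := rfl

theorem vt_inj : Function.Injective vt := fun x y e => by rw [← tv_vt x, e, tv_vt]

theorem vt_add (x y : Fin 4 → ℤ) : vt (x + y) = vt x + vt y := rfl
theorem vt_sub (x y : Fin 4 → ℤ) : vt (x - y) = vt x - vt y := rfl
theorem vt_neg (x : Fin 4 → ℤ) : vt (-x) = -vt x := rfl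
theorem vt_smul (c : ℤ) (x : Fin 4 → ℤ) : vt (c • x) = c • vt x := rfl

theorem pos_iff (x : Fin 4 → ℤ) : pos (vt x) = true ↔ 0 ≤ x := by
  rw [pos, Bool.and_eq_true, Bool.and_eq_true, Bool.and_eq_true, decide_eq_true_iff, decide_eq_true_iff,
    decide_eq_true_iff, decide_eq_true_iff, Pi.le_def]
  refine ⟨fun h i => ?_, fun h => ⟨⟨⟨h 0, h 1⟩, h 2⟩, h 3⟩⟩
  fin_cases i
  exacts [h.1.1.1, h.1.1.2, h.1.2, h.2]

theorem cramer (a b c d x : Fin 4 → ℤ) : dt (cr (vt a) (vt b) (vt c)) (vt d) • x =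
    dt (cr (vt x) (vt b) (vt c)) (vt d) • a + dt (cr (vt a) (vt x) (vt c)) (vt d) • b +
      dt (cr (vt a) (vt b) (vt x)) (vt d) • c + dt (cr (vt a) (vt b) (vt c)) (vt x) • d := by
  apply vt_inj
  simp only [vt_add, vt_smul]
  generalize vt a = a
  generalize vt b = b
  generalize vt c = c
  generalize vt d = d
  generalize vt x = x
  refine Prod.ext ?_ (Prod.ext ?_ (Prod.ext ?_ ?_)) <;>
    simp only [dt, cr, Prod.fst_add, Prod.snd_add, Prod.smul_fst, Prod.smul_snd, smul_eq_mul] <;> ring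

/-- the matrix of an additive map -/
def mt (f : (Fin 4 → ℤ) →+ (Fin 4 → ℤ)) : M4 := (vt (f (sr 0)), vt (f (sr 1)), vt (f (sr 2)), vt (f (sr 3)))

theorem ap_mt (f : (Fin 4 → ℤ) →+ (Fin 4 → ℤ)) (x : Fin 4 → ℤ) : vt (f x) = ap (mt f) (vt x) := by
  conv_lhs => rw [Nodes.SimplyLaced.eq_sum_sr x, Fin.sum_univ_four, map_add, map_add, map_add, map_zsmul, map_zsmul,
    map_zsmul, map_zsmul]
  rfl

theorem det_four (A : Matrix (Fin 4) (Fin 4) ℤ) :
    A.det = e4 (vt fun i => A i 0, vt fun i => A i 1, vt fun i => A i 2, vt fun i => A i 3) := by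
  rw [Matrix.det_succ_row_zero]
  simp [Fin.sum_univ_succ, Matrix.det_fin_three, Fin.succAbove, e4, dt, cr, vt]
  ring

theorem det_eq (f : (Fin 4 → ℤ) →ₗ[ℤ] (Fin 4 → ℤ)) : LinearMap.det f = e4 (mt f.toAddMonoidHom) := by
  rw [← LinearMap.det_toMatrix', det_four]
  rfl

theorem ne4 : ∀ i j : Fin 4, coxeterD4 i j ≠ 4 := fun i j => by
  fin_cases i <;> fin_cases j <;> decide

theorem ne6 : ∀ i j : Fin 4, coxeterD4 i j ≠ 6 := fun i j => by
  fin_cases i <;> fin_cases j <;> decide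

variable {W : Type} [Group W] [Finite W] (cs : CoxeterSystem coxeterD4 W)

theorem root_iff (x : Fin 4 → ℤ) : IsRoot cs hp.isCartan x ↔ vt x ∈ RL := by
  rw [isRoot_iff hp cs]
  constructor
  · rintro ⟨s, hs, rfl⟩
    exact vec_mem s hs
  · intro h
    obtain ⟨s, hs, h1⟩ := List.any_eq_true.1 (List.all_eq_true.1 mem_vec _ h)
    exact ⟨s, List.mem_range.1 hs, vt_inj (beq_iff_eq.1 h1)⟩

theorem cpr_eq (x : Fin 4 → ℤ) {c : Fin 4 → ℤ} (hc : IsRoot cs hp.isCartan c) :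
    cpr cs hp.isCartan x c = ip (vt x) (vt c) := by
  rw [Nodes.SimplyLaced.cpr_eq_sum cs hp.isCartan ne4 ne6 _ hc]
  simp only [pairing, cartan_eq, Fin.sum_univ_four, vt, ip, dt]
  simp
  ring

/-- the matrix -/
noncomputable def mat (w : W) : M4 := mt (rep cs hp.isCartan w).toAddMonoidHom

theorem ap_mat (w : W) (x : Fin 4 → ℤ) : vt (rep cs hp.isCartan w x) = ap (mat cs w) (vt x) :=
  ap_mt (rep cs hp.isCartan w).toAddMonoidHom x

theorem mat_inj : Function.Injective (mat cs) := fun v w e => rep_injective cs hp.isCartan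
  (LinearMap.ext fun x => vt_inj (by rw [ap_mat, ap_mat, e]))

theorem mat_one : mat cs 1 = id4 := by
  rw [mat, map_one]; rfl

theorem mat_mul {c : Fin 4 → ℤ} (hc : IsRoot cs hp.isCartan c) {s : W}
    (hs : ∀ b, rep cs hp.isCartan s b = b - cpr cs hp.isCartan b c • c) (v : W) :
    mat cs (s * v) = rm (vt c) (mat cs v) := by
  simp only [mat, mt, LinearMap.toAddMonoidHom_coe, rep_mul_apply, hs, cpr_eq cs _ hc]
  rfl

theorem mat_mem (w : W) : mat cs w ∈ WL := by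
  induction w using cs.simple_induction_left with
  | one => rw [mat_one]; exact List.mem_cons_self
  | mul_simple_left w i ih =>
    rw [mat_mul cs (isRoot_sr cs _ i) (simple_rf cs _ i)]
    refine List.contains_iff_mem.1 (List.all_eq_true.1 (List.all_eq_true.1 chk_W _ ih) _ ?_)
    revert i
    decide +kernel

theorem rd : RD cs hp.isCartan where
  cardI := rfl
  pp := pp_of cs _ (fun v => WL.idxOf (mat cs v)) fun v => by
    obtain ⟨p, hp', e⟩ := List.mem_map.1 (mat_mem cs v)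
    have h := List.all_eq_true.1 chk_pp p hp'
    simp only [Bool.or_eq_true, Bool.and_eq_true, beq_iff_eq, List.contains_iff_mem, decide_eq_true_eq] at h
    rcases h with h | ⟨⟨h1, h2⟩, h3⟩
    · exact Or.inl (mat_inj cs (by rw [← e, h, mat_one]))
    · have hc := (root_iff cs (tv p.2.1)).2 h1
      refine Or.inr ⟨tv p.2.1, tv p.2.2, hc, vt_inj ?_, fun s hs => ?_⟩
      · rw [vt_sub, ap_mat, ← e]
        exact h2
      · rw [mat_mul cs hc hs, ← e]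
        exact h3
  symm := fun _ _ ha hb => Nodes.SimplyLaced.cpr_symm cs _ ne4 ne6 ha hb
  btw0 := btw0 cs _ ne4 ne6
  btw1 := btw1 cs _ ne4 ne6
  perp := fun a ha => by
    obtain ⟨c, hc, h⟩ := List.any_eq_true.1 (List.all_eq_true.1 chk_perp _ ((root_iff cs a).1 ha))
    exact ⟨tv c, (root_iff cs _).2 hc, (cpr_eq cs _ ha).trans (beq_iff_eq.1 h)⟩

section

variable {θ : (Fin 4 → ℤ) →+ (Fin 4 → ℤ)} {m : M4} (hm : m ∈ WL) (hθ : ∀ x, vt (θ x) = ap (tm m) (vt x))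
  (hr : ∀ a, IsRoot cs hp.isCartan a → IsRoot cs hp.isCartan (θ a))

include hm hθ hr

theorem six (Λ : AddSubgroup (Fin 4 → ℤ)) (hΛ : Sat 2 Λ) (hx : ∃ x, x ∉ Λ) (hs : ∀ x ∈ Λ, θ x ∈ Λ) :
    (Ps cs hp.isCartan Λ).ncard ≤ 6 := by
  obtain ⟨x, hx⟩ := hx
  by_contra hc
  push Not at hc
  have nd : ∀ a ∈ Λ, ∀ b ∈ Λ, ∀ c ∈ Λ, ∀ d ∈ Λ, ¬ un (dt (cr (vt a) (vt b) (vt c)) (vt d)) = true :=
    fun a ha b hb c hc d hd h => hx (mem_of_un hΛ h (cramer a b c d x ▸ add_mem (add_mem (add_mem (Λ.zsmul_mem ha _)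
      (Λ.zsmul_mem hb _)) (Λ.zsmul_mem hc _)) (Λ.zsmul_mem hd _)))
  obtain ⟨a, ha, -⟩ := exists_out (S := Ps cs hp.isCartan Λ) vt_inj [] (by simp only [List.length_nil]; omega)
  obtain ⟨b, hb, hb'⟩ := exists_out (S := Ps cs hp.isCartan Λ) vt_inj [vt a, -vt a]
    (by simp only [List.length_cons, List.length_nil]; omega)
  have h1 := List.all_eq_true.1 (List.all_eq_true.1 chk_six _ ((root_iff cs a).1 ha.1)) _ ((root_iff cs b).1 hb.1)
  rw [Bool.or_eq_true, List.contains_iff_mem, Bool.and_eq_true, decide_eq_true_iff, List.all_eq_true] at h1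
  obtain ⟨h1, h2⟩ := h1.resolve_left hb'
  obtain ⟨c, hc1, hc'⟩ := exists_out (S := Ps cs hp.isCartan Λ) vt_inj _ (h1.trans_lt hc)
  have h3 := h2 _ ((root_iff cs c).1 hc1.1)
  rw [Bool.or_eq_true, Bool.or_eq_true, List.contains_iff_mem, decide_eq_true_iff] at h3
  rcases h3 with (h3 | h3) | h3
  · exact hc' (List.mem_filter.2 ⟨(root_iff cs c).1 hc1.1, h3⟩)
  · obtain ⟨r, -, h4⟩ := List.any_eq_true.1 (List.all_eq_true.1 (List.all_eq_true.1 chk_nl m hm) _ h3)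
    rw [Bool.and_eq_true, beq_iff_eq, beq_iff_eq, ← vt_tv r, ← hθ] at h4
    have h5 := cramer a b c (θ (tv r)) (tv r)
    rw [h4.1, zero_smul, add_zero] at h5
    have h6 : tv r ∈ Λ := mem_of_sq h4.2 (h5 ▸ add_mem (add_mem (Λ.zsmul_mem ha.2 _) (Λ.zsmul_mem hb.2 _))
      (Λ.zsmul_mem hc1.2 _))
    refine nd a ha.2 b hb.2 c hc1.2 _ (hs _ h6) ?_
    rcases Int.eq_one_or_neg_one_of_mul_eq_one h4.2 with e | e <;> rw [e] <;> rfl
  · obtain ⟨d, hd, hd'⟩ := exists_out (S := Ps cs hp.isCartan Λ) vt_inj _ (h3.trans_lt hc)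
    refine hd' (List.mem_filter.2 ⟨(root_iff cs d).1 hd.1, ?_⟩)
    rw [Bool.not_eq_true', ← Bool.not_eq_true]
    exact nd a ha.2 b hb.2 c hc1.2 d hd.2

theorem no_orth {Λ : AddSubgroup (Fin 4 → ℤ)} (hs : ∀ x ∈ Λ, θ x ∈ Λ)
    (hpos : ∀ a ∈ Ps cs hp.isCartan Λ, 0 ≤ a → 0 ≤ θ a)
    (h0 : ∀ a ∈ Ps cs hp.isCartan Λ, cpr cs hp.isCartan (θ a) a ≠ 0) :
    ∀ a ∈ Ps cs hp.isCartan Λ, ∀ b ∈ Ps cs hp.isCartan Λ, ip (vt a) (vt b) ≠ 0 := by
  have step : ∀ G : List T4, (∀ a ∈ Ps cs hp.isCartan Λ, vt a ∈ G) → ∀ a ∈ Ps cs hp.isCartan Λ, vt a ∈ pr (tm m) G := by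
    intro G hG a ha
    refine List.mem_filter.2 ⟨hG a ha, ?_⟩
    rw [← hθ, ← vt_sub, Bool.and_eq_true, Bool.or_eq_true, Bool.not_eq_true', ← Bool.not_eq_true,
      List.contains_iff_mem, List.contains_iff_mem, List.contains_iff_mem, ← root_iff cs, ← imp_iff_not_or]
    exact ⟨hG _ ⟨hr a ha.1, hs a ha.2⟩, fun h => hG _ ⟨h, sub_mem ha.2 (hs a ha.2)⟩⟩
  have h1 : ∀ a ∈ Ps cs hp.isCartan Λ, vt a ∈ RL.filter (good (tm m)) := by
    intro a ha
    refine List.mem_filter.2 ⟨(root_iff cs a).1 ha.1, ?_⟩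
    rw [good, ← hθ, ← vt_neg, ← vt_neg, ← cpr_eq cs _ ha.1]
    simp only [Bool.and_eq_true, Bool.or_eq_true, Bool.not_eq_true', ← Bool.not_eq_true, pos_iff, ← imp_iff_not_or,
      bne_iff_ne]
    exact ⟨⟨h0 a ha, hpos a ha⟩, fun h => map_neg θ a ▸ hpos _ ⟨ha.1.neg, neg_mem ha.2⟩ h⟩
  have h2 := step _ (step _ (step _ (step _ (step _ h1))))
  intro a ha b hb h3
  have h4 := List.all_eq_true.1 (List.all_eq_true.1 (List.all_eq_true.1 chk_cls m hm) _ (h2 a ha)) _ (h2 b hb)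
  rw [← hθ, ← vt_sub, ← vt_add] at h4
  simp only [Bool.and_eq_true, Bool.or_eq_true, Bool.not_eq_true', ← Bool.not_eq_true, bne_iff_ne,
    List.contains_iff_mem, ← root_iff cs] at h4
  rcases h4 with (h4 | h4) | h4
  · exact h4 h3
  · exact h4.2 (h2 _ ⟨h4.1, sub_mem hb.2 (hs a ha.2)⟩)
  · exact h4.2 (h2 _ ⟨h4.1, add_mem hb.2 (hs a ha.2)⟩)

omit hm hθ hr in
theorem mem_a2 {a b x : Fin 4 → ℤ} : vt x ∈ a2 (vt a) (vt b) ↔ x ∈ A2 a b := by
  simp only [a2, A2, ← vt_add, ← vt_neg, List.mem_cons, List.not_mem_nil, or_false, vt_inj.eq_iff, Set.mem_insert_iff,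
    Set.mem_singleton_iff]

theorem cls' (Λ : AddSubgroup (Fin 4 → ℤ)) (hne : (Ps cs hp.isCartan Λ).Nonempty) (hs : ∀ x ∈ Λ, θ x ∈ Λ)
    (hpos : ∀ a ∈ Ps cs hp.isCartan Λ, 0 ≤ a → 0 ≤ θ a) :
    (∃ a ∈ Ps cs hp.isCartan Λ, cpr cs hp.isCartan (θ a) a = 0) ∨
      (∃ a, IsRoot cs hp.isCartan a ∧ θ a = a ∧ Ps cs hp.isCartan Λ = {a, -a}) ∨
      ∃ a b, IsRoot cs hp.isCartan a ∧ IsRoot cs hp.isCartan b ∧ 0 ≤ a ∧ 0 ≤ b ∧ cpr cs hp.isCartan b a = -1 ∧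
        Ps cs hp.isCartan Λ = A2 a b ∧ ((θ a = a ∧ θ b = b) ∨ (θ a = b ∧ θ b = a)) := by
  refine or_iff_not_imp_left.2 fun h0 => ?_
  push Not at h0
  have hno := no_orth cs hm hθ hr hs hpos h0
  obtain ⟨a, ha⟩ := hne
  wlog a0 : 0 ≤ a generalizing a
  · exact this (-a) ⟨ha.1.neg, neg_mem ha.2⟩ (ha.1.not_nonneg_iff_neg.1 a0)
  by_cases h1 : ∀ c ∈ Ps cs hp.isCartan Λ, c = a ∨ c = -a
  · refine Or.inl ⟨a, ha.1, (h1 _ ⟨hr a ha.1, hs a ha.2⟩).resolve_right fun e => ?_, Set.Subset.antisymm h1 ?_⟩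
    · exact ha.1.not_pos_neg a0 (neg_nonneg.1 (e ▸ hpos a ha a0))
    · rintro _ (rfl | rfl)
      exacts [ha, ⟨ha.1.neg, neg_mem ha.2⟩]
  push Not at h1
  obtain ⟨c, hc, c1, c2⟩ := h1
  have h2 := List.all_eq_true.1 (List.all_eq_true.1 chk_a2 _ ((root_iff cs a).1 ha.1)) _ ((root_iff cs c).1 hc.1)
  rw [Bool.or_eq_true, Bool.or_eq_true, List.contains_iff_mem, beq_iff_eq, List.any_eq_true] at h2
  rcases h2 with (h2 | h2) | ⟨x, hx, h2⟩
  · simp only [← vt_neg, List.mem_cons, List.not_mem_nil, or_false, vt_inj.eq_iff] at h2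
    exact (h2.elim c1 c2).elim
  · exact (hno c hc a ha h2).elim
  obtain ⟨y, hy, h2⟩ := List.any_eq_true.1 h2
  have hL : ∀ z ∈ [vt a, vt c, rf (vt a) (vt c), -vt a, -vt c, -rf (vt a) (vt c)], tv z ∈ Λ := by
    have h3 : c - ip (vt c) (vt a) • a ∈ Λ := sub_mem hc.2 (Λ.zsmul_mem ha.2 _)
    have h4 : rf (vt a) (vt c) = vt (c - ip (vt c) (vt a) • a) := rfl
    simp only [h4, ← vt_neg, List.mem_cons, List.not_mem_nil, or_false]
    rintro _ (rfl | rfl | rfl | rfl | rfl | rfl) <;> rw [tv_vt]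
    exacts [ha.2, hc.2, h3, neg_mem ha.2, neg_mem hc.2, neg_mem h3]
  have hxΛ := hL x hx
  have hyΛ := hL y hy
  rw [← vt_tv x, ← vt_tv y] at h2
  generalize tv x = x at hxΛ h2
  generalize tv y = y at hyΛ h2
  simp only [Bool.and_eq_true, Bool.or_eq_true, Bool.not_eq_true', ← Bool.not_eq_true, pos_iff, beq_iff_eq,
    List.all_eq_true, List.contains_iff_mem] at h2
  obtain ⟨⟨⟨⟨⟨x0, y0⟩, h3⟩, h4⟩, h5⟩, h6⟩ := h2
  have hR : ∀ z ∈ A2 x y, z ∈ Ps cs hp.isCartan Λ := fun z hz => ⟨(root_iff cs z).2 (h4 _ (mem_a2.2 hz)), by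
    rcases hz with rfl | rfl | rfl | rfl | rfl | rfl
    exacts [hxΛ, hyΛ, add_mem hxΛ hyΛ, neg_mem hxΛ, neg_mem hyΛ, neg_mem (add_mem hxΛ hyΛ)]⟩
  have px := hR x (by simp [A2])
  have py := hR y (by simp [A2])
  have pxy := hR (x + y) (by simp [A2])
  have hR' : ∀ z ∈ Ps cs hp.isCartan Λ, z ∈ A2 x y := fun z hz => by
    rcases h6 _ ((root_iff cs z).1 hz.1) with ((h | h) | h) | h
    exacts [mem_a2.1 h, (hno x px z hz h).elim, (hno y py z hz h).elim, (hno _ pxy z hz h).elim]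
  have hθ' : ∀ z ∈ Ps cs hp.isCartan Λ, vt (θ z) ∈ a2 (vt x) (vt y) := fun z hz =>
    mem_a2.2 (hR' _ ⟨hr z hz.1, hs z hz.2⟩)
  refine Or.inr ⟨x, y, px.1, py.1, x0, y0, (cpr_eq cs _ px.1).trans h3, Set.Subset.antisymm hR' hR, ?_⟩
  have h7 := h5 _ (hθ' x px) _ (hθ' y py)
  simp only [pos_iff, vt_inj.eq_iff] at h7
  rcases h7 with (((h | h) | h) | h) | h
  · exact absurd (hpos x px x0) h
  · exact absurd (hpos y py y0) h
  · exact absurd (by rw [← vt_add, ← map_add]; exact hθ' _ pxy) h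
  · exact Or.inl h
  · exact Or.inr h

theorem rt : RT cs hp.isCartan θ where
  t1 := fun a ha h => by
    have h1 := List.all_eq_true.1 (List.all_eq_true.1 chk_t1 m hm) _ ((root_iff cs a).1 ha)
    simp only [← hθ, ← vt_neg, ← cpr_eq cs _ ha, ← cpr_eq cs _ (hr a ha), Bool.or_eq_true, Bool.and_eq_true, bne_iff_ne,
      beq_iff_eq, vt_inj.eq_iff] at h1
    exact and_assoc.1 (h1.resolve_left fun h2 => h2 h)
  t2 := fun a c ha hc h h' => by
    have h1 := List.all_eq_true.1 (List.all_eq_true.1 chk_t2 m hm) _ ((root_iff cs a).1 ha)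
    rw [← hθ, h, bne_self_eq_false, Bool.false_or] at h1
    have h2 := List.all_eq_true.1 h1 _ ((root_iff cs c).1 hc)
    simp only [← hθ, ← cpr_eq cs _ ha, ← cpr_eq cs _ hc, Bool.or_eq_true, Bool.and_eq_true, bne_iff_ne,
      beq_iff_eq] at h2
    exact and_assoc.1 (h2.resolve_left fun h3 => h3 h')
  cw := by
    refine ncard_le (mat_inj cs) _ (of_decide_eq_true (List.all_eq_true.1 chk_cw m hm)) fun v hv =>
      List.mem_filter.2 ⟨mat_mem cs v, ?_⟩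
    have h1 : ∀ x, ap (tm m) (ap (mat cs v) (vt x)) = ap (mat cs v) (ap (tm m) (vt x)) := fun x => by
      rw [← ap_mat, ← hθ, ← hθ, ← ap_mat, hv x]
    have h2 : ∀ k : M4, ap k (vt (sr 0)) = k.1 ∧ ap k (vt (sr 1)) = k.2.1 ∧ ap k (vt (sr 2)) = k.2.2.1 ∧
        ap k (vt (sr 3)) = k.2.2.2 := fun k => by simp [ap, vt, sr]
    have a0 := h1 (sr 0)
    have a1 := h1 (sr 1)
    have a2 := h1 (sr 2)
    have a3 := h1 (sr 3)
    rw [(h2 _).1, (h2 _).1] at a0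
    rw [(h2 _).2.1, (h2 _).2.1] at a1
    rw [(h2 _).2.2.1, (h2 _).2.2.1] at a2
    rw [(h2 _).2.2.2, (h2 _).2.2.2] at a3
    simp only [cm, a0, a1, a2, a3, beq_self_eq_true, Bool.and_self]
  tor := fun q ψ hψ => by
    have h1 := List.all_eq_true.1 chk_tor m hm
    simp only [Bool.and_eq_true, decide_eq_true_eq, beq_iff_eq] at h1
    obtain ⟨⟨⟨b1, b2⟩, b3⟩, b4⟩ := h1
    have h2 : mt θ = tm m := by
      simp only [mt, hθ]
      simp [ap, vt, sr]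
    have h3 : (ψ - 1) * θ.toIntLinearMap = (q : ℤ) • 1 - θ.toIntLinearMap := LinearMap.ext fun x => by
      simp [hψ x]
    have h4 := congrArg LinearMap.det h3
    rw [map_mul, det_eq θ.toIntLinearMap, det_eq ((q : ℤ) • 1 - θ.toIntLinearMap)] at h4
    have h5 : e4 (mt ((q : ℤ) • 1 - θ.toIntLinearMap : (Fin 4 → ℤ) →ₗ[ℤ] (Fin 4 → ℤ)).toAddMonoidHom) =
        q ^ 4 - e1 (mt θ) * q ^ 3 + e2 (mt θ) * q ^ 2 - e3 (mt θ) * q + e4 (mt θ) := by
      simp [mt, e1, e2, e3, e4, dt, cr, vt, sr]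
      ring
    have h6 : mt θ.toIntLinearMap.toAddMonoidHom = mt θ := rfl
    rw [h5, h6, h2] at h4
    have h7 := congrArg Int.natAbs h4
    rw [Int.natAbs_mul, b4, mul_one] at h7
    rw [h7]
    zify at b1 b2 b3 b4 ⊢
    have q0 : (0 : ℤ) ≤ q := Int.natCast_nonneg q
    have q2 : (0 : ℤ) ≤ q ^ 2 := by positivity
    have q3 : (0 : ℤ) ≤ q ^ 3 := by positivity
    have q4 : (0 : ℤ) ≤ q ^ 4 := by positivity
    obtain ⟨c1, c2⟩ := abs_le.1 b1
    obtain ⟨c3, c4⟩ := abs_le.1 b2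
    obtain ⟨c5, c6⟩ := abs_le.1 b3
    obtain ⟨c7, c8⟩ := abs_le.1 b4.le
    rw [abs_le]
    constructor <;> nlinarith
  six := six cs hm hθ hr
  cls := cls' cs hm hθ hr
  tw := fun a b ha hb h1 h2 h3 Λ aΛ bΛ hΛ => by
    have h4 := List.all_eq_true.1 (List.all_eq_true.1 chk_tw m hm) _ ((root_iff cs a).1 ha)
    rw [← hθ, ← hθ, h2, h3, ← cpr_eq cs _ ha, h1, bne_self_eq_false, bne_self_eq_false, Bool.false_or, Bool.false_or,
      List.any_eq_true] at h4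
    obtain ⟨x, -, h4⟩ := h4
    rw [← vt_tv x] at h4
    generalize tv x = x at h4
    simp only [← hθ, ← vt_sub, ← vt_add, ← vt_smul, Bool.and_eq_true, beq_iff_eq, List.any_eq_true,
      vt_inj.eq_iff] at h4
    obtain ⟨h5, i, -, j, -, h6⟩ := h4
    have h7 : (3 : ℤ) • x ∈ Λ := by
      have h8 := sub_mem (h6 ▸ add_mem (Λ.zsmul_mem aΛ i) (Λ.zsmul_mem bΛ j)) (hΛ (θ x + x))
      rw [map_add] at h8
      convert h8 using 1
      module
    have h8 : ∀ y, ∃ k : ℤ, y - k • x ∈ Λ := fun y => by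
      have h9 := cramer a b x (θ x) y
      generalize dt (cr (vt a) (vt b) (vt x)) (vt (θ x)) = D at h5 h9
      generalize dt (cr (vt y) (vt b) (vt x)) (vt (θ x)) = α at h9
      generalize dt (cr (vt a) (vt y) (vt x)) (vt (θ x)) = β at h9
      generalize dt (cr (vt a) (vt b) (vt y)) (vt (θ x)) = γ at h9
      generalize dt (cr (vt a) (vt b) (vt x)) (vt y) = δ at h9
      refine ⟨D * (γ + 2 * δ), mem_of_sq h5 ?_⟩
      have h10 := add_mem (add_mem (Λ.zsmul_mem aΛ α) (Λ.zsmul_mem bΛ β)) (Λ.zsmul_mem (hΛ x) δ)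
      convert h10 using 1
      rw [smul_sub, h9, smul_smul, ← mul_assoc, h5]
      module
    refine ⟨fun y => ?_, x, h8⟩
    obtain ⟨k, hk⟩ := h8 y
    have h9 := add_mem (Λ.zsmul_mem hk 3) (Λ.zsmul_mem h7 k)
    convert h9 using 1
    module

end

theorem g_eq (x : Fin 4 → ℤ) : vt (H720.TwFr.permE H720.TwFr.rho4 x) = ap (tm id4) (vt x) := by
  have h : ∀ i : Fin 4, H720.TwFr.permE H720.TwFr.rho4 x i = x (![3, 1, 0, 2] i) := fun i => rfl
  simp [vt, h, ap, tm, id4, r18, r14, r13, r12]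

theorem rt_tw (w : W) : RT cs hp.isCartan (tw cs hp.isCartan w (H720.TwFr.permE H720.TwFr.rho4).toAddMonoidHom) := by
  refine rt cs (mat_mem cs w) (fun x => ?_) fun a ha => IsRoot.act ((root_iff cs _).2 ?_) w
  · show vt (rep cs hp.isCartan w (H720.TwFr.permE H720.TwFr.rho4 x)) = _
    rw [ap_mat, g_eq]
    simp only [ap, tm, id4, r18, r14, r13, r12]
    refine Prod.ext ?_ (Prod.ext ?_ (Prod.ext ?_ ?_)) <;> simp only <;> ring
  · show vt (H720.TwFr.permE H720.TwFr.rho4 a) ∈ RL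
    rw [g_eq]
    exact List.contains_iff_mem.1 (List.all_eq_true.1 chk_g _ ((root_iff cs a).1 ha))

end Tab.D

theorem boxTabD : BoxTabD :=
  have := finite_W hp coxeterD4.toCoxeterSystem
  ⟨Tab.D.rd _, Tab.D.rt_tw _⟩

end Cfsg.Agent.SB.Low
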