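import Cfsg.Agent.SB.Low.Odd
import Cfsg.Agent.H818.Gen.Tor

/-!
# S5765, `G₂(q)` and `³D₄(q)`: the models (helper68)
-/

set_option autoImplicit false
set_option linter.unusedSectionVars false

namespace Cfsg.Agent.SB.Low

open Subgroup Cfsg Cfsg.Lie CoxeterSystem Cfsg.Agent.H786.FC Cfsg.Lie.ChevalleyDatum
open Cfsg.Agent.ChevalleyStructure.CoxeterGeom Cfsg.Agent.Tits.Roots Cfsg.Agent.Nodes.Reps Cfsg.Agent.Nodes.BNOf
  Cfsg.Agent.Nodes.Coroot Cfsg.Agent.DL Cfsg.Agent.SB.Exc Cfsg.Agent.Nodes.RGDChev Cfsg.Agent.H469.Exc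
  Cfsg.Agent.H316.U6 Cfsg.Agent.KFacts.RgdChevCoord

section

variable {D : ChevalleyDatum} {l : ℕ} {M : CoxeterMatrix (Fin l)} {hp : IsType D l M} {p q : ℕ} [Fact p.Prime]
  {K : Type} [Group K] [Finite K] (m : MData hp p q K)

/-- the standard datum -/
noncomputable abbrev dat : Datum p (D.group (KK p)).subtype m.σ ⊤ := DL.Ex.chevFr hp (locFin p) m.he m.frob m.fr

theorem md (h : m.dd = 1) : Md m.e (dat m) m.ι m.g.toAddMonoidHom :=
  ⟨CI.fq m.he m.frob, m.inj, fun y => ⟨fun hy => by have := m.pow_dd y hy; rwa [h, pow_one] at this,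
    by rintro ⟨x, rfl⟩; exact m.fix x⟩, fun _ _ => rfl, Function.bijective_id, fun _ => rfl⟩

theorem toral (hD : D = chevG2 ∨ D = chevD4) {r : ℕ} {E : Subgroup K} (hE : EA r E) (h2 : r ≠ 2) (hr : r ≠ p) :
    ∃ g, ∀ x ∈ E, g * m.ι x * g⁻¹ ∈ (dat m).T := by
  have h : H818.Gen.Tor.TorCase D r := by
    by_cases h3 : r = 3
    · exact Or.inr ⟨h3, hD⟩
    · refine Or.inl ⟨hE.prime.five_le_of_ne_two_of_ne_three h2 h3, fun e => ?_⟩
      rcases hD with h | h <;> exact absurd (congrArg ChevalleyDatum.nroots (h.symm.trans e)) (by decide +kernel)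
  obtain ⟨hW, hT⟩ := H818.Gen.Tor.tors_ok hp hE.prime h
  have : Finite ↥(E.map m.ι) := Finite.of_surjective _ (m.ι.subgroupMap_surjective E)
  obtain ⟨g, hg⟩ := H795.TorSub.exists_toral_abelian hp p (locFin p) hE.prime hr hW hT (hE.isPGroup.map m.ι) (by
    rintro _ ⟨a, ha, rfl⟩ _ ⟨b, hb, rfl⟩
    rw [← map_mul, ← map_mul, hE.comm a ha b hb])
  exact ⟨g, fun x hx => hg _ ⟨x, hx, rfl⟩⟩

end

section

variable {K : Type} [Group K] [Finite K]

theorem ea_zpowers {x : K} (h : (orderOf x).Prime) : EA (orderOf x) (zpowers x) := by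
  refine ⟨h, fun e => ?_, ?_, ?_⟩
  · rw [zpowers_eq_bot] at e
    rw [e, orderOf_one] at h
    exact Nat.not_prime_one h
  · rintro _ ⟨j, rfl⟩
    rw [← zpow_natCast, ← zpow_mul, mul_comm, zpow_mul, zpow_natCast, pow_orderOf_eq_one, one_zpow]
  · rintro _ ⟨i, rfl⟩ _ ⟨j, rfl⟩
    exact (Commute.zpow_zpow_self x i j).eq

omit [Finite K] in
theorem cz_zpowers (x : K) : Cz (zpowers x) = centralizer {x} := by
  rw [zpowers_eq_closure]
  exact centralizer_closure _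

/-- the facts on `G₂(q)` for odd primes -/
structure OddG (p q : ℕ) (K : Type) [Group K] : Prop where
  tor : ∀ r (E : Subgroup K), EA r E → r ≠ 2 → r ≠ p → Group.IsSolvable (Cz E) →
    TorC p ((q + 1) ^ 2) 12 E ∧ {v | v ∈ Cz E ∧ v ^ 3 = 1}.ncard ≤ 9
  c6 : ∀ x : K, (orderOf x).Prime → orderOf x ≠ 2 → orderOf x ≠ p → cc x ≤ q ^ 6 * (q + 1) ^ 2
  c2 : ∀ x : K, (orderOf x).Prime → orderOf x ≠ 2 → orderOf x ≠ p → orderOf x ≠ 3 → cc x ≤ q ^ 2 * (q + 1) ^ 2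

/-- the facts on `³D₄(q)` for odd primes -/
structure OddD (p q : ℕ) (K : Type) [Group K] : Prop where
  tor : ∀ r (E : Subgroup K), Sit p r E → r ≠ 2 →
    TorC p ((q ^ 2 + q + 1) ^ 2) 24 E ∨ (q = 2 ∧ r = 3 ∧ Nat.card E = 3 ∧ 2 ∣ Nat.card (Cz E))
  c6 : ∀ x : K, (orderOf x).Prime → orderOf x ≠ 2 → orderOf x ≠ p → cc x ≤ q ^ 6 * (q + 1) ^ 4

end

theorem oddG (hNS : BoxNS) (hT : BoxTabG) (p : ℕ) [Fact p.Prime] (F : Type) [Field F] [Fintype F] [CharP F p]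
    [Finite ↥(chevG2.group F)] (hq : 3 ≤ Fintype.card F) : OddG p (Fintype.card F) ↥(chevG2.group F) := by
  obtain ⟨m, hg, h⟩ := mdata_untw (r := p) hpG2 (fun e => absurd (congrArg ChevalleyDatum.nroots e) (by decide +kernel))
    (fun e => absurd (congrArg ChevalleyDatum.nroots e) (by decide +kernel)) F
  have hd : m.dd = 1 := by
    rcases h with h | ⟨-, e⟩ | ⟨-, e⟩
    · exact h.1
    all_goals exact absurd (congrArg ChevalleyDatum.nroots e) (by decide +kernel)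
  have hM := md m hd
  have he := m.hq
  refine ⟨fun r E hE h2 hr hs => ?_, fun x h1 h2 h3 => ?_, fun x h1 h2 h3 h4 => ?_⟩
  · rw [← he]
    exact hM.oddG hNS hT (fun x => by rw [hg]; rfl) (hq.trans he.ge) hE h2 hs (toral m (Or.inl rfl) hE h2 hr)
  · rw [← he, cc, ← cz_zpowers]
    exact (hM.ccG hT (ea_zpowers h1) h2 (toral m (Or.inl rfl) (ea_zpowers h1) h2 h3)).1
  · rw [← he, cc, ← cz_zpowers]
    exact (hM.ccG hT (ea_zpowers h1) h2 (toral m (Or.inl rfl) (ea_zpowers h1) h2 h3)).2 h4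

theorem oddD (hNS : BoxNS) (hX : BoxExt) (hT : BoxTabD) (p : ℕ) [Fact p.Prime] (F : Type) [Field F] [Fintype F] [CharP F p]
    {q : ℕ} (hq : IsPrimePow q) (hF : Fintype.card F = q ^ 3) [Finite ↥(twistedD4 F q)] : OddD p q ↥(twistedD4 F q) := by
  obtain ⟨m, hd, hg⟩ := mdata_twD4' (r := p) hq hF
  have hM := md m hd
  have he := m.hq
  have h0 : ∀ w, RT (dat m).cs (dat m).h (tw (dat m).cs (dat m).h w m.g.toAddMonoidHom) := by
    rw [hg]
    exact hT.2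
  refine ⟨fun r E hS h2 => ?_, fun x h1 h2 h3 => ?_⟩
  · have := hM.oddD hNS hX hT.1 h0 hS h2 (toral m (Or.inr rfl) hS.toEA h2 hS.ne)
    rwa [he] at this
  · have := hM.ccD hT.1 h0 (ea_zpowers h1) h2 (toral m (Or.inr rfl) (ea_zpowers h1) h2 h3)
    rwa [he, cz_zpowers] at this

end Cfsg.Agent.SB.Low
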