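import Cfsg.Agent.SB.Low.Cert
import Cfsg.Agent.SB.Exc.CI.Red

/-!
# S5765, `G₂(q)` and `³D₄(q)`: toral elementary abelian subgroups (helper68)

`Md n D ι θ` : `ι` identifies `K` with the fixed points of `F`, `D` is an adjoint datum of `F`, `θ` the action on the roots.
-/

set_option autoImplicit false
set_option linter.unusedSectionVars false

namespace Cfsg.Agent.SB.Low

open Subgroup Cfsg CoxeterSystem Cfsg.Agent.H786.FC
open Cfsg.Agent.ChevalleyStructure.CoxeterGeom Cfsg.Agent.Tits.Roots Cfsg.Agent.Nodes.Reps Cfsg.Agent.Nodes.BNOf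
  Cfsg.Agent.Nodes.Coroot Cfsg.Agent.DL Cfsg.Agent.SB.Exc
open scoped commutatorElement

theorem mem_of_sr {I : Type} [Fintype I] [DecidableEq I] {Λ : AddSubgroup (I → ℤ)} (h : ∀ i, sr i ∈ Λ) (x : I → ℤ) :
    x ∈ Λ := by
  have : x = ∑ i, x i • sr i := by
    funext j
    simp [sr, Pi.single_apply]
  rw [this]
  exact sum_mem fun i _ => zsmul_mem (h i) _

theorem hom_ext_sr {I : Type} [Fintype I] [DecidableEq I] {f g : (I → ℤ) →+ (I → ℤ)} (h : ∀ i, f (sr i) = g (sr i))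
    (x : I → ℤ) : f x = g x :=
  mem_of_sr (Λ := f.eqLocus g) h x

theorem tw_tw {I W : Type} [Fintype I] [DecidableEq I] [Group W] {M : CoxeterMatrix I} (cs : CoxeterSystem M W)
    {A : I → I → ℤ} (h : IsCartan M A) (w w' : W) (g : (I → ℤ) →+ (I → ℤ)) :
    tw cs h w (tw cs h w' g) = tw cs h (w * w') g :=
  AddMonoidHom.ext fun x => (rep_mul_apply cs h w w' (g x)).symm

theorem mul_pow_mem {Y : Type} [Group Y] {S : Subgroup Y} {s t : Y} (hs : s ∈ S) (ht : ∀ u ∈ S, t * u * t⁻¹ ∈ S) :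
    ∀ m : ℕ, (s * t) ^ m * (t ^ m)⁻¹ ∈ S
  | 0 => by simp
  | m + 1 => by
    have h1 := mul_mem hs (ht _ (mul_pow_mem hs ht m))
    rw [pow_succ', pow_succ']
    convert h1 using 1
    group

variable {p : ℕ} [Fact p.Prime] {k : Type} [Field k] [CharP k p] [IsAlgClosed k] {Y : Type} [Group Y] {N : Type}
  [Fintype N] [DecidableEq N] {ρ : Y →* GL N k} {F : MulAut Y} {K : Type} [Group K] [Finite K]

/-- the model -/
structure Md (n : ℕ) (D : Datum p ρ F ⊤) (ι : K →* Y) (θ : (D.I → ℤ) →+ (D.I → ℤ)) : Prop where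
  fq : Card.Fq p ρ F n
  inj : Function.Injective ι
  range : ∀ y, F y = y ↔ ∃ x, ι x = y
  ex : ∀ b, D.Rt b → D.ex b = n
  wt : Function.Bijective D.wt
  g : ∀ a, D.g a = θ a

/-- the image of a subgroup -/
abbrev im (ι : K →* Y) (E : Subgroup K) : Set Y := ι '' E

variable {n : ℕ} {D : Datum p ρ F ⊤} {ι : K →* Y} {θ : (D.I → ℤ) →+ (D.I → ℤ)} {E : Subgroup K} {r : ℕ}

theorem comm_of_orth (hD : RD D.cs D.h) {a b : D.I → ℤ} (ha : D.Rt a) (hb : D.Rt b) (h : cpr D.cs D.h a b = 0) :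
    ∀ u ∈ D.X a ⊔ D.X (-a), ∀ v ∈ D.X b ⊔ D.X (-b), u * v = v * u := by
  have key : ∀ a b, D.Rt a → D.Rt b → cpr D.cs D.h a b = 0 → D.X a ≤ centralizer (D.X b : Set Y) := by
    intro a b ha hb h u hu v hv
    have h1 : b ≠ a := by
      rintro rfl
      rw [cpr_self _ _ ha] at h
      omega
    have h2 : b ≠ -a := by
      rintro rfl
      rw [cpr_neg_right _ _ _ ha, cpr_self _ _ ha] at h
      omega
    have h3 := D.comm hb ha h1 h2 hv hu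
    have h4 : {c | Btwn D.cs D.h b a c} = ∅ := Set.eq_empty_of_forall_notMem fun c => hD.btw0 b a c hb ha h1 h.ge
    rw [h4, Datum.S, Nodes.OppDec.Sup_empty, mem_bot] at h3
    exact commutatorElement_eq_one_iff_mul_comm.1 h3
  have k2 : ∀ a, D.Rt a → cpr D.cs D.h a b = 0 → D.X b ⊔ D.X (-b) ≤ centralizer (D.X a : Set Y) := fun a ha h =>
    sup_le (le_centralizer_iff.1 (key a b ha hb h))
      (le_centralizer_iff.1 (key a (-b) ha hb.neg (by rw [cpr_neg_right _ _ _ hb, h, neg_zero])))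
  have k3 : D.X a ⊔ D.X (-a) ≤ centralizer ((D.X b ⊔ D.X (-b) : Subgroup Y) : Set Y) :=
    sup_le (le_centralizer_iff.1 (k2 a ha h)) (le_centralizer_iff.1 (k2 (-a) ha.neg (by rw [cpr_neg _ _ _ hb, h, neg_zero])))
  exact fun u hu v hv => (k3 hu v hv).symm

namespace Md

variable (hM : Md n D ι θ)

include hM

theorem conj {y : Y} (hy : y ∈ (⊤ : Subgroup Y)) (hy' : y⁻¹ * F y ∈ D.NN) :
    Md n (D.conj hy hy') ι (tw D.cs D.h (D.pr (y⁻¹ * F y)) θ) :=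
  ⟨hM.fq, hM.inj, hM.range, hM.ex, hM.wt, fun a => congrArg (D.act (D.pr (y⁻¹ * F y))) (hM.g a)⟩

theorem fix (x : K) : F (ι x) = ι x := (hM.range _).2 ⟨x, rfl⟩

theorem cardR : Fintype.card D.R = Fintype.card D.I := by
  have := (AddEquiv.ofBijective D.wt hM.wt).toIntLinearEquiv.finrank_eq
  simpa using this.symm

theorem two_le : 2 ≤ p ^ n := (Fact.out : p.Prime).two_le.trans (Nat.le_self_pow hM.fq.1.ne' p)

theorem eq_one {t : Y} (ht : t ∈ D.T) (h : ∀ a, D.χ a t = 1) : t = 1 := by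
  obtain ⟨c, rfl⟩ := (D.mem_T t).1 ht
  have : c = 1 := by
    funext j
    obtain ⟨a, ha⟩ := hM.wt.2 (Pi.single j 1)
    have h1 := h a
    rw [D.χ_τ, ha, DL.chr_single] at h1
    exact Units.ext h1
  rw [this, map_one]

theorem le_cz {A : Set (D.I → ℤ)} (hZ : im ι E ⊆ D.T) (hA : A ⊆ D.Sz (im ι E)) {g : K} (hg : ι g ∈ D.S A) : g ∈ Cz E := by
  have h1 : D.S A ≤ centralizer (im ι E) := RGD.Sup_le fun a ha => D.X_le_centralizer hZ (hA ha)
  exact mem_Cz.2 fun x hx => hM.inj (by rw [map_mul, map_mul]; exact h1 hg _ ⟨x, hx, rfl⟩)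

theorem mem_cz {g : K} : g ∈ Cz E ↔ ι g ∈ centralizer (im ι E) :=
  ⟨fun h => by
    rintro _ ⟨x, hx, rfl⟩
    rw [← map_mul, ← map_mul, mem_Cz.1 h x hx], fun h =>
    mem_Cz.2 fun x hx => hM.inj (by rw [map_mul, map_mul]; exact h _ ⟨x, hx, rfl⟩)⟩

theorem solv {H : Subgroup K} (hH : Group.IsSolvable H) {B : Subgroup Y} (h : ∀ g, ι g ∈ B → g ∈ H) :
    Group.IsSolvable ↥(DL.fix F ⊓ B) := by
  have h1 : Group.IsSolvable ↥(H.map ι) := Group.isSolvable_of_surjective (f := ι.subgroupMap H) (ι.subgroupMap_surjective H)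
  have h2 : DL.fix F ⊓ B ≤ H.map ι := by
    rintro y ⟨h3, h4⟩
    obtain ⟨g, rfl⟩ := (hM.range y).1 h3
    exact ⟨g, h g h4, rfl⟩
  exact Group.isSolvable_of_isSolvable_injective (f := inclusion h2) (inclusion_injective _)

/-- a fixed element of order `p` in a fixed root group -/
theorem exists_unip {a : D.I → ℤ} (ha : D.Rt a) (h : θ a = a) : ∃ g : K, g ≠ 1 ∧ g ^ p = 1 ∧ ι g ∈ D.X a := by
  obtain ⟨c, hc, h1⟩ := D.F_x a ha
  rw [hM.g, h, hM.ex a ha] at h1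
  have h2 := hM.two_le
  obtain ⟨u, hu⟩ := IsAlgClosed.exists_pow_nat_eq c⁻¹ (n := p ^ n - 1) (by omega)
  have hu0 : u ≠ 0 := by
    rintro rfl
    rw [zero_pow (by omega)] at hu
    exact inv_ne_zero hc hu.symm
  have h3 : c * u ^ p ^ n = u := by
    rw [show p ^ n = p ^ n - 1 + 1 by omega, pow_succ, hu, mul_inv_cancel_left₀ hc]
  obtain ⟨g, hg⟩ := (hM.range (D.x a u)).1 (by rw [h1, h3])
  have h4 : ∀ m : ℕ, D.x a u ^ m = D.x a (m * u) := by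
    intro m
    induction m with
    | zero => rw [pow_zero, Nat.cast_zero, zero_mul, D.x_zero ha]
    | succ m ih => rw [pow_succ, ih, ← D.x_add a ha, Nat.cast_succ, add_mul, one_mul]
  refine ⟨g, fun e => hu0 ((D.x_eq_one_iff ha).1 (by rw [← hg, e, map_one])), hM.inj ?_, hg ▸ D.x_mem ha u⟩
  rw [map_pow, hg, h4, CharP.cast_eq_zero, zero_mul, D.x_zero ha, map_one]

section toral

variable (hZ : im ι E ⊆ D.T)

include hZ

theorem theta (x : D.I → ℤ) : θ x - ((p ^ n : ℕ) : ℤ) • x ∈ D.Lam (im ι E) := by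
  refine mem_of_sr (Λ := (D.Lam (im ι E)).comap (θ - ((p ^ n : ℕ) : ℤ) • AddMonoidHom.id _)) (fun i => ?_) x
  rintro _ ⟨z, hz, rfl⟩
  have h1 := D.χ_F (isRoot_sr D.cs D.h i) (hZ ⟨z, hz, rfl⟩)
  rw [hM.fix, hM.g, hM.ex _ (isRoot_sr D.cs D.h i)] at h1
  show D.χ (θ (sr i) - ((p ^ n : ℕ) : ℤ) • sr i) (ι z) = 1
  rw [sub_eq_add_neg, D.χ_add, D.χ_neg, D.χ_zsmul, h1, zpow_natCast, mul_inv_cancel₀ (pow_ne_zero _ (D.χ_ne_zero _ _))]

theorem stab {x : D.I → ℤ} (hx : x ∈ D.Lam (im ι E)) : θ x ∈ D.Lam (im ι E) := by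
  simpa using add_mem (hM.theta hZ x) (zsmul_mem hx ((p ^ n : ℕ) : ℤ))

theorem g_Sz : ∀ a ∈ D.Sz (im ι E), D.g a ∈ D.Sz (im ι E) := fun a ha =>
  ⟨D.g_root a ha.1, by rw [hM.g]; exact hM.stab hZ ha.2⟩

theorem smul_mem (hE : EA r E) (x : D.I → ℤ) : (r : ℤ) • x ∈ D.Lam (im ι E) := by
  rintro _ ⟨z, hz, rfl⟩
  have h1 : ∀ m : ℕ, D.χ x (ι z ^ m) = D.χ x (ι z) ^ m := by
    intro m
    induction m with
    | zero => rw [pow_zero, pow_zero, D.χ_one]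
    | succ m ih => rw [pow_succ, pow_succ, D.χ_mul _ (pow_mem (hZ ⟨z, hz, rfl⟩) m) (hZ ⟨z, hz, rfl⟩), ih]
  rw [D.χ_zsmul, zpow_natCast, ← h1, ← map_pow, hE.pow z hz, map_one, D.χ_one]

theorem sat (hE : EA r E) {d : ℕ} (hd : d.Prime) (h : r ≠ d) : Sat d (D.Lam (im ι E)) := by
  intro x hx
  obtain ⟨a, b, hab⟩ := Nat.isCoprime_iff_coprime.2 ((Nat.coprime_primes hE.prime hd).2 h)
  have := add_mem (zsmul_mem (hM.smul_mem hZ hE x) a) (zsmul_mem hx b)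
  rwa [smul_smul, smul_smul, ← add_smul, hab, one_smul] at this

theorem proper (hE : EA r E) : ∃ x, x ∉ D.Lam (im ι E) := by
  by_contra h
  push Not at h
  obtain ⟨x, hx, h1, -⟩ := hE.exists_ne
  exact h1 (hM.inj (by rw [map_one]; exact hM.eq_one (hZ ⟨x, hx, rfl⟩) fun a => h a _ ⟨x, hx, rfl⟩))

/-- the centraliser is connected -/
theorem mem_cen (hP : PPr D.cs D.h) (h2 : Sat 2 (D.Lam (im ι E))) {g : K} (hg : g ∈ Cz E) : ι g ∈ D.cen (im ι E) := by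
  obtain ⟨c, hc, m, ⟨w, hm⟩, h1, h3⟩ := D.exists_cen_form hZ (mem_top _) (hM.mem_cz.1 hg)
  have h4 := hP w _ h2 fun x z hz => by
    rw [sub_eq_add_neg, D.χ_add, D.χ_neg, D.χ_act_of_comm hZ hm h1 x hz, mul_inv_cancel₀ (D.χ_ne_zero _ _)]
  have h5 : ∀ v ∈ closure (Rfl D.cs D.h (D.Lam (im ι E))), ∃ m' ∈ D.cen (im ι E), D.Rp v m' := by
    intro v hv
    induction hv using closure_induction with
    | mem v hv =>
      obtain ⟨a, ha, h6⟩ := hv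
      obtain ⟨m', h7, h8⟩ := D.exists_rp_rf ha.1
      refine ⟨m', (sup_le_sup_left (sup_le ?_ ?_) _ : _ ≤ D.cen (im ι E)) h7, D.eq_rf ha.1 h6 ▸ h8⟩
      exacts [RGD.le_Sup (S := D.Sz (im ι E)) ha, RGD.le_Sup (S := D.Sz (im ι E)) (D.Sz_neg ha)]
    | one => exact ⟨1, one_mem _, rp_of_mem (one_mem _)⟩
    | mul _ _ _ _ h h' =>
      obtain ⟨a, a1, a2⟩ := h
      obtain ⟨b, b1, b2⟩ := h'
      exact ⟨_, mul_mem a1 b1, a2.mul b2⟩
    | inv _ _ h =>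
      obtain ⟨a, a1, a2⟩ := h
      exact ⟨_, inv_mem a1, a2.inv⟩
  obtain ⟨m', h6, h7⟩ := h5 w h4
  rw [h3]
  refine mul_mem (D.S_le_cen _ hc) ?_
  simpa using mul_mem h6 (D.T_le_cen _ (Rp.unique h7 hm))

theorem card_cz (hP : PPr D.cs D.h) (h2 : Sat 2 (D.Lam (im ι E))) :
    Nat.card (Cz E) ≤ (p ^ n) ^ (Ps D.cs D.h (D.Lam (im ι E))).ncard * (p ^ n + 1) ^ Fintype.card D.I := by
  have h1 := CI.card_cen_dat hM.fq D hZ (hM.g_Sz hZ)
  rw [hM.cardR] at h1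
  have := D.amb.finite_GF (D.cen (im ι E))
  refine le_trans ?_ h1
  exact Nat.card_le_card_of_injective (fun g => (⟨ι g, hM.mem_cen hZ hP h2 g.2, hM.fix _⟩ : GF F (D.cen (im ι E))))
    fun a b h => Subtype.ext (hM.inj (congrArg Subtype.val h))

/-- elements of order `p` of the centraliser -/
theorem mem_S (hP : PPr D.cs D.h) (h2 : Sat 2 (D.Lam (im ι E))) {g : K} (hg : g ∈ Cz E) (h : g ^ p = 1) :
    ι g ∈ D.S (D.Sz (im ι E)) := by
  obtain ⟨s, hs, t, ht, e⟩ := (D.mem_TS D.Sz_root).1 (hM.mem_cen hZ hP h2 hg)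
  have h3 := mul_pow_mem hs (fun u hu => D.conj_mem_S_of_T D.Sz_root ht hu) p
  rw [← e, ← map_pow, h, map_one, one_mul, inv_mem_iff] at h3
  have h4 : (orderOf t).Coprime p := by
    rw [Nat.coprime_comm, (Fact.out : p.Prime).coprime_iff_not_dvd]
    rintro ⟨c, hc⟩
    have h5 := (D.amb.isOfFinOrder t).orderOf_pos
    have h6 := St.eq_one_of_pow D (pow_mem ht c) (by rw [← pow_mul, mul_comm, ← hc, pow_orderOf_eq_one])
    have h7 := Nat.le_of_dvd (Nat.pos_of_mul_pos_left (hc ▸ h5)) (orderOf_dvd_of_pow_eq_one h6)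
    have h8 := (Fact.out : p.Prime).two_le
    have h9 : 0 < c := Nat.pos_of_mul_pos_left (hc ▸ h5)
    nlinarith
  obtain ⟨m, hm⟩ := exists_pow_eq_self_of_coprime h4.symm
  rw [e]
  exact mul_mem hs (hm ▸ pow_mem h3 m)

/-! ### no root is trivial on `E` -/

theorem mem_T (hP : PPr D.cs D.h) (h2 : Sat 2 (D.Lam (im ι E))) (h0 : D.Sz (im ι E) = ∅) {g : K} (hg : g ∈ Cz E) :
    ι g ∈ D.T := by
  have := hM.mem_cen hZ hP h2 hg
  rwa [Datum.cen, h0, Datum.S, Nodes.OppDec.Sup_empty, sup_bot_eq] at this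

theorem relIndex_le (h0 : D.Sz (im ι E) = ∅) :
    (Cz E).relIndex (Nz E) ≤ {v : D.W | ∀ x, θ (D.act v x) = D.act v (θ x)}.ncard := by
  have h1 : ∀ g ∈ Nz E, ι g ∈ D.NN := by
    intro g hg
    obtain ⟨c, hc, m, hm, -, e⟩ := D.exists_conj_form (s := fun x : E => ι (g⁻¹ * x * g)) (t := fun x : E => ι x)
      (fun x => hZ ⟨_, by simpa using mem_Nz.1 (inv_mem hg) x x.2, rfl⟩) (fun x => hZ ⟨_, x.2, rfl⟩) (mem_top (ι g))
      (fun x => by rw [← map_mul, ← map_mul]; congr 1; group)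
    have h3 : Set.range (fun x : E => ι x) = im ι E := by
      ext z
      exact ⟨fun ⟨x, hx⟩ => ⟨x, x.2, hx⟩, fun ⟨x, hx, e⟩ => ⟨⟨x, hx⟩, e⟩⟩
    rw [h3, h0, Datum.S, Nodes.OppDec.Sup_empty, mem_bot] at hc
    rwa [e, hc, one_mul]
  have h2 : ∀ g ∈ Nz E, D.pr (ι g) ∈ {v : D.W | ∀ x, θ (D.act v x) = D.act v (θ x)} := by
    intro g hg x
    have h3 := D.Fw_eq_of_fix (D.rp_pr (h1 g hg)) (hM.fix g)
    refine hom_ext_sr (f := θ.comp (rep D.cs D.h (D.pr (ι g))).toAddMonoidHom)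
      (g := (rep D.cs D.h (D.pr (ι g))).toAddMonoidHom.comp θ) (fun i => ?_) x
    have h4 := D.g_act (D.pr (ι g)) (isRoot_sr D.cs D.h i)
    rwa [h3, hM.g, hM.g] at h4
  refine Nat.card_le_card_of_injective (β := {v : D.W | ∀ x, θ (D.act v x) = D.act v (θ x)})
    (fun c : Nz E ⧸ (Cz E).subgroupOf (Nz E) => ⟨D.pr (ι c.out), h2 _ c.out.2⟩) fun c c' h => ?_
  have h3 : D.pr (ι c.out) = D.pr (ι c'.out) := congrArg Subtype.val h
  have h4 := Rp.unique (D.rp_pr (h1 _ c.out.2)) (h3 ▸ D.rp_pr (h1 _ c'.out.2))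
  rw [← c.out_eq', ← c'.out_eq', QuotientGroup.eq, mem_subgroupOf]
  refine hM.mem_cz.2 fun z hz => ?_
  rw [coe_mul, coe_inv, map_mul, map_inv]
  exact D.T_comm (hZ hz) h4

end toral

theorem card_le_T {H : Subgroup K} (h : ∀ g ∈ H, ι g ∈ D.T) : Nat.card H ≤ Nat.card ↥(D.T ⊓ GF F ⊤) :=
  have := D.amb.finite_GF ⊤
  have : Finite ↥(D.T ⊓ GF F ⊤) := Finite.of_injective _ (inclusion_injective inf_le_right)
  Nat.card_le_card_of_injective (fun g => (⟨ι g, h g g.2, trivial, hM.fix _⟩ : ↥(D.T ⊓ GF F ⊤)))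
    fun _ _ h => Subtype.ext (hM.inj (congrArg Subtype.val h))

theorem not_dvd {H : Subgroup K} (h : ∀ g ∈ H, ι g ∈ D.T) : ¬ p ∣ Nat.card H := by
  intro h1
  obtain ⟨v, hv⟩ := exists_prime_orderOf_dvd_card' p h1
  have h2 := St.eq_one_of_pow D (h v v.2) (by rw [← map_pow, ← hv, ← Subgroup.orderOf_coe, pow_orderOf_eq_one, map_one])
  have h3 : v = 1 := Subtype.ext (hM.inj (by rw [h2, coe_one, map_one]))
  rw [h3, orderOf_one] at hv
  exact (Fact.out : p.Prime).one_lt.ne hv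

theorem card_three {H : Subgroup K} (h : ∀ g ∈ H, ι g ∈ D.T) :
    {v | v ∈ H ∧ v ^ 3 = 1}.ncard ≤ 3 ^ Fintype.card D.I := by
  have h1 : ∀ v : {v | v ∈ H ∧ v ^ 3 = 1}, ∀ j, D.crd (ι v) j ∈ rootsOfUnity 3 k := by
    rintro ⟨v, hv, h3⟩ j
    have : D.crd (ι v) ^ 3 = 1 := D.τ_inj (by rw [map_pow, D.τ_crd (h v hv), ← map_pow, h3, map_one, map_one])
    exact congrFun this j
  refine le_trans (Nat.card_le_card_of_injective (β := D.R → rootsOfUnity 3 k) (fun v j => ⟨_, h1 v j⟩) fun v w e => ?_) ?_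
  · refine Subtype.ext (hM.inj ?_)
    rw [← D.τ_crd (h v v.2.1), ← D.τ_crd (h w w.2.1)]
    congr 1
    funext j
    exact congrArg Subtype.val (congrFun e j)
  · rw [Nat.card_fun, Nat.card_eq_fintype_card (α := D.R), hM.cardR]
    exact Nat.pow_le_pow_left (card_rootsOfUnity k 3) _

theorem card_T (hT : RT D.cs D.h θ) : Nat.card ↥(D.T ⊓ GF F ⊤) ≤ ((p ^ n) ^ 2 + p ^ n + 1) ^ 2 := by
  rw [D.card_TF]
  have h0 := hom_ext_sr (f := D.ψ.comp θ) (g := ((p ^ n : ℕ) : ℤ) • AddMonoidHom.id (D.I → ℤ)) fun i => by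
    have h2 := D.ψ_g (isRoot_sr D.cs D.h i)
    rw [hM.g, hM.ex _ (isRoot_sr D.cs D.h i)] at h2
    exact h2.trans (by push_cast; rfl)
  have h1 := hT.tor (p ^ n) D.ψ.toIntLinearMap fun x => h0 x
  let e : (D.I → ℤ) ≃ₗ[ℤ] (D.R → ℤ) := (AddEquiv.ofBijective D.wt hM.wt).toIntLinearEquiv
  have h3 : (e : (D.I → ℤ) →ₗ[ℤ] (D.R → ℤ)) ∘ₗ (D.ψ.toIntLinearMap - 1) ∘ₗ (e.symm : (D.R → ℤ) →ₗ[ℤ] (D.I → ℤ)) =
      Matrix.toLin' (D.Mx - 1).transpose := by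
    refine LinearMap.ext fun y => ?_
    obtain ⟨x, rfl⟩ := e.surjective y
    rw [LinearMap.comp_apply, LinearMap.comp_apply, LinearEquiv.coe_coe, LinearEquiv.coe_coe, e.symm_apply_apply,
      Matrix.toLin'_apply, Matrix.mulVec_transpose, Matrix.vecMul_sub, Matrix.vecMul_one]
    show D.wt (D.ψ x - x) = Matrix.vecMul (D.wt x) D.Mx - D.wt x
    rw [map_sub, D.wt_ψ]
  rwa [← LinearMap.det_conj _ e, h3, LinearMap.det_toLin', Matrix.det_transpose] at h1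

/-- an adapted frame -/
theorem frame (ht : ∃ g : Y, ∀ x ∈ E, g * ι x * g⁻¹ ∈ D.T) :
    ∃ (y : Y) (hy : y ∈ (⊤ : Subgroup Y)) (hy' : y⁻¹ * F y ∈ D.NN) (z : Y) (hz : z ∈ (⊤ : Subgroup Y))
      (hz' : z⁻¹ * F z ∈ (D.conj hy hy').NN), im ι E ⊆ ((D.conj hy hy').conj hz hz').T ∧
      ∀ a ∈ ((D.conj hy hy').conj hz hz').Sz (im ι E), 0 ≤ a → 0 ≤ ((D.conj hy hy').conj hz hz').g a := by
  obtain ⟨g, hg⟩ := ht
  obtain ⟨y, hy, hy', h1, -⟩ := Max.exists_conj_le_T D (Z := im ι E) (x := g⁻¹)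
    (by rintro _ ⟨x, hx, rfl⟩; exact ⟨x, hx, (hM.fix x).symm⟩) trivial
    (by rintro _ ⟨x, hx, rfl⟩; rw [inv_inv]; exact hg x hx)
  obtain ⟨z, hz, hz', h2, -, h3⟩ := Max.exists_reframe (D.conj hy hy') h1 ((hM.conj hy hy').g_Sz h1)
  have h4 : ∀ t ∈ im ι E, z * t * z⁻¹ = t := fun t ht => by
    rw [← (D.conj hy hy').cen_le_centralizer h1 h2 t ht, mul_inv_cancel_right]
  refine ⟨y, hy, hy', z, hz, hz', fun t ht => ?_, fun a ha => h3 a ⟨ha.1, fun t ht => ?_⟩⟩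
  · rw [← h4 t ht]
    exact mem_map_of_mem _ (h1 ht)
  · rw [← (D.conj hy hy').conj_χ hz hz' a (h1 ht), h4 t ht]
    exact ha.2 t ht

end Md

end Cfsg.Agent.SB.Low
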