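import Cfsg.Agent.SB.Low.TabA

/-!
# S5765 : root tables for `G₂` (helper61)

`boxTabG : BoxTabG`.
-/

set_option autoImplicit false
set_option linter.unusedSectionVars false

namespace Cfsg.Agent.SB.Low

open Subgroup Cfsg Cfsg.Lie CoxeterSystem
open Cfsg.Agent.ChevalleyStructure.CoxeterGeom Cfsg.Agent.ChevalleyStructure.CoxeterGeomTypes Cfsg.Agent.Tits.Roots
  Cfsg.Agent.Nodes.Reps Cfsg.Agent.Nodes.Coroot Cfsg.Agent.Nodes.RGDChev Cfsg.Lie.ChevalleyDatum

namespace Tab.G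

/-- two integers -/
abbrev T2 : Type := ℤ × ℤ

/-- the images of the two simple roots -/
abbrev M2 : Type := T2 × T2

/-- the tuple -/
def vt (x : Fin 2 → ℤ) : T2 := (x 0, x 1)

/-- the vector -/
def tv (x : T2) : Fin 2 → ℤ := ![x.1, x.2]

theorem tv_vt (x : Fin 2 → ℤ) : tv (vt x) = x := by
  funext i; fin_cases i <;> rfl

theorem vt_inj : Function.Injective vt := fun x y e => by rw [← tv_vt x, e, tv_vt]

theorem vt_add (x y : Fin 2 → ℤ) : vt (x + y) = vt x + vt y := rfl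
theorem vt_sub (x y : Fin 2 → ℤ) : vt (x - y) = vt x - vt y := rfl
theorem vt_neg (x : Fin 2 → ℤ) : vt (-x) = -vt x := rfl
theorem vt_smul (c : ℤ) (x : Fin 2 → ℤ) : vt (c • x) = c • vt x := rfl

/-- the invariant form -/
def bf (x y : T2) : ℤ := 2 * x.1 * y.1 - 3 * x.1 * y.2 - 3 * x.2 * y.1 + 6 * x.2 * y.2

/-- the determinant -/
def dt (x y : T2) : ℤ := x.1 * y.2 - x.2 * y.1

/-- the action of a matrix -/
def ap (m : M2) (x : T2) : T2 := (x.1 * m.1.1 + x.2 * m.2.1, x.1 * m.1.2 + x.2 * m.2.2)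

/-- the reflection -/
def rf (c x : T2) : T2 := x - (2 * bf x c / bf c c) • c

/-- the product with a reflection -/
def rm (c : T2) (m : M2) : M2 := (rf c m.1, rf c m.2)

/-- non-negative vectors -/
def pos (x : T2) : Bool := decide (0 ≤ x.1) && decide (0 ≤ x.2)

/-- the roots -/
def RL : List T2 :=
  [(-3, -2), (-3, -1), (-2, -1), (-1, -1), (-1, 0), (0, -1), (0, 1), (1, 0), (1, 1), (2, 1), (3, 1), (3, 2)]

/-- the Weyl group by reflection length, with a root `c` and a vector `x` such that `(m - 1) x = 4 c` -/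
def PL : List (M2 × T2 × T2) :=
  [(((1, 0), (0, 1)), (-3, -2), (-3, -2)),
   (((-2, -1), (3, 2)), (3, 1), (-4, 0)),
   (((-1, -1), (0, 1)), (2, 1), (-4, 0)),
   (((-1, 0), (3, 1)), (1, 0), (-2, 0)),
   (((1, 0), (-3, -1)), (3, 2), (0, -4)),
   (((1, 1), (0, -1)), (0, 1), (0, -2)),
   (((2, 1), (-3, -2)), (-1, -1), (-1, 1)),
   (((-2, -1), (3, 1)), (3, 1), (-4, 0)),
   (((-1, -1), (3, 2)), (2, 1), (-4, 0)),
   (((-1, 0), (0, -1)), (1, 0), (-2, 0)),
   (((1, 1), (-3, -2)), (0, -1), (-4, 0)),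
   (((2, 1), (-3, -1)), (-1, -1), (-4, 0))]

/-- the Weyl group -/
def WL : List M2 := PL.map Prod.fst

theorem vec_mem : ∀ s < 12, vt (vec chevG2 2 s) ∈ RL := by decide +kernel

theorem mem_vec : ∀ x ∈ RL, ∃ s < 12, vt (vec chevG2 2 s) = x := by decide +kernel

theorem cartan_eq : ∀ i j : Fin 2, cartanOf chevG2 2 i j = (![![2, -3], ![-1, 2]] : Fin 2 → Fin 2 → ℤ) i j := by
  decide +kernel

theorem chk_bf : ∀ c ∈ RL, bf c c ≠ 0 := by decide +kernel

theorem chk_W : ∀ m ∈ WL, ∀ i : Fin 2, rm (vt (sr i)) m ∈ WL := by decide +kernel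

theorem chk_pp : ∀ p ∈ PL, p.1 = ((1, 0), (0, 1)) ∨ (p.2.1 ∈ RL ∧ ap p.1 p.2.2 - p.2.2 = (4 : ℤ) • p.2.1 ∧
    WL.idxOf (rm p.2.1 p.1) < WL.idxOf p.1) := by decide +kernel

theorem chk_six : ∀ a ∈ RL, (RL.filter fun b => !un (dt a b)).length ≤ 6 ∧ (RL.filter fun b => dt a b == 0).length ≤ 2 ∧
    ∀ b ∈ RL, dt a b = 0 ∨ un (dt a b) = true ∨ dt a b = 3 ∨ dt a b = -3 := by decide +kernel

theorem chk_fix : ∀ m ∈ WL, ∀ a ∈ RL, pos (ap m a) = true → pos (ap m (ap m a)) = true →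
    pos (ap m (ap m (ap m a))) = true → pos a = true → ap m a = a ∨
      (a + ap m a ∈ RL ∧ ap m (a + ap m a) = a + ap m a) ∨
      (a - ap m a ∈ RL ∧ pos (a - ap m a) = true ∧ pos (ap m (a - ap m a)) = false) ∨
      (ap m a - a ∈ RL ∧ pos (ap m a - a) = true ∧ pos (ap m (ap m a - a)) = false) := by decide +kernel

theorem chk_orth : ∀ m ∈ WL, ∀ a ∈ RL, ap m a = a → ∃ b ∈ RL, (ap m b = b ∨ ap m b = -b) ∧ dt a b = 2 := by
  decide +kernel

theorem pos_iff (x : Fin 2 → ℤ) : pos (vt x) = true ↔ 0 ≤ x := by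
  rw [pos, Bool.and_eq_true, decide_eq_true_iff, decide_eq_true_iff, Pi.le_def, Fin.forall_fin_two]
  rfl

theorem cramer (a b x : Fin 2 → ℤ) : dt (vt a) (vt b) • x = dt (vt x) (vt b) • a + dt (vt a) (vt x) • b := by
  funext i
  fin_cases i <;> simp [dt, vt] <;> ring

theorem cramer_mem {Λ : AddSubgroup (Fin 2 → ℤ)} {a b : Fin 2 → ℤ} (ha : a ∈ Λ) (hb : b ∈ Λ) (x : Fin 2 → ℤ) :
    dt (vt a) (vt b) • x ∈ Λ := cramer a b x ▸ add_mem (Λ.zsmul_mem ha _) (Λ.zsmul_mem hb _)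

variable {W : Type} [Group W] [Finite W] (cs : CoxeterSystem CoxeterMatrix.G₂ W)

theorem root_iff (x : Fin 2 → ℤ) : IsRoot cs hpG2.isCartan x ↔ vt x ∈ RL := by
  rw [isRoot_iff hpG2 cs]
  constructor
  · rintro ⟨s, hs, rfl⟩
    exact vec_mem s hs
  · intro h
    obtain ⟨s, hs, h1⟩ := mem_vec _ h
    exact ⟨s, hs, vt_inj h1⟩

theorem bf_rep (w : W) (x y : Fin 2 → ℤ) :
    bf (vt (rep cs hpG2.isCartan w x)) (vt (rep cs hpG2.isCartan w y)) = bf (vt x) (vt y) := by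
  induction w using cs.simple_induction_left with
  | one => rw [map_one]; rfl
  | mul_simple_left w i ih =>
    rw [rep_mul_apply, rep_mul_apply, rep_simple, ← ih]
    generalize rep cs hpG2.isCartan w x = a
    generalize rep cs hpG2.isCartan w y = b
    fin_cases i <;> simp [refl_apply, pairing, cartan_eq, bf, vt] <;> ring

theorem cpr_eq (x : Fin 2 → ℤ) {c : Fin 2 → ℤ} (hc : IsRoot cs hpG2.isCartan c) :
    cpr cs hpG2.isCartan x c = 2 * bf (vt x) (vt c) / bf (vt c) (vt c) := by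
  obtain ⟨s, hs⟩ := exists_rf cs _ hc
  have h1 := bf_rep cs s x c
  rw [hs, hs, cpr_self cs _ hc] at h1
  have h2 : 2 * bf (vt x) (vt c) = cpr cs hpG2.isCartan x c * bf (vt c) (vt c) := by
    simp only [bf, vt, Pi.sub_apply, Pi.smul_apply, smul_eq_mul] at h1 ⊢
    linear_combination -h1
  rw [h2, Int.mul_ediv_cancel _ (chk_bf _ ((root_iff cs c).1 hc))]

/-- the matrix -/
noncomputable def mat (w : W) : M2 := (vt (rep cs hpG2.isCartan w (sr 0)), vt (rep cs hpG2.isCartan w (sr 1)))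

theorem ap_mat (w : W) (x : Fin 2 → ℤ) : vt (rep cs hpG2.isCartan w x) = ap (mat cs w) (vt x) := by
  conv_lhs => rw [Nodes.SimplyLaced.eq_sum_sr x, Fin.sum_univ_two, map_add, map_smul, map_smul]
  rfl

theorem mat_inj : Function.Injective (mat cs) := fun v w e => rep_injective cs hpG2.isCartan
  (LinearMap.ext fun x => vt_inj (by rw [ap_mat, ap_mat, e]))

theorem mat_one : mat cs 1 = ((1, 0), (0, 1)) := by
  rw [mat, map_one]; rfl

theorem mat_mul {c : Fin 2 → ℤ} (hc : IsRoot cs hpG2.isCartan c) {s : W}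
    (hs : ∀ b, rep cs hpG2.isCartan s b = b - cpr cs hpG2.isCartan b c • c) (v : W) :
    mat cs (s * v) = rm (vt c) (mat cs v) := by
  simp only [mat, rep_mul_apply, hs, cpr_eq cs _ hc]
  rfl

theorem mat_mem (w : W) : mat cs w ∈ WL := by
  induction w using cs.simple_induction_left with
  | one => rw [mat_one]; decide +kernel
  | mul_simple_left w i ih =>
    rw [mat_mul cs (isRoot_sr cs _ i) (simple_rf cs _ i)]
    exact chk_W _ ih i

theorem rg : RG cs hpG2.isCartan where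
  cardI := rfl
  cardW := by
    rw [← Set.ncard_univ]
    exact ncard_le (mat_inj cs) WL (by decide +kernel) fun w _ => mat_mem cs w
  pp := pp_of cs _ (fun v => WL.idxOf (mat cs v)) fun v => by
    obtain ⟨p, hp, e⟩ := List.mem_map.1 (mat_mem cs v)
    rcases chk_pp p hp with h | ⟨h1, h2, h3⟩
    · exact Or.inl (mat_inj cs (by rw [← e, h, mat_one]))
    · have hc := (root_iff cs (tv p.2.1)).2 h1
      refine Or.inr ⟨tv p.2.1, tv p.2.2, hc, vt_inj ?_, fun s hs => ?_⟩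
      · rw [vt_sub, ap_mat, ← e]
        exact h2
      · rw [mat_mul cs hc hs, ← e]
        exact h3
  six := fun Λ hΛ ⟨x, hx⟩ => by
    rcases (Ps cs hpG2.isCartan Λ).eq_empty_or_nonempty with e | ⟨a, ha⟩
    · rw [e, Set.ncard_empty]; norm_num
    refine ncard_le vt_inj _ (chk_six _ ((root_iff cs a).1 ha.1)).1 fun b hb =>
      List.mem_filter.2 ⟨(root_iff cs b).1 hb.1, ?_⟩
    rw [Bool.not_eq_true', ← Bool.not_eq_true]
    exact fun h => hx (mem_of_un hΛ h (cramer_mem ha.2 hb.2 x))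
  two := fun Λ hΛ hΛ' ⟨x, hx⟩ => by
    rcases (Ps cs hpG2.isCartan Λ).eq_empty_or_nonempty with e | ⟨a, ha⟩
    · rw [e, Set.ncard_empty]; norm_num
    have h0 := chk_six _ ((root_iff cs a).1 ha.1)
    refine ncard_le vt_inj _ h0.2.1 fun b hb => List.mem_filter.2 ⟨(root_iff cs b).1 hb.1, ?_⟩
    have h1 := cramer_mem ha.2 hb.2 x
    rcases h0.2.2 _ ((root_iff cs b).1 hb.1) with h | h | h | h
    · exact beq_iff_eq.2 h
    · exact absurd (mem_of_un hΛ h h1) hx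
    · exact absurd (hΛ' x (h ▸ h1)) hx
    · rw [h] at h1
      exact absurd (hΛ' x (by simpa using neg_mem h1)) hx
  fix := fun w Λ ⟨a, ha⟩ H => by
    wlog h0 : 0 ≤ a generalizing a
    · exact this (-a) ⟨ha.1.neg, neg_mem ha.2⟩ (ha.1.not_nonneg_iff_neg.1 h0)
    have h1 := H a ha h0
    have h2 := H _ ⟨ha.1.act w, h1.1⟩ h1.2
    have h3 := H _ ⟨(ha.1.act w).act w, h2.1⟩ h2.2
    have h4 := chk_fix _ (mat_mem cs w) _ ((root_iff cs a).1 ha.1)
    simp only [← ap_mat, ← vt_add, ← vt_sub, ← root_iff cs, ← Bool.not_eq_true, pos_iff, vt_inj.eq_iff] at h4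
    rcases h4 h1.2 h2.2 h3.2 h0 with h | h | h | h
    · exact ⟨a, ha, h⟩
    · exact ⟨_, ⟨h.1, add_mem ha.2 h1.1⟩, h.2⟩
    · exact absurd (H _ ⟨h.1, sub_mem ha.2 h1.1⟩ h.2.1).2 h.2.2
    · exact absurd (H _ ⟨h.1, sub_mem h1.1 ha.2⟩ h.2.1).2 h.2.2
  orth := fun w a ha h => by
    obtain ⟨b, hb, h1, h2⟩ := chk_orth _ (mat_mem cs w) _ ((root_iff cs a).1 ha) (by rw [← ap_mat, h])
    refine ⟨tv b, (root_iff cs _).2 hb, h1.imp (fun e => vt_inj ?_) (fun e => vt_inj ?_), fun x => ?_⟩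
    · rw [ap_mat]; exact e
    · rw [ap_mat]; exact e
    · rw [← h2]
      exact ⟨_, _, cramer a (tv b) x⟩

end Tab.G

theorem boxTabG : BoxTabG :=
  have := finite_W hpG2 CoxeterMatrix.G₂.toCoxeterSystem
  Tab.G.rg _

end Cfsg.Agent.SB.Low
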