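import Cfsg.Agent.SB.Low.Defs
import Cfsg.Agent.StdL2.G23Aut

/-!
# S5765, low rank: the automiser of an elementary abelian group of order `4` or `8` (helper30)
-/

set_option autoImplicit false
set_option maxHeartbeats 200000

namespace Cfsg.Agent.SB.Low

open Subgroup

theorem twoA_card_aut_four {V : Type*} [Group V] (h : Nat.card V = 4) : Nat.card (MulAut V) ≤ 6 := by
  classical
  have : Finite V := Nat.finite_of_card_ne_zero (by rw [h]; norm_num)
  have := Fintype.ofFinite V
  let f : MulAut V → Equiv.Perm {x : V // x ≠ 1} := fun φ =>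
    Equiv.Perm.subtypePerm φ.toEquiv (fun x => by
      change φ x ≠ 1 ↔ x ≠ 1
      rw [ne_eq, MulEquiv.map_eq_one_iff])
  have hf : Function.Injective f := by
    intro φ ψ e
    ext x
    by_cases hx : x = 1
    · rw [hx, map_one, map_one]
    · exact congrArg (fun g : Equiv.Perm {x : V // x ≠ 1} => (g ⟨x, hx⟩).1) e
  have h1 := Nat.card_le_card_of_injective f hf
  have h2 : Nat.card {x : V // x ≠ 1} = 3 := by
    rw [Nat.card_eq_fintype_card, Fintype.card_subtype_compl, Fintype.card_subtype_eq, ← Nat.card_eq_fintype_card, h]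
  rw [Nat.card_perm, h2] at h1
  exact h1

theorem twoA_relIndex {K : Type} [Group K] (E : Subgroup K) :
    (Cz E).relIndex (Nz E) = Nat.card E.normalizerMonoidHom.range := by
  rw [← index_ker, normalizerMonoidHom_ker]
  rfl

/-- [Aut] -/
theorem boxAut : BoxAut := by
  intro K _ _ E hE hs
  rw [twoA_relIndex]
  refine ⟨fun h => ?_, fun h => ?_⟩
  · exact (card_le_card_group _).trans (twoA_card_aut_four h)
  · have hsq : ∀ v : E, v * v = 1 := fun v => Subtype.ext (by
      have := hE.pow v v.2
      rwa [pow_two] at this)
    have hc := StdL2.G23Aut.card_aut hsq h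
    have := StdL2.G23Aut.simple_aut hsq h
    have hne : E.normalizerMonoidHom.range ≠ ⊤ := by
      intro ht
      have h1 : Group.IsSolvable (MulAut E) := Group.isSolvable_of_surjective (MonoidHom.range_eq_top.1 ht)
      have h2 := IsSimpleGroup.comm_iff_isSolvable.2 h1
      let _ : CommGroup (MulAut E) := { (inferInstance : Group (MulAut E)) with mul_comm := h2 }
      have h3 : (Nat.card (MulAut E)).Prime := IsSimpleGroup.prime_card
      rw [hc] at h3
      exact absurd h3 (by norm_num)
    have h1 := SmallSimple.Simple168Klein.index_ge_seven hc _ hne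
    have h2 := E.normalizerMonoidHom.range.card_mul_index
    rw [hc] at h2
    nlinarith

end Cfsg.Agent.SB.Low
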