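import Cfsg.Agent.H165.RV.HexLin

/-!
# S5765, low rank: a four-subgroup of `PGL₂` is its own centraliser (helper30)
-/

set_option autoImplicit false
set_option maxHeartbeats 200000

namespace Cfsg.Agent.SB.Low.TwoL

open Cfsg.Agent.Lib.SL2Mat Cfsg.Agent.H165.RV.Hex

variable {K : Type*} [Field K]

theorem scalar_of_comm (h2 : (2 : K) ≠ 0) {A B N : Matrix (Fin 2) (Fin 2) K} (tA : A.trace = 0) (tB : B.trace = 0)
    (tAB : (A * B).trace = 0) (dA : A.det ≠ 0) (dB : B.det ≠ 0) (hA : N * A = A * N) (hB : N * B = B * N) :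
    N 0 1 = 0 ∧ N 1 0 = 0 ∧ N 0 0 = N 1 1 := by
  rw [Matrix.trace_fin_two] at tA tB tAB
  rw [Matrix.mul_apply, Matrix.mul_apply, Fin.sum_univ_two, Fin.sum_univ_two] at tAB
  rw [Matrix.det_fin_two] at dA dB
  have hents : ∀ P : Matrix (Fin 2) (Fin 2) K, N * P = P * N → P 0 0 + P 1 1 = 0 →
      N 0 1 * P 1 0 = P 0 1 * N 1 0 ∧ (N 0 0 - N 1 1) * P 0 1 = 2 * P 0 0 * N 0 1 ∧
        (N 0 0 - N 1 1) * P 1 0 = 2 * P 0 0 * N 1 0 := by
    intro P hP tP
    have e00 := congrFun (congrFun hP 0) 0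
    have e01 := congrFun (congrFun hP 0) 1
    have e10 := congrFun (congrFun hP 1) 0
    rw [Matrix.mul_apply, Matrix.mul_apply, Fin.sum_univ_two, Fin.sum_univ_two] at e00 e01 e10
    refine ⟨?_, ?_, ?_⟩
    · linear_combination e00
    · linear_combination e01 - N 0 1 * tP
    · linear_combination -e10 - N 1 0 * tP
  obtain ⟨a1, a2, a3⟩ := hents A hA tA
  obtain ⟨b1, b2, b3⟩ := hents B hB tB
  have hA' : A 1 1 = -A 0 0 := by linear_combination tA
  have hB' : B 1 1 = -B 0 0 := by linear_combination tB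
  rw [hA'] at dA tAB
  rw [hB'] at dB tAB
  obtain ⟨u, hu⟩ : ∃ u, u = N 0 0 - N 1 1 := ⟨_, rfl⟩
  rw [← hu] at a2 a3 b2 b3
  obtain ⟨s, hs⟩ : ∃ s, s = u * A 0 0 + N 0 1 * A 1 0 + N 1 0 * A 0 1 := ⟨_, rfl⟩
  have s1 : 2 * s * B 0 0 = 0 := by
    rw [hs]
    linear_combination u * tAB - A 1 0 * b2 - A 0 1 * b3
  have s2 : s * B 0 1 = 0 := by
    rw [hs]
    linear_combination N 0 1 * tAB + A 0 0 * b2 - A 0 1 * b1
  have s0 : s = 0 := by
    have h : 2 * s * (B 0 0 * -B 0 0 - B 0 1 * B 1 0) = 0 := by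
      linear_combination -B 0 0 * s1 - 2 * B 1 0 * s2
    exact (mul_eq_zero.1 ((mul_eq_zero.1 h).resolve_right dB)).resolve_left h2
  rw [s0] at hs
  refine ⟨?_, ?_, ?_⟩
  · have h : 2 * N 0 1 * (A 0 0 * -A 0 0 - A 0 1 * A 1 0) = 0 := by
      linear_combination A 0 1 * hs + A 0 0 * a2 - A 0 1 * a1
    exact (mul_eq_zero.1 ((mul_eq_zero.1 h).resolve_right dA)).resolve_left h2
  · have h : 2 * N 1 0 * (A 0 0 * -A 0 0 - A 0 1 * A 1 0) = 0 := by
      linear_combination A 1 0 * hs + A 0 0 * a3 + A 1 0 * a1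
    exact (mul_eq_zero.1 ((mul_eq_zero.1 h).resolve_right dA)).resolve_left h2
  · have h : 2 * u * (A 0 0 * -A 0 0 - A 0 1 * A 1 0) = 0 := by
      linear_combination 2 * A 0 0 * hs - A 1 0 * a2 - A 0 1 * a3
    have h3 : u = 0 := (mul_eq_zero.1 ((mul_eq_zero.1 h).resolve_right dA)).resolve_left h2
    rw [h3] at hu
    linear_combination -hu

/-- commuting in `PGL₂` -/
theorem comm_or_anti {M A : GL (Fin 2) K} (h : conjGL M * conjGL A = conjGL A * conjGL M) :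
    M.1 * A.1 = A.1 * M.1 ∨ M.1 * A.1 = -(A.1 * M.1) := by
  have h1 : conjGL (M * A * (A * M)⁻¹) = 1 := by
    rw [map_mul, map_inv, map_mul, map_mul, h, mul_inv_cancel]
  obtain ⟨e1, e2, e3⟩ := conjGL_eq_one_iff.1 h1
  obtain ⟨P, hP⟩ : ∃ P, P = M * A * (A * M)⁻¹ := ⟨_, rfl⟩
  rw [← hP] at e1 e2 e3
  have h3 : P * (A * M) = M * A := by rw [hP]; group
  have h4 : P.1 * (A.1 * M.1) = M.1 * A.1 := congrArg Units.val h3
  have h5 : P.1 = P.1 0 0 • (1 : Matrix (Fin 2) (Fin 2) K) := by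
    ext i j
    fin_cases i <;> fin_cases j <;> simp [e1, e2, e3]
  rw [h5, smul_mul_assoc, Matrix.one_mul] at h4
  have h6 := congrArg Matrix.det h4
  rw [Matrix.det_smul, Matrix.det_mul, Matrix.det_mul, Fintype.card_fin] at h6
  have h7 : (P.1 0 0 - 1) * (P.1 0 0 + 1) * (A.1.det * M.1.det) = 0 := by linear_combination h6
  rcases mul_eq_zero.1 ((mul_eq_zero.1 h7).resolve_right (mul_ne_zero (det_ne A) (det_ne M))) with h8 | h8
  · left
    rw [← h4, sub_eq_zero.1 h8, one_smul]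
  · right
    rw [← h4, eq_neg_of_add_eq_zero_left h8, neg_smul, one_smul]

/-- **a four-subgroup of `PGL₂` is its own centraliser** -/
theorem cent_four (h2 : (2 : K) ≠ 0) {A B M : GL (Fin 2) K} (hA : conjGL A ≠ 1 ∧ conjGL A * conjGL A = 1)
    (hB : conjGL B ≠ 1 ∧ conjGL B * conjGL B = 1) (hAB : conjGL (A * B) ≠ 1 ∧ conjGL (A * B) * conjGL (A * B) = 1)
    (h1 : conjGL M * conjGL A = conjGL A * conjGL M) (h3 : conjGL M * conjGL B = conjGL B * conjGL M) :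
    conjGL M = 1 ∨ conjGL (M * A) = 1 ∨ conjGL (M * B) = 1 ∨ conjGL (M * (A * B)) = 1 := by
  have tA := trace_zero hA.1 hA.2
  have tB := trace_zero hB.1 hB.2
  have tAB := trace_zero hAB.1 hAB.2
  rw [Units.val_mul] at tAB
  have an := anti_of_trace tA tB tAB
  have key : ∀ N : GL (Fin 2) K, N.1 * A.1 = A.1 * N.1 → N.1 * B.1 = B.1 * N.1 → conjGL N = 1 := fun N k1 k2 =>
    conjGL_eq_one_iff.2 (scalar_of_comm h2 tA tB tAB (det_ne A) (det_ne B) k1 k2)
  have an' : B.1 * A.1 = -(A.1 * B.1) := by rw [an, neg_neg]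
  rcases comm_or_anti h1 with e1 | e1 <;> rcases comm_or_anti h3 with e2 | e2
  · exact Or.inl (key M e1 e2)
  · refine Or.inr (Or.inl (key _ ?_ ?_))
    · rw [Units.val_mul, ← Matrix.mul_assoc, ← e1]
    · rw [Units.val_mul, Matrix.mul_assoc, an, Matrix.mul_neg, ← Matrix.mul_assoc, e2, Matrix.neg_mul, neg_neg,
        Matrix.mul_assoc]
  · refine Or.inr (Or.inr (Or.inl (key _ ?_ ?_)))
    · rw [Units.val_mul, Matrix.mul_assoc, an', Matrix.mul_neg, ← Matrix.mul_assoc, e1, Matrix.neg_mul, neg_neg,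
        Matrix.mul_assoc]
    · rw [Units.val_mul, ← Matrix.mul_assoc, ← e2]
  · refine Or.inr (Or.inr (Or.inr (key _ ?_ ?_)))
    · rw [Units.val_mul, Units.val_mul]
      calc M.1 * (A.1 * B.1) * A.1 = M.1 * A.1 * (B.1 * A.1) := by simp only [Matrix.mul_assoc]
        _ = A.1 * (M.1 * (A.1 * B.1)) := by
          rw [an', e1, Matrix.neg_mul, Matrix.mul_neg, neg_neg, Matrix.mul_assoc]
    · rw [Units.val_mul, Units.val_mul]
      calc M.1 * (A.1 * B.1) * B.1 = -(M.1 * B.1 * (A.1 * B.1)) := by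
            nth_rewrite 1 [an]
            simp only [Matrix.mul_assoc, Matrix.mul_neg, Matrix.neg_mul]
        _ = B.1 * (M.1 * (A.1 * B.1)) := by rw [e2, Matrix.neg_mul, neg_neg, Matrix.mul_assoc]

end Cfsg.Agent.SB.Low.TwoL
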