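import Cfsg.Agent.SB.Low.Defs
import Cfsg.Agent.SB.Low.TwoLin
import Cfsg.Agent.SB.Low.TwoAut
import Cfsg.Agent.H625.IF.Unip
import Cfsg.Agent.Cit.HexG2
import Cfsg.Agent.Cit.HexD4
import Cfsg.Agent.ChevalleyStructure.FixedCard
import Cfsg.Agent.SB.C2.SolvV

/-!
# S5765, low rank: the elementary abelian `2`-subgroups of `G₂(q)` and `³D₄(q)`, `q` odd (helper30)
-/

set_option autoImplicit false
set_option maxHeartbeats 200000
set_option linter.unusedSectionVars false

namespace Cfsg.Agent.SB.Low.TwoL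

open Subgroup Cfsg.Agent.Cit.HexBase Cfsg.Agent.Lib.SL2Mat Cfsg.Agent.Cit.HexBase.HexGrp Cfsg.Agent.H625.IFx

section gen

variable {T : Type*} [Group T] {K : Type*} [Field K]

theorem act_mul (r : SL2 K →* T) {g h : T} {M N : GL (Fin 2) K} (hM : ∀ w, g * r w * g⁻¹ = r (conjGL M w))
    (hN : ∀ w, h * r w * h⁻¹ = r (conjGL N w)) (w : SL2 K) : (g * h) * r w * (g * h)⁻¹ = r (conjGL (M * N) w) := by
  rw [map_mul, MulAut.mul_apply, ← hM, ← hN]
  group

theorem act_comm (r : SL2 K →* T) (hr : Function.Injective r) {g h : T} {M N : GL (Fin 2) K}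
    (hM : ∀ w, g * r w * g⁻¹ = r (conjGL M w)) (hN : ∀ w, h * r w * h⁻¹ = r (conjGL N w)) (e : g * h = h * g) :
    conjGL M * conjGL N = conjGL N * conjGL M := by
  ext1 w
  apply hr
  rw [← map_mul, ← map_mul, ← act_mul r hM hN, ← act_mul r hN hM, e]

theorem sq_fix {s k d : T} (h : s * k * s⁻¹ = k * d) (hd : d * d = 1) (hdk : k * d = d * k) :
    s * (k * k) = (k * k) * s := by
  have h1 : s * (k * k) * s⁻¹ = k * k := by
    calc s * (k * k) * s⁻¹ = (s * k * s⁻¹) * (s * k * s⁻¹) := by group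
      _ = k * (d * k) * d := by rw [h]; group
      _ = k * k * (d * d) := by rw [← hdk]; group
      _ = k * k := by rw [hd, mul_one]
  exact mul_inv_eq_iff_eq_mul.1 h1

theorem card_le_of_aut [Finite T] (φ : MulAut T) {X Y : Subgroup T} (h : ∀ x ∈ X, φ x ∈ Y) : Nat.card X ≤ Nat.card Y :=
  Nat.card_le_card_of_injective (fun x : X => (⟨φ x, h x x.2⟩ : Y))
    (fun _ _ e => Subtype.ext (φ.injective (congrArg Subtype.val e)))

theorem pow_card_of_pow [Finite K] (p : ℕ) [CharP K p] {u : T} (h : u ^ p = 1) : u ^ Nat.card K = 1 := by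
  have := Fintype.ofFinite K
  obtain ⟨k, hk⟩ := (CharP.cast_eq_zero_iff K p _).1 (FiniteField.cast_card_eq_zero K)
  rw [Nat.card_eq_fintype_card, hk, pow_mul, h, one_pow]

theorem card_sl2_nat [Finite K] : Nat.card (SL2 K) = Nat.card K * (Nat.card K ^ 2 - 1) := by
  have := Fintype.ofFinite K
  rw [Nat.card_eq_fintype_card (α := K)]
  exact ClassicalGeometry.PSL2Basic.card_SL2 _

theorem exists_not_mem [Finite T] {H : Subgroup T} (S : Finset T) (h : S.card < Nat.card H) : ∃ x ∈ H, x ∉ S := by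
  classical
  have := Fintype.ofFinite T
  have hS : (Finset.univ.filter (· ∈ H)).card = Nat.card H := by
    rw [Nat.card_eq_fintype_card, Fintype.card_subtype]
  obtain ⟨x, hx, hxT⟩ := Finset.exists_mem_notMem_of_card_lt_card (s := S) (t := Finset.univ.filter (· ∈ H)) (by omega)
  exact ⟨x, (Finset.mem_filter.mp hx).2, hxT⟩

end gen

variable {E : Type*} [Field E] [Finite E] {σ : E ≃+* E} {T : Type} [Group T] [Finite T] (c : HexGrp σ T)

/-- an element centralising `z, a, b` lies in `⟨z, a, b⟩` -/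
theorem mem_of_comm (h2 : (2 : E) ≠ 0) {H : Subgroup T} (hH : ∀ x ∈ H, x * x = 1)
    (hc : ∀ x ∈ H, ∀ y ∈ H, x * y = y * x) (hz : c.z ∈ H) {a b g : T} (ha : a ∈ H) (hb : b ∈ H)
    (a1 : a ≠ 1) (az : a ≠ c.z) (b1 : b ≠ 1) (bz : b ≠ c.z) (ab1 : a * b ≠ 1) (abz : a * b ≠ c.z)
    (hg : ∀ x ∈ H, x * g = g * x) : g ∈ H := by
  obtain ⟨A, A', -, -, -, -, hA, hA', -⟩ := exists_act2 c h2 (hc a ha _ hz)
  obtain ⟨B, B', -, -, -, -, hB, hB', -⟩ := exists_act2 c h2 (hc b hb _ hz)
  obtain ⟨M, M', -, -, -, -, hM, -, -⟩ := exists_act2 c h2 (hg _ hz).symm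
  have iA := act_inv c h2 (hH a ha) a1 az hA hA'
  have iB := act_inv c h2 (hH b hb) b1 bz hB hB'
  have iAB := act_inv c h2 (hH _ (mul_mem ha hb)) ab1 abz (act_mul _ hA hB) (act_mul _ hA' hB')
  have key : ∀ e ∈ H, ∀ D : GL (Fin 2) E, (∀ w, (g * e) * c.pb w * (g * e)⁻¹ = c.pb (conjGL D w)) → conjGL D = 1 →
      g ∈ H := by
    intro e he D hD hD1
    obtain ⟨y, hy⟩ := c.centralizer_K1 h2 (g := g * e) (fun x => (fix_of_comm c h2 hD x).2 (by rw [hD1]; rfl))
    have hcom : ∀ x ∈ H, x * c.p4 y = c.p4 y * x := by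
      intro x hx
      rw [hy, ← mul_assoc, hg x hx, mul_assoc, hc x hx e he, mul_assoc]
    have hge : g * e ∈ H := by
      by_cases y1 : y = 1
      · rw [← hy, y1, map_one]
        exact one_mem _
      by_cases y2 : y = H165.RV.Hex.ng
      · rw [← hy, y2]
        exact c.z_eq_p4 ▸ hz
      exfalso
      have h3 := H165.RV.Hex.eq_of_fix (two_ne h2) iA.2.1 iA.2.2 iB.2.1 iB.2.2 y1 y2
        ((fix_of_comm' c hA' y).1 (hcom a ha)) ((fix_of_comm' c hB' y).1 (hcom b hb))
      apply iAB.2.1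
      rw [map_mul, h3, iB.2.2]
    exact (mul_mem_cancel_right he).1 hge
  rcases cent_four h2 iA.1 iB.1 iAB.1 (act_comm _ (c.pb_inj h2) hM hA (hg a ha).symm)
    (act_comm _ (c.pb_inj h2) hM hB (hg b hb).symm) with h | h | h | h
  · exact key 1 (one_mem _) M (by rw [mul_one]; exact hM) h
  · exact key a ha _ (act_mul _ hM hA) h
  · exact key b hb _ (act_mul _ hM hB) h
  · exact key (a * b) (mul_mem ha hb) _ (act_mul _ hM (act_mul _ hA hB)) h

/-- a four-group centralises no element of order `p` -/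
theorem unip_eq_one (h2 : (2 : E) ≠ 0) {p : ℕ} [CharP E p] (hp : Odd p) {s x : T} (hs : s * c.z = c.z * s)
    (hss : s * s = 1) (h1 : s ≠ 1) (hz : s ≠ c.z) (hx : x ^ p = 1) (hxz : x * c.z = c.z * x) (hxs : s * x = x * s) :
    x = 1 := by
  obtain ⟨k, hk⟩ := hp
  have e1 : x = x ^ (k + 1) * x ^ (k + 1) := by
    calc x = x ^ p * x := by rw [hx, one_mul]
      _ = x ^ (k + 1) * x ^ (k + 1) := by
        rw [hk, ← pow_succ, ← pow_add]
        congr 1
        ring
  have hm : x ^ (k + 1) ∈ centralizer ({c.z} : Set T) := pow_mem (mem_centralizer_singleton_iff.2 hxz) _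
  have hr : x ∈ (prodH c).range := by
    have h3 := mul_self_mem_of_index_two (relIndex_range c h2) ⟨_, hm⟩
    rw [mem_subgroupOf] at h3
    rw [e1]
    exact h3
  obtain ⟨u, w, rfl⟩ := (mem_range c).1 hr
  obtain ⟨A, A', -, -, -, -, hA, hA', -⟩ := exists_act2 c h2 hs
  have hcm : Commute (c.pb u) (c.p4 w) := c.comm_pb_p4 u w
  have hdz : ∀ d : T, d = 1 ∨ d = c.z → d * d = 1 ∧ c.pb u * d = d * c.pb u ∧ c.p4 w * d = d * c.p4 w := by
    rintro d (rfl | rfl)
    · simp
    · exact ⟨c.z_sq, pb_comm_z c u, p4_comm_z c w⟩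
  -- the action of `s`
  have e2 : c.pb (conjGL A u) * c.p4 (conjGL A' w) = c.pb u * c.p4 w := by
    rw [← hA, ← hA']
    calc _ = s * (c.pb u * c.p4 w) * s⁻¹ := by group
      _ = _ := by rw [hxs, mul_inv_cancel_right]
  have e3 : c.pb (u⁻¹ * conjGL A u) = c.p4 (w * (conjGL A' w)⁻¹) := by
    rw [map_mul, map_mul, map_inv, map_inv]
    calc (c.pb u)⁻¹ * c.pb (conjGL A u) = (c.pb u)⁻¹ * (c.pb (conjGL A u) * c.p4 (conjGL A' w)) *
          (c.p4 (conjGL A' w))⁻¹ := by group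
      _ = _ := by rw [e2]; group
  obtain ⟨d, hd⟩ : ∃ d, d = c.pb (u⁻¹ * conjGL A u) := ⟨_, rfl⟩
  obtain ⟨d1, d2, d3⟩ := hdz d (hd ▸ c.eq_of_pb_eq_p4 e3)
  have f1 : s * (c.pb u * c.pb u) = (c.pb u * c.pb u) * s := by
    refine sq_fix ?_ d1 d2
    rw [hA, hd, ← map_mul, mul_inv_cancel_left]
  have f4 : s * (c.p4 w * c.p4 w) = (c.p4 w * c.p4 w) * s := by
    refine sq_fix ?_ d1 d3
    rw [hA', d3]
    rw [e3, map_mul, map_inv] at hd
    calc c.p4 (conjGL A' w) = (d * d) * c.p4 (conjGL A' w) := by rw [d1, one_mul]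
      _ = d * c.p4 w := by
        rw [mul_assoc]
        congr 1
        rw [hd]
        group
  -- the orders
  rw [hcm.mul_pow, ← map_pow, ← map_pow] at hx
  have e4 : c.pb (u ^ p) = c.p4 (w ^ p)⁻¹ := by
    rw [map_inv]
    exact eq_inv_of_mul_eq_one_left hx
  have g1 := (hdz _ (c.eq_of_pb_eq_p4 e4)).1
  have g2 : (u * u) ^ p = 1 := by
    apply c.pb_inj h2
    rw [(Commute.refl u).mul_pow, map_mul, g1, map_one]
  have g4 : (w * w) ^ p = 1 := by
    rw [e4, ← map_mul, ← mul_inv_rev, map_inv, inv_eq_one] at g1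
    apply c.p4_inj
    rw [(Commute.refl w).mul_pow, g1, map_one]
  have k1 := cent_inv_unip_pb c h2 hs hss h1 hz (pow_card_of_pow p g2) (by rw [map_mul]; exact f1)
  have k4 := cent_inv_unip_p4 c h2 hs hss h1 hz (pow_card_of_pow p g4) (by rw [map_mul]; exact f4)
  have k5 : (c.pb u * c.p4 w) ^ 2 = 1 := by
    rw [hcm.mul_pow, pow_two, pow_two, ← map_mul, ← map_mul, k1, k4, map_one, map_one, mul_one]
  rw [e1, ← pow_add, ← two_mul, pow_mul, k5, one_pow]

include c in
theorem exists_aut (h2 : (2 : E) ≠ 0) {t : T} (ht : t * t = 1) (h1 : t ≠ 1) : ∃ φ : MulAut T, φ t = c.z := by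
  obtain ⟨g, hg⟩ := isConj_iff.1 (c.isConj_z h2 ht h1)
  exact ⟨MulAut.conj g, hg⟩

include c in
/-- an elementary abelian `2`-subgroup of order `> 4` is its own centraliser -/
theorem cent_le (h2 : (2 : E) ≠ 0) {H : Subgroup T} (hH : ∀ x ∈ H, x * x = 1) (hc : ∀ x ∈ H, ∀ y ∈ H, x * y = y * x)
    (h4 : 4 < Nat.card H) : Cz H ≤ H := by
  classical
  obtain ⟨z, hz, z1⟩ := exists_not_mem (H := H) {1} (by rw [Finset.card_singleton]; omega)
  rw [Finset.mem_singleton] at z1
  obtain ⟨a, ha, a1⟩ := exists_not_mem (H := H) {1, z} (lt_of_le_of_lt Finset.card_le_two (by omega))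
  obtain ⟨b, hb, b1⟩ := exists_not_mem (H := H) {1, z, a, a * z} (lt_of_le_of_lt Finset.card_le_four h4)
  simp only [Finset.mem_insert, Finset.mem_singleton, not_or] at a1 b1
  obtain ⟨φ, hφ⟩ := exists_aut c h2 (hH z hz) z1
  intro g hg
  have hinj : ∀ x y : T, x ≠ y → φ x ≠ φ y := fun x y h e => h (φ.injective e)
  have hone : ∀ x : T, x ≠ 1 → φ x ≠ 1 := fun x h e => h (φ.injective (e.trans (map_one φ).symm))
  have ab : ∀ v : T, b ≠ a * v → a * b ≠ v := by
    intro v h e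
    apply h
    rw [← e, ← mul_assoc, hH a ha, one_mul]
  have h5 := mem_of_comm c h2 (H := H.map φ.toMonoidHom) (a := φ a) (b := φ b) (g := φ g) ?_ ?_ ⟨z, hz, hφ⟩ ⟨a, ha, rfl⟩
    ⟨b, hb, rfl⟩ (hone a a1.1) (hφ ▸ hinj _ _ a1.2) (hone b b1.1) (hφ ▸ hinj _ _ b1.2.1)
    (by rw [← map_mul]; exact hone _ (ab 1 (by rw [mul_one]; exact b1.2.2.1)))
    (by rw [← map_mul, ← hφ]; exact hinj _ _ (ab z b1.2.2.2)) ?_
  · obtain ⟨x, hx, e⟩ := h5
    rw [← φ.injective e]
    exact hx
  · rintro _ ⟨x, hx, rfl⟩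
    rw [← map_mul, hH x hx, map_one]
  · rintro _ ⟨x, hx, rfl⟩ _ ⟨y, hy, rfl⟩
    rw [← map_mul, hc x hx y hy, map_mul]
  · rintro _ ⟨x, hx, rfl⟩
    change φ x * φ g = φ g * φ x
    rw [← map_mul, mem_centralizer_iff.1 hg x hx, map_mul]

include c in
theorem two_hex (h2 : (2 : E) ≠ 0) (p : ℕ) [CharP E p] (hp2 : p ≠ 2) : Two p (Nat.card ↥(fx σ)) (Nat.card E) T := by
  classical
  have hp : p.Prime := CharP.char_is_prime E p
  have : Fact p.Prime := ⟨hp⟩
  have hinv : ∀ z : T, orderOf z = 2 → ∃ φ : MulAut T, φ z = c.z := by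
    intro z hz
    obtain ⟨h3, h4⟩ := orderOf_eq_prime_iff.1 hz
    exact exists_aut c h2 (by rw [← pow_two]; exact h3) h4
  refine ⟨fun z hz => ?_, fun hQ z hz hs => ?_, fun H hH => ?_⟩
  · obtain ⟨φ, hφ⟩ := hinv z hz
    have h3 : cc z ≤ cc c.z := card_le_of_aut φ (fun x hx => by
      rw [mem_centralizer_singleton_iff] at hx ⊢
      rw [← hφ, ← map_mul, hx, map_mul])
    refine h3.trans (le_of_eq ?_)
    rw [cc, card_CZ c h2, card_sl2_nat, card_sl2_nat, mul_comm]
  · obtain ⟨φ, hφ⟩ := hinv z hz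
    have := Fintype.ofFinite E
    refine C2.ns_sl2 (K := E) (by rw [← Nat.card_eq_fintype_card]; exact hQ) ?_
    let f : SL2 E →* centralizer ({z} : Set T) := (φ.symm.toMonoidHom.comp c.pb).codRestrict _ (fun x => by
      rw [mem_centralizer_singleton_iff]
      apply φ.injective
      change φ (φ.symm (c.pb x) * z) = φ (z * φ.symm (c.pb x))
      rw [map_mul, map_mul, hφ, MulEquiv.apply_symm_apply]
      exact pb_comm_z c x)
    exact Group.isSolvable_of_isSolvable_injective (f := f)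
      (fun x y e => c.pb_inj h2 (φ.symm.injective (congrArg Subtype.val e)))
  · have hsq : ∀ x ∈ H, x * x = 1 := fun x hx => by rw [← pow_two]; exact hH.pow x hx
    have hP : IsPGroup 2 H := fun a => ⟨1, by
      rw [pow_one]
      exact Subtype.ext (hH.pow a a.2)⟩
    obtain ⟨n, hn⟩ := IsPGroup.iff_card.mp hP
    have h1 : 1 < Nat.card H := (one_lt_card_iff_ne_bot H).2 hH.ne_bot
    rcases Nat.lt_or_ge n 3 with h3 | h3
    · interval_cases n
      · omega
      · exact Or.inl hn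
      · refine Or.inr (Or.inl ⟨hn, ?_⟩)
        obtain ⟨z, hz, z1⟩ := exists_not_mem (H := H) {1} (by rw [Finset.card_singleton]; omega)
        rw [Finset.mem_singleton] at z1
        obtain ⟨a, ha, a1⟩ := exists_not_mem (H := H) {1, z} (lt_of_le_of_lt Finset.card_le_two (by omega))
        simp only [Finset.mem_insert, Finset.mem_singleton, not_or] at a1
        obtain ⟨φ, hφ⟩ := exists_aut c h2 (hsq z hz) z1
        have s1 : φ a * c.z = c.z * φ a := by rw [← hφ, ← map_mul, hH.comm a ha z hz, map_mul]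
        have s2 : φ a * φ a = 1 := by rw [← map_mul, hsq a ha, map_one]
        have s3 : φ a ≠ 1 := fun e => a1.1 (φ.injective (e.trans (map_one φ).symm))
        have s4 : φ a ≠ c.z := fun e => a1.2 (φ.injective (e.trans hφ.symm))
        have hm : ∀ x ∈ Cz H, φ a * φ x = φ x * φ a ∧ φ x * c.z = c.z * φ x := by
          intro x hx
          rw [← hφ, ← map_mul, ← map_mul, ← map_mul, ← map_mul, mem_centralizer_iff.1 hx a ha,
            mem_centralizer_iff.1 hx z hz]
          exact ⟨rfl, rfl⟩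
        constructor
        · obtain ⟨e, he, -, -, h5⟩ := cent_inv c h2 s1 s2 s3 s4
          have h6 := cent_cent_le c h2 he h5
          have h7 : Nat.card (Cz H) ≤
              Nat.card (centralizer ({φ a} : Set T) ⊓ centralizer ({c.z} : Set T) : Subgroup T) :=
            card_le_of_aut φ (fun x hx => ⟨mem_centralizer_singleton_iff.2 (hm x hx).1.symm,
              mem_centralizer_singleton_iff.2 (hm x hx).2⟩)
          have p1 : (2 : ℤ) ≤ Nat.card E := by exact_mod_cast Finite.one_lt_card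
          have p4 : (2 : ℤ) ≤ Nat.card ↥(fx σ) := by exact_mod_cast Finite.one_lt_card
          have h8 : (Nat.card (Cz H) : ℤ) ≤ 2 * ((Nat.card E : ℤ) + 1) * (Nat.card ↥(fx σ) + 1) := by
            refine (Int.ofNat_le.2 h7).trans (h6.trans ?_)
            rcases he with rfl | rfl
            · nlinarith
            · exact le_of_eq (by ring)
          exact_mod_cast h8
        · intro hd
          obtain ⟨x, hx⟩ := exists_prime_orderOf_dvd_card' p hd
          obtain ⟨x1, x2⟩ := orderOf_eq_prime_iff.1 hx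
          have h5 := unip_eq_one c h2 (hp.odd_of_ne_two hp2) s1 s2 s3 s4 (x := φ x)
            (by rw [← map_pow, show (x : T) ^ p = 1 from congrArg Subtype.val x1, map_one]) (hm x x.2).2 (hm x x.2).1
          exact x2 (Subtype.ext (φ.injective (h5.trans (map_one φ).symm)))
    · refine Or.inr (Or.inr ?_)
      have h4 : 8 ≤ Nat.card H := by
        rw [hn]
        exact Nat.pow_le_pow_right (n := 2) (by norm_num) h3
      have hle := cent_le c h2 hsq hH.comm (by omega)
      have h8 : Nat.card H ≤ 8 := by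
        obtain ⟨X, hX⟩ := Sylow.exists_subgroup_card_pow_prime (G := H) 2 (n := 3) (hn ▸ pow_dvd_pow 2 h3)
        have hX' : Nat.card (X.map H.subtype) = 8 := by rw [card_map_of_injective H.subtype_injective, hX]; norm_num
        have hXH : X.map H.subtype ≤ H := map_subtype_le X
        have h5 := cent_le c h2 (H := X.map H.subtype) (fun x hx => hsq x (hXH hx))
          (fun x hx y hy => hH.comm x (hXH hx) y (hXH hy)) (by omega)
        have h6 : H ≤ Cz (X.map H.subtype) := fun x hx => mem_centralizer_iff.2 fun y hy => hH.comm y (hXH hy) x hx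
        exact hX' ▸ card_le_of_le (h6.trans h5)
      exact ⟨le_antisymm h8 h4, (card_le_of_le hle).trans (by omega), hP.to_le hle, fun v hv _ => hle hv⟩

theorem two_ne_zero_of {F : Type*} [Field F] [Finite F] (p : ℕ) [CharP F p] (h : p ≠ 2) : (2 : F) ≠ 0 := by
  intro h0
  have h1 : ((2 : ℕ) : F) = 0 := by exact_mod_cast h0
  rw [CharP.cast_eq_zero_iff F p] at h1
  exact h ((Nat.prime_dvd_prime_iff_eq (CharP.char_is_prime F p) Nat.prime_two).1 h1)

end Cfsg.Agent.SB.Low.TwoL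

namespace Cfsg.Agent.SB.Low

open Cfsg.Lie Cfsg.Agent.Cit.HexBase

/-- [Two] for `G₂(q)` -/
theorem boxTwoG : BoxTwoG := by
  intro p F _ _ _ hp
  have h2 := TwoL.two_ne_zero_of (F := F) p hp
  have h := TwoL.two_hex (Cit.HexG2.g2 F h2) h2 p hp
  have h3 : Nat.card ↥(fx (RingEquiv.refl F)) = Nat.card F :=
    Nat.card_congr ⟨fun x => x, fun x => ⟨x, rfl⟩, fun x => rfl, fun x => rfl⟩
  rwa [h3, Nat.card_eq_fintype_card] at h

/-- [Two] for `³D₄(q)` -/
theorem boxTwoD : BoxTwoD := by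
  intro p F _ _ _ q hp hq
  have h2 := TwoL.two_ne_zero_of (F := F) p hp
  obtain ⟨σ, hσ, ⟨c⟩⟩ := Cit.HexD4.exists_d4 hq
  have h := TwoL.two_hex c h2 p hp
  have hq1 : 1 < q := by
    have h1 := Fintype.one_lt_card (α := F)
    rw [hq] at h1
    exact (Nat.one_lt_pow_iff (by norm_num)).1 h1
  have h3 : Nat.card ↥(fx σ) = q := by
    rw [← ChevalleyStructure.FixedCard.card_fixed hq1 hq]
    exact Nat.card_congr (Equiv.subtypeEquivRight fun x => by rw [mem_fx, hσ])
  rwa [h3, Nat.card_eq_fintype_card, hq] at h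

end Cfsg.Agent.SB.Low
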