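import Cfsg.Agent.SB.Low.Defs
import Cfsg.Agent.DL.Dat.Card
import Cfsg.Agent.DL.Dat.Conj
import Cfsg.Agent.TwoFusion.PerfCore

/-!
# S5765, `G₂(q)` and `³D₄(q)`: a root orbit gives a non-solvable group (helper90)

* `NS.exists_form`, `NS.form_unique` : the rank one relation `X(-a) ⊆ X(a) m X(a)` for an arbitrary root;
* `NS.exists_perfect` : `g a = ± a` and a field of at least four elements give a perfect subgroup of `⟨X(a), X(-a)⟩^F`;
* `NS.not_solvable` : the diagonal of commuting `F`-images of a perfect group;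
* `boxNS`.
-/

set_option autoImplicit false
set_option linter.unusedSectionVars false

namespace Cfsg.Agent.SB.Low

open Subgroup Cfsg CoxeterSystem Cfsg.Agent.ChevalleyStructure.CoxeterGeom Cfsg.Agent.Tits.Roots
  Cfsg.Agent.Nodes.Reps Cfsg.Agent.Nodes.BNOf Cfsg.Agent.Nodes.Coroot Cfsg.Agent.DL Cfsg.Agent.TwoFusion.PerfCore
open scoped commutatorElement

namespace NS

/-! ### the diagonal -/

section Diag

variable {Y : Type} [Group Y] (F : MulAut Y)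

/-- the product of the first `j` images -/
def nm (j : ℕ) (y : Y) : Y := ((List.range j).map fun i => (F ^ i) y).prod

theorem nm_succ (j : ℕ) (y : Y) : nm F (j + 1) y = nm F j y * (F ^ j) y := List.prod_range_succ _ _

theorem nm_succ' (j : ℕ) (y : Y) : nm F (j + 1) y = y * F (nm F j y) := by
  rw [nm, List.prod_range_succ', nm, map_list_prod, List.map_map]
  congr 2
  refine List.map_congr_left fun i _ => ?_
  rw [pow_succ']
  rfl

theorem nm_mem {M : Subgroup Y} {j : ℕ} {y : Y} (h : ∀ i < j, (F ^ i) y ∈ M) : nm F j y ∈ M := by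
  refine list_prod_mem fun z hz => ?_
  obtain ⟨i, hi, rfl⟩ := List.mem_map.1 hz
  exact h i (List.mem_range.1 hi)

theorem not_solvable {j : ℕ} (hj : 0 < j) {P M : Subgroup Y} (hP : ⁅P, P⁆ = P) (h0 : P ≠ ⊥)
    (hF : ∀ y ∈ P, (F ^ j) y = y)
    (hc : ∀ i < j, ∀ i' < j, i ≠ i' → ∀ y ∈ P, ∀ z ∈ P, (F ^ i) y * (F ^ i') z = (F ^ i') z * (F ^ i) y)
    (hM : ∀ i < j, ∀ y ∈ P, (F ^ i) y ∈ M) : ¬ Group.IsSolvable ↥(fix F ⊓ M) := by
  intro hs
  have hmul : ∀ l ≤ j, ∀ y ∈ P, ∀ z ∈ P, nm F l (y * z) = nm F l y * nm F l z := by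
    intro l
    induction l with
    | zero => intro _ y _ z _; simp [nm]
    | succ l ih =>
      intro hl y hy z hz
      have h1 : nm F l z ∈ centralizer ({(F ^ l) y} : Set Y) := nm_mem F fun i hi =>
        mem_centralizer_singleton_iff.2 (hc i (by omega) l (by omega) (by omega) z hz y hy)
      rw [nm_succ, nm_succ, nm_succ, ih (by omega) y hy z hz, map_mul]
      calc _ = nm F l y * (nm F l z * (F ^ l) y) * (F ^ l) z := by group
        _ = _ := by rw [mem_centralizer_singleton_iff.1 h1]; group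
  obtain ⟨l, rfl⟩ : ∃ l, j = l + 1 := ⟨j - 1, by omega⟩
  have hcm : ∀ y ∈ P, ∀ z ∈ P, F (nm F l y) * z = z * F (nm F l y) := fun y hy z hz => by
    have h1 : nm F l y ∈ (centralizer ({z} : Set Y)).comap F.toMonoidHom := nm_mem F fun i hi =>
      mem_centralizer_singleton_iff.2 (by
        have := hc (i + 1) (by omega) 0 (by omega) (by omega) y hy z hz
        rwa [pow_succ', pow_zero] at this)
    exact mem_centralizer_singleton_iff.1 h1
  let ψ : P →* Y := MonoidHom.mk' (fun y => nm F (l + 1) y) fun y z => hmul _ le_rfl y y.2 z z.2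
  have hle : (⊤ : Subgroup P).map ψ ≤ fix F ⊓ M := by
    rintro _ ⟨y, -, rfl⟩
    refine ⟨mem_fix.2 ?_, nm_mem F fun i hi => hM i hi y y.2⟩
    have h1 := nm_succ' F (l + 1) y
    rw [nm_succ F (l + 1), hF y y.2, nm_succ' F l, mul_assoc, hcm y y.2 y y.2, ← nm_succ' F l] at h1
    exact (mul_left_cancel h1).symm
  have htop : ⁅(⊤ : Subgroup P), (⊤ : Subgroup P)⁆ = ⊤ := by
    apply map_injective P.subtype_injective
    rw [map_commutator, ← MonoidHom.range_eq_map, range_subtype, hP]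
  have hk : (⊤ : Subgroup P) ≤ ψ.ker :=
    le_ker_of_perfect htop ψ (Group.isSolvable_of_isSolvable_injective (inclusion_injective hle))
  apply h0
  rw [← hP, commutator_eq_bot_iff_le_centralizer]
  intro y hy
  refine mem_centralizer_iff.2 fun z hz => ?_
  have h1 : nm F (l + 1) y = 1 := hk (mem_top (⟨y, hy⟩ : P))
  rw [nm_succ'] at h1
  rw [eq_inv_of_mul_eq_one_left h1]
  exact (Commute.inv_left (hcm y hy z hz)).eq.symm

end Diag

/-! ### rank one -/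

variable {p : ℕ} [Fact p.Prime] {k : Type} [Field k] [CharP k p] {Y : Type} [Group Y] {N : Type} [Fintype N]
  [DecidableEq N] {ρ : Y →* GL N k} {F : MulAut Y} {G : Subgroup Y} (D : Datum p ρ F G) [IsAlgClosed k]

theorem exists_form {a : D.I → ℤ} (ha : D.Rt a) {ξ : Y} (hξ : ξ ∈ D.X (-a)) (h1 : ξ ≠ 1) :
    ∃ y ∈ D.X a, ∃ m, D.Rp (D.rf a) m ∧ ∃ z ∈ D.X a, ξ = y * m * z := by
  obtain ⟨w, i, rfl⟩ := ha
  obtain ⟨r, hr, -⟩ := D.exists_rp w
  have hi := isRoot_sr D.cs D.h i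
  have h2 := D.conj_mem hr.inv (hi.act w).neg hξ
  rw [Datum.act, map_neg, rep_inv_apply] at h2
  obtain ⟨u, hu⟩ := (D.mem_X _ hi.neg _).1 h2
  have hu0 : u ≠ 0 := by
    rintro rfl
    rw [D.x_zero hi.neg] at hu
    apply h1
    calc ξ = r * (r⁻¹ * ξ * r⁻¹⁻¹) * r⁻¹ := by group
      _ = 1 := by rw [← hu]; group
  obtain ⟨c₁, c₂, -, -, t₀, ht₀, e⟩ := D.rank_one i
  have h3 := e (Units.mk0 u hu0)
  rw [Units.val_mk0, hu] at h3
  refine ⟨_, D.conj_mem hr hi (D.x_mem hi (c₁ * ((Units.mk0 u hu0)⁻¹ : kˣ))),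
    r * (D.τ (coch (D.cw i) (Units.mk0 u hu0)⁻¹) * t₀ * D.n i) * r⁻¹, ?_,
    _, D.conj_mem hr hi (D.x_mem hi (c₂ * ((Units.mk0 u hu0)⁻¹ : kˣ))), ?_⟩
  · have h4 := (rp_of_mem (cs := D.cs) (hN := D.nsys) (mul_mem (D.τ_mem (coch (D.cw i) (Units.mk0 u hu0)⁻¹)) ht₀)).mul
      (rp_simple _ _ i)
    rw [one_mul] at h4
    exact D.rf_act w i ▸ (hr.mul h4).mul hr.inv
  · calc ξ = r * (r⁻¹ * ξ * r⁻¹⁻¹) * r⁻¹ := by group
      _ = _ := by rw [h3]; group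

theorem form_unique {a : D.I → ℤ} (ha : D.Rt a) {y y' z z' m m' : Y} (hy : y ∈ D.X a) (hy' : y' ∈ D.X a)
    (hz : z ∈ D.X a) (hz' : z' ∈ D.X a) (hm : D.Rp (D.rf a) m) (hm' : D.Rp (D.rf a) m')
    (e : y * m * z = y' * m' * z') : y = y' ∧ m = m' ∧ z = z' := by
  have h1 : m = m' := by
    obtain ⟨w, i, rfl⟩ := ha
    obtain ⟨r, hr, -⟩ := D.exists_rp w
    have hi := isRoot_sr D.cs D.h i
    have key : ∀ v ∈ D.X (rep D.cs D.h w (sr i)), r⁻¹ * v * r ∈ D.U := fun v hv => by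
      have h2 := D.conj_mem hr.inv (hi.act w) hv
      rw [Datum.act, rep_inv_apply, inv_inv] at h2
      exact RGD.le_Sup (S := RGD.Pos D.cs D.h) ⟨hi, sr_nonneg i⟩ h2
    have h3 := (D.eq_of_mem_UNU (key y hy) (key y' hy') ((hr.inv.mul hm).mul hr) ((hr.inv.mul hm').mul hr) (key z hz)
      (key z' hz') (by
        calc _ = r⁻¹ * (y * m * z) * r := by group
          _ = _ := by rw [e]; group)).2
    exact mul_left_cancel (mul_right_cancel h3)
  subst h1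
  have h2 := D.conj_mem hm ha (mul_mem hz' (inv_mem hz))
  rw [D.act_rf_self ha] at h2
  have h3 : m * (z' * z⁻¹) * m⁻¹ = y'⁻¹ * y := by
    calc _ = y'⁻¹ * (y' * m * z') * z⁻¹ * m⁻¹ := by group
      _ = _ := by rw [← e]; group
  have h4 : y'⁻¹ * y = 1 := D.eq_one_of_mem_X_X ha ha.neg (fun h => ha.ne_zero (by
    funext j
    have := congrFun h j
    rw [Pi.neg_apply] at this
    rw [Pi.zero_apply]
    omega)) (mul_mem (inv_mem hy') hy) (h3 ▸ h2)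
  have h5 : y = y' := (inv_mul_eq_one.1 h4).symm
  subst h5
  exact ⟨rfl, rfl, mul_left_cancel e⟩

/-- the factors of an `F`-fixed element are `F`-fixed -/
theorem form_fix {a : D.I → ℤ} (ha : D.Rt a) (hg : D.g a = a) {y z m : Y} (hy : y ∈ D.X a) (hz : z ∈ D.X a)
    (hm : D.Rp (D.rf a) m) (e : F (y * m * z) = y * m * z) : F y = y ∧ F z = z := by
  have h1 := Datum.Rp.mapF hm
  rw [D.Fw_rf ha, hg] at h1
  rw [map_mul, map_mul] at e
  have h2 := form_unique D ha (hg ▸ D.F_mem_X ha hy) hy (hg ▸ D.F_mem_X ha hz) hz h1 hm e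
  exact ⟨h2.1, h2.2.2⟩

theorem le_commutator {b : D.I → ℤ} (hb : D.Rt b) (hg : D.g b = b) {h : Y} (hT : h ∈ D.T) (hF : F h = h)
    (hχ : D.χ b h ≠ 1) {P : Subgroup Y} (hP : h ∈ P) (hX : fix F ⊓ D.X b ≤ P) : fix F ⊓ D.X b ≤ ⁅P, P⁆ := by
  rintro _ ⟨h1, h2⟩
  obtain ⟨s, rfl⟩ := (D.mem_X b hb _).1 h2
  obtain ⟨c, -, hc⟩ := D.F_x b hb
  have h3 := D.χ_F hb hT
  rw [hg, hF] at h3
  rw [hg] at hc
  have h4 : c * s ^ p ^ D.ex b = s := D.x_inj b hb ((hc s).symm.trans h1)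
  have h5 : D.χ b h - 1 ≠ 0 := sub_ne_zero.2 hχ
  have h6 : D.x b (s / (D.χ b h - 1)) ∈ P := hX ⟨mem_fix.2 (by
    rw [hc, div_pow, sub_pow_char_pow, ← h3, one_pow, ← mul_div_assoc, h4]), D.x_mem hb _⟩
  have h7 := commutator_mem_commutator hP h6
  rw [commutatorElement_def, D.tor' hb hT, ← D.x_neg hb, ← D.x_add b hb] at h7
  convert h7 using 2
  field_simp
  ring

theorem exists_v {e : ℕ} (he : 4 ≤ p ^ e) : ∃ v : k, v ≠ 0 ∧ v ^ 2 ≠ 1 ∧ v ^ p ^ e = v := by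
  have h0 : 0 < e := Nat.pos_of_ne_zero (by rintro rfl; simp at he)
  by_contra h
  have h1 : {v : k | v ^ p ^ e = v} ⊆ {0, 1, -1} := fun v hv => by
    by_contra h2
    simp only [Set.mem_insert_iff, Set.mem_singleton_iff, not_or] at h2
    exact h ⟨v, h2.1, fun h3 => (sq_eq_one_iff.1 h3).elim h2.2.1 h2.2.2, hv⟩
  have h2 := Set.ncard_le_ncard h1 (Set.toFinite _)
  have h3 : {v : k | v ^ p ^ e = v}.ncard = p ^ e := card_pow_eq h0
  have h4 : ({0, 1, -1} : Set k).ncard ≤ 3 :=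
    (Set.ncard_insert_le _ _).trans (by have := Set.ncard_insert_le (1 : k) {-1}; rw [Set.ncard_singleton] at this; omega)
  omega

theorem exists_perfect_pos {a : D.I → ℤ} (ha : D.Rt a) (hg : D.g a = a) (h4 : 4 ≤ p ^ D.ex a) :
    ∃ P : Subgroup Y, P ≤ fix F ⊓ D.S {a, -a} ∧ ⁅P, P⁆ = P ∧ P ≠ ⊥ := by
  have hg' : D.g (-a) = -a := by rw [D.g_neg ha, hg]
  obtain ⟨c, hc0, hc⟩ := D.F_x _ ha.neg
  rw [hg', D.ex_neg ha] at hc
  obtain ⟨u, hu⟩ := IsAlgClosed.exists_pow_nat_eq c⁻¹ (n := p ^ D.ex a - 1) (by omega)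
  have hu0 : u ≠ 0 := by
    rintro rfl
    rw [zero_pow (by omega)] at hu
    exact inv_ne_zero hc0 hu.symm
  have hu1 : c * u ^ p ^ D.ex a = u := by
    rw [show p ^ D.ex a = p ^ D.ex a - 1 + 1 by omega, pow_succ, hu, mul_inv_cancel_left₀ hc0]
  obtain ⟨v, hv0, hv2, hv⟩ := exists_v (k := k) h4
  obtain ⟨t, ht, htv⟩ := D.χ_surj ha.neg hv0
  have hne : D.x (-a) u ≠ 1 := fun h => hu0 ((D.x_eq_one_iff ha.neg).1 h)
  obtain ⟨y, hy, m, hm, z, hz, e⟩ := exists_form D ha (D.x_mem ha.neg u) hne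
  let P : Subgroup Y := (fix F ⊓ D.X a) ⊔ (fix F ⊓ D.X (-a))
  have f1 : F (D.x (-a) u) = D.x (-a) u := by rw [hc, hu1]
  have f2 : F (D.x (-a) (v * u)) = D.x (-a) (v * u) := by rw [hc, mul_pow, hv, mul_left_comm, hu1]
  have key : ∀ {ξ y m z : Y}, ξ ∈ D.X (-a) → F ξ = ξ → y ∈ D.X a → z ∈ D.X a → D.Rp (D.rf a) m → ξ = y * m * z →
      m ∈ P := by
    intro ξ y m z h1 h2 hy hz hm e
    obtain ⟨h5, h6⟩ := form_fix D ha hg hy hz hm (e ▸ h2)
    have h7 : m = y⁻¹ * ξ * z⁻¹ := by rw [e]; group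
    rw [h7]
    exact mul_mem (mul_mem (inv_mem (mem_sup_left ⟨h5, hy⟩)) (mem_sup_right ⟨h2, h1⟩)) (inv_mem (mem_sup_left ⟨h6, hz⟩))
  have hX : ∀ s ∈ D.X a, t * s * t⁻¹ ∈ D.X a := fun s hs => by
    obtain ⟨s, rfl⟩ := (D.mem_X a ha _).1 hs
    rw [D.tor' ha ht]
    exact D.x_mem ha _
  have hm2 : D.Rp (D.rf a) (t * m * t⁻¹) := by
    have := ((rp_of_mem (cs := D.cs) (hN := D.nsys) ht).mul hm).mul_mem_right (inv_mem ht)
    rwa [one_mul] at this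
  have m1 : m ∈ P := key (D.x_mem ha.neg u) f1 hy hz hm e
  have m2 : t * m * t⁻¹ ∈ P := key (D.x_mem ha.neg (v * u)) f2 (hX y hy) (hX z hz) hm2 (by
    rw [← htv, ← D.tor' ha.neg ht, e]; group)
  have hPF : P ≤ fix F := sup_le inf_le_left inf_le_left
  have hmt : m * t * m⁻¹ ∈ D.T := D.conj_mem_T ⟨_, hm⟩ ht
  have hh : m * t * m⁻¹ * t⁻¹ ∈ P := by
    have := mul_mem m1 (inv_mem m2)
    simpa only [mul_inv_rev, inv_inv, mul_assoc] using this
  have hχ : D.χ a (m * t * m⁻¹ * t⁻¹) = v ^ 2 := by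
    have h5 := D.χ_rp hm (-a) ht
    rw [Datum.act, map_neg, ← Datum.act, D.act_rf_self ha, neg_neg] at h5
    rw [D.χ_mul a hmt (inv_mem ht), h5, D.χ_inv a ht, ← D.χ_neg, htv, pow_two]
  refine ⟨P, le_inf hPF (sup_le (inf_le_right.trans (RGD.le_Sup (Set.mem_insert _ _)))
    (inf_le_right.trans (RGD.le_Sup (Set.mem_insert_of_mem _ rfl)))), le_antisymm (commutator_le_self P) (sup_le ?_ ?_),
    fun h => hne ?_⟩
  · exact le_commutator D ha hg (mul_mem hmt (inv_mem ht)) (hPF hh) (by rwa [hχ]) hh le_sup_left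
  · exact le_commutator D ha.neg hg' (mul_mem hmt (inv_mem ht)) (hPF hh) (by
      rw [D.χ_neg, hχ]
      exact fun h => hv2 (inv_eq_one.1 h)) hh le_sup_right
  · have : D.x (-a) u ∈ P := mem_sup_right ⟨f1, D.x_mem ha.neg u⟩
    rwa [h, mem_bot] at this

theorem exists_perfect {a : D.I → ℤ} (ha : D.Rt a) (hg : D.g a = a ∨ D.g a = -a) (h4 : 4 ≤ p ^ D.ex a) :
    ∃ P : Subgroup Y, P ≤ fix F ⊓ D.S {a, -a} ∧ ⁅P, P⁆ = P ∧ P ≠ ⊥ := by
  rcases hg with hg | hg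
  · exact exists_perfect_pos D ha hg h4
  have hA : ∀ b ∈ ({a, -a} : Set (D.I → ℤ)), D.Rt b := by
    rintro _ (rfl | rfl)
    exacts [ha, ha.neg]
  obtain ⟨m, hm1, hm⟩ := D.exists_rp_rf ha
  have h5 : D.X a ⊔ D.X (-a) ≤ D.S {a, -a} :=
    sup_le (RGD.le_Sup (Set.mem_insert _ _)) (RGD.le_Sup (Set.mem_insert_of_mem _ rfl))
  have h6 : m ∈ D.T ⊔ D.S {a, -a} := (sup_le_sup_left h5 D.T) hm1
  have h7 : ∀ b ∈ ({a, -a} : Set (D.I → ℤ)), D.g b ∈ ({a, -a} : Set (D.I → ℤ)) := by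
    rintro _ (rfl | rfl)
    · exact Or.inr hg
    · exact Or.inl (by rw [D.g_neg ha, hg, neg_neg])
  obtain ⟨y, hy, e⟩ := D.lang_TS hA h7 h6
  have h8 : D.T ⊔ D.S {a, -a} ≤ G := sup_le D.T_le_G (D.S_le_G hA)
  have h9 : D.T ⊔ D.S {a, -a} ≤ normalizer (D.S {a, -a} : Set Y) := sup_le (D.T_le_normalizer hA) le_normalizer
  have hF : y⁻¹ * F y ∈ D.NN := ⟨_, e ▸ hm⟩
  have h10 : (D.conj (h8 hy) hF).g a = a := by
    rw [D.conj_g (h8 hy) hF, ← e, Datum.Rp.pr_eq hm, hg, Datum.act, map_neg, ← Datum.act, D.act_rf_self ha, neg_neg]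
  have h11 : (D.conj (h8 hy) hF).S {a, -a} = D.S {a, -a} :=
    (D.conj_S (h8 hy) hF _).trans (mem_normalizer_iff_cj.1 (h9 hy))
  obtain ⟨P, h1, h2⟩ := exists_perfect_pos (D.conj (h8 hy) hF) (a := a) ha h10 h4
  exact ⟨P, h1.trans (inf_le_inf_left _ h11.le), h2⟩

theorem pow_mem (i : ℕ) {a : D.I → ℤ} (ha : D.Rt a) {y : Y} (hy : y ∈ D.S {a, -a}) :
    (F ^ i) y ∈ D.X (D.g^[i] a) ⊔ D.X (-D.g^[i] a) := by
  induction i with
  | zero => exact (RGD.Sup_le (K := D.X a ⊔ D.X (-a)) (by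
      rintro _ (rfl | rfl)
      exacts [le_sup_left, le_sup_right])) hy
  | succ i ih =>
    have hr := D.iterate_g_root i ha
    have h1 : D.X (D.g^[i] a) ⊔ D.X (-D.g^[i] a) ≤
        (D.X (D.g^[i + 1] a) ⊔ D.X (-D.g^[i + 1] a)).comap F.toMonoidHom := by
      rw [Function.iterate_succ_apply']
      refine sup_le (fun u hu => mem_sup_left (D.F_mem_X hr hu)) fun u hu => mem_sup_right ?_
      exact D.g_neg hr ▸ D.F_mem_X hr.neg hu
    rw [pow_succ']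
    exact h1 ih

end NS

/-- **[NS]** -/
theorem boxNS : BoxNS := by
  intro p _ k _ _ _ Y _ N _ _ ρ F G D n j a hex ha hj h4 hg hc
  obtain ⟨P, h1, h2, h3⟩ := NS.exists_perfect (D.pow hj) (a := a) ha hg (by
    change 4 ≤ p ^ ∑ i ∈ Finset.range j, D.ex (D.g^[i] a)
    rwa [Finset.sum_congr rfl fun i _ => hex _ (D.iterate_g_root i ha), Finset.sum_const, Finset.card_range,
      smul_eq_mul, mul_comm, pow_mul])
  refine NS.not_solvable F hj h2 h3 (fun y hy => (h1 hy).1) (fun i hi i' hi' hne y hy z hz =>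
    (hc i hi i' hi' hne).2 _ (NS.pow_mem D i ha (h1 hy).2) _ (NS.pow_mem D i' ha (h1 hz).2)) fun i hi y hy => ?_
  exact (sup_le (RGD.le_Sup (S := {c | ∃ i < j, c = D.g^[i] a ∨ c = -D.g^[i] a}) ⟨i, hi, Or.inl rfl⟩)
    (RGD.le_Sup (S := {c | ∃ i < j, c = D.g^[i] a ∨ c = -D.g^[i] a}) ⟨i, hi, Or.inr rfl⟩)) (NS.pow_mem D i ha (h1 hy).2)

end Cfsg.Agent.SB.Low
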