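import Cfsg.Agent.SB.Low.Gen

/-!
# S5765, `G₂(q)` and `³D₄(q)`: elementary abelian subgroups of odd order (helper68)
-/

set_option autoImplicit false
set_option linter.unusedSectionVars false

namespace Cfsg.Agent.SB.Low

open Subgroup Cfsg CoxeterSystem Cfsg.Agent.H786.FC
open Cfsg.Agent.ChevalleyStructure.CoxeterGeom Cfsg.Agent.Tits.Roots Cfsg.Agent.Nodes.Reps Cfsg.Agent.Nodes.BNOf
  Cfsg.Agent.Nodes.Coroot Cfsg.Agent.DL Cfsg.Agent.SB.Exc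

/-- the centraliser of `E` is a maximal torus -/
structure TorC (p ν c : ℕ) {K : Type} [Group K] (E : Subgroup K) : Prop where
  card : Nat.card (Cz E) ≤ ν
  nd : ¬ p ∣ Nat.card (Cz E)
  idx : (Cz E).relIndex (Nz E) ≤ c

variable {p : ℕ} [Fact p.Prime] {k : Type} [Field k] [CharP k p] [IsAlgClosed k] {Y : Type} [Group Y] {N : Type}
  [Fintype N] [DecidableEq N] {ρ : Y →* GL N k} {F : MulAut Y} {K : Type} [Group K] [Finite K]
  {n : ℕ} {D : Datum p ρ F ⊤} {ι : K →* Y} {θ : (D.I → ℤ) →+ (D.I → ℤ)} {E : Subgroup K} {r : ℕ}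

namespace Md

variable (hM : Md n D ι θ)

include hM

theorem root {a : D.I → ℤ} (ha : D.Rt a) : D.Rt (θ a) := by
  rw [← hM.g]
  exact D.g_root a ha

theorem ns_one (hNS : BoxNS) {a : D.I → ℤ} (ha : D.Rt a) (h : θ a = a) (hq : 4 ≤ p ^ n) {H : Subgroup K}
    (hH : Group.IsSolvable H) (hle : ∀ g, ι g ∈ D.S {a, -a} → g ∈ H) : False := by
  refine hNS p k Y N ρ F ⊤ D n 1 a hM.ex ha one_pos (by rwa [pow_one]) (Or.inl ((hM.g a).trans h))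
    (fun i hi i' hi' hne => by omega) (hM.solv hH fun g hg => hle g (RGD.Sup_mono ?_ hg))
  rintro c ⟨i, hi, hc⟩
  obtain rfl : i = 0 := by omega
  exact hc

theorem ns_three (hNS : BoxNS) (hD : RD D.cs D.h) (hT : RT D.cs D.h θ) {a : D.I → ℤ} (ha : D.Rt a)
    (h : cpr D.cs D.h (θ a) a = 0) {H : Subgroup K} (hH : Group.IsSolvable H)
    (hle : ∀ g, ι g ∈ D.S {a, -a, θ a, -θ a, θ (θ a), -θ (θ a)} → g ∈ H) : False := by
  obtain ⟨h1, h2, h3⟩ := hT.t1 a ha h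
  have hg : D.g = θ := funext hM.g
  have ha1 : D.Rt (θ a) := hM.root ha
  have ha2 : D.Rt (θ (θ a)) := hM.root ha1
  have key : ∀ i < 3, ∀ i' < 3, i ≠ i' → cpr D.cs D.h (D.g^[i] a) (D.g^[i'] a) = 0 := by
    intro i hi i' hi' hne
    rw [hg]
    interval_cases i <;> interval_cases i' <;> first
      | exact absurd rfl hne
      | exact h
      | exact h1
      | exact h2
      | exact (hD.symm _ _ ha ha1).trans h
      | exact (hD.symm _ _ ha ha2).trans h1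
      | exact (hD.symm _ _ ha1 ha2).trans h2
  refine hNS p k Y N ρ F ⊤ D n 3 a hM.ex ha three_pos (le_trans (by norm_num) (Nat.pow_le_pow_left hM.two_le 3))
    (by rw [hg]; exact h3) (fun i hi i' hi' hne => ⟨key i hi i' hi' hne,
      comm_of_orth hD (D.iterate_g_root i ha) (D.iterate_g_root i' ha) (key i hi i' hi' hne)⟩)
    (hM.solv hH fun g hg' => hle g (RGD.Sup_mono ?_ hg'))
  rintro c ⟨i, hi, hc⟩
  rw [hg] at hc
  interval_cases i <;> rcases hc with rfl | rfl <;> simp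

theorem torC {ν c : ℕ} (hZ : im ι E ⊆ D.T) (hP : PPr D.cs D.h) (h2 : Sat 2 (D.Lam (im ι E))) (h0 : D.Sz (im ι E) = ∅)
    (hν : Nat.card ↥(D.T ⊓ GF F ⊤) ≤ ν) (hc : {v : D.W | ∀ x, θ (D.act v x) = D.act v (θ x)}.ncard ≤ c) : TorC p ν c E :=
  ⟨(hM.card_le_T fun _ => hM.mem_T hZ hP h2 h0).trans hν, hM.not_dvd fun _ => hM.mem_T hZ hP h2 h0,
    (hM.relIndex_le hZ h0).trans hc⟩

/-! ### `G₂` -/

theorem oddG_aux (hNS : BoxNS) (hG : RG D.cs D.h) {w : D.W} (hθ : ∀ x, θ x = rep D.cs D.h w x) (hq : 3 ≤ p ^ n)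
    (hE : EA r E) (h2 : r ≠ 2) (hs : Group.IsSolvable (Cz E)) (hZ : im ι E ⊆ D.T)
    (hpos : ∀ a ∈ D.Sz (im ι E), 0 ≤ a → 0 ≤ D.g a) :
    TorC p ((p ^ n + 1) ^ 2) 12 E ∧ {v | v ∈ Cz E ∧ v ^ 3 = 1}.ncard ≤ 9 := by
  have hs2 : Sat 2 (D.Lam (im ι E)) := hM.sat hZ hE Nat.prime_two h2
  rcases (D.Sz (im ι E)).eq_empty_or_nonempty with h0 | h0
  · refine ⟨hM.torC hZ hG.pp hs2 h0 ?_ ((Set.ncard_le_card _).trans hG.cardW), ?_⟩
    · have := (hM.fq.card_T D).2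
      rwa [hM.cardR, hG.cardI] at this
    · have := hM.card_three fun _ => hM.mem_T hZ hG.pp hs2 h0
      rwa [hG.cardI] at this
  exfalso
  obtain ⟨a, ha, h1⟩ := hG.fix w (D.Lam (im ι E)) h0 fun a ha h => ⟨hθ a ▸ hM.stab hZ ha.2, by rw [← hθ, ← hM.g]; exact hpos a ha h⟩
  rcases hq.eq_or_lt with h3 | h3
  · obtain ⟨b, -, h4, h5⟩ := hG.orth w a ha.1 h1
    have h6 := hM.theta hZ b
    rw [← h3, hθ] at h6
    have h7 : b ∈ D.Lam (im ι E) := by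
      rcases h4 with h4 | h4
      · refine hs2 _ ?_
        convert neg_mem h6 using 1
        rw [h4]
        push_cast
        module
      · refine hs2 _ (hs2 _ ?_)
        convert neg_mem h6 using 1
        rw [h4]
        push_cast
        module
    obtain ⟨x, hx⟩ := hM.proper hZ hE
    obtain ⟨i, j, e⟩ := h5 x
    exact hx (hs2 x (e ▸ add_mem (zsmul_mem ha.2 i) (zsmul_mem h7 j)))
  · refine hM.ns_one hNS ha.1 ((hθ a).trans h1) h3 hs fun g hg => hM.le_cz hZ ?_ hg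
    rintro c (rfl | rfl)
    exacts [ha, D.Sz_neg ha]

theorem oddG (hNS : BoxNS) (hG : RG D.cs D.h) (hθ : ∀ x, θ x = x) (hq : 3 ≤ p ^ n) (hE : EA r E) (h2 : r ≠ 2)
    (hs : Group.IsSolvable (Cz E)) (ht : ∃ g : Y, ∀ x ∈ E, g * ι x * g⁻¹ ∈ D.T) :
    TorC p ((p ^ n + 1) ^ 2) 12 E ∧ {v | v ∈ Cz E ∧ v ^ 3 = 1}.ncard ≤ 9 := by
  obtain ⟨y, hy, hy', z, hz, hz', h3, h4⟩ := hM.frame ht
  refine ((hM.conj hy hy').conj hz hz').oddG_aux hNS hG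
    (w := (D.conj hy hy').pr (z⁻¹ * F z) * D.pr (y⁻¹ * F y)) (fun x => ?_) hq hE h2 hs h3 h4
  rw [tw_tw]
  exact congrArg _ (hθ x)

theorem ccG (hG : RG D.cs D.h) (hE : EA r E) (h2 : r ≠ 2) (ht : ∃ g : Y, ∀ x ∈ E, g * ι x * g⁻¹ ∈ D.T) :
    Nat.card (Cz E) ≤ (p ^ n) ^ 6 * (p ^ n + 1) ^ 2 ∧ (r ≠ 3 → Nat.card (Cz E) ≤ (p ^ n) ^ 2 * (p ^ n + 1) ^ 2) := by
  obtain ⟨y, hy, hy', z, hz, hz', h3, -⟩ := hM.frame ht
  have hM' := (hM.conj hy hy').conj hz hz'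
  have hs2 := hM'.sat h3 hE Nat.prime_two h2
  have h4 := hM'.card_cz h3 hG.pp hs2
  have h5 : 0 < p ^ n := lt_of_lt_of_le two_pos hM.two_le
  rw [show Fintype.card ((D.conj hy hy').conj hz hz').I = 2 from hG.cardI] at h4
  exact ⟨h4.trans (Nat.mul_le_mul_right _ (Nat.pow_le_pow_right h5 (hG.six _ hs2 (hM'.proper h3 hE)))), fun h =>
    h4.trans (Nat.mul_le_mul_right _ (Nat.pow_le_pow_right h5
      (hG.two _ hs2 (hM'.sat h3 hE Nat.prime_three h) (hM'.proper h3 hE))))⟩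

/-! ### `³D₄` -/

theorem card_fit_eq (E : Subgroup K) :
    Nat.card (fittingSubgroup ↥(DL.fix F ⊓ centralizer (im ι E))) = Nat.card (SB.fit (Cz E)) := by
  have h1 : (Cz E).map ι = DL.fix F ⊓ centralizer (im ι E) := by
    ext y
    constructor
    · rintro ⟨g, hg, rfl⟩
      exact ⟨hM.fix g, hM.mem_cz.1 hg⟩
    · rintro ⟨h1, h2⟩
      obtain ⟨g, rfl⟩ := (hM.range y).1 h1
      exact ⟨g, hM.mem_cz.2 h2, rfl⟩
  rw [card_fit, ← h1, ← Lib.Cores.map_equiv_fittingSubgroup ((Cz E).equivMapOfInjective ι hM.inj),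
    card_map_of_injective (MulEquiv.injective _)]

theorem perp (hNS : BoxNS) (hD : RD D.cs D.h) (hT : RT D.cs D.h θ) (hS : Sit p r E) (h2 : r ≠ 2) (hZ : im ι E ⊆ D.T)
    {a : D.I → ℤ} (ha : D.Rt a) (h1 : θ a = a) (h3 : D.Sz (im ι E) = {a, -a}) : False := by
  have hs2 : Sat 2 (D.Lam (im ι E)) := hM.sat hZ hS.toEA Nat.prime_two h2
  let X : Subgroup K := closure {x | x ∈ Cz E ∧ x ^ p = 1}
  have hX : Chr E X := chr_closure fun α hα x hx => ⟨(Chr.refl E).cz α hα x hx.1, by rw [← map_pow, hx.2, map_one]⟩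
  have hXC : X ≤ Cz E := (closure_le _).2 fun x hx => hx.1
  obtain ⟨u, u1, u2, u3⟩ := hM.exists_unip ha h1
  have hX0 : X ≠ ⊥ := fun e => u1 (mem_bot.1 (e ▸ (subset_closure ⟨hM.le_cz hZ (A := {a}) (by rw [h3]; simp)
    (RGD.le_Sup (S := {a}) rfl u3), u2⟩ : u ∈ X)))
  obtain ⟨c, hc, h4⟩ := hD.perp a ha
  obtain ⟨h5, h6, h7⟩ := hT.t2 a c ha hc h1 h4
  have hc1 : D.Rt (θ c) := hM.root hc
  have hc2 : D.Rt (θ (θ c)) := hM.root hc1
  refine hM.ns_three hNS hD hT hc h5 hS.solv fun g hg =>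
    hS.max X hX0 (hXC.trans Cz_le_Nz) hX (Cz_le_Nz (?_ : g ∈ Cz X))
  have h8 : D.S {c, -c, θ c, -θ c, θ (θ c), -θ (θ c)} ≤ centralizer ((D.X a ⊔ D.X (-a) : Subgroup Y) : Set Y) := by
    have key : ∀ d, D.Rt d → cpr D.cs D.h d a = 0 →
        D.X d ⊔ D.X (-d) ≤ centralizer ((D.X a ⊔ D.X (-a) : Subgroup Y) : Set Y) :=
      fun d hd h u hu v hv => (comm_of_orth hD hd ha h u hu v hv).symm
    refine RGD.Sup_le ?_
    rintro d (rfl | rfl | rfl | rfl | rfl | rfl)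
    exacts [le_sup_left.trans (key _ hc h4), le_sup_right.trans (key _ hc h4), le_sup_left.trans (key _ hc1 h6),
      le_sup_right.trans (key _ hc1 h6), le_sup_left.trans (key _ hc2 h7), le_sup_right.trans (key _ hc2 h7)]
  have h9 : D.S (D.Sz (im ι E)) ≤ D.X a ⊔ D.X (-a) := by
    rw [h3]
    refine RGD.Sup_le ?_
    rintro d (rfl | rfl)
    exacts [le_sup_left, le_sup_right]
  have h10 : X ≤ centralizer {g} := (closure_le _).2 fun x hx => mem_centralizer_singleton_iff.2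
    (hM.inj (by rw [map_mul, map_mul]; exact h8 hg _ (h9 (hM.mem_S hZ hD.pp hs2 hx.1 hx.2))))
  exact mem_Cz.2 fun x hx => mem_centralizer_singleton_iff.1 (h10 hx)

theorem oddD_aux (hNS : BoxNS) (hX : BoxExt) (hD : RD D.cs D.h) (hT : RT D.cs D.h θ) (hS : Sit p r E) (h2 : r ≠ 2)
    (hZ : im ι E ⊆ D.T) (hpos : ∀ a ∈ D.Sz (im ι E), 0 ≤ a → 0 ≤ D.g a) :
    TorC p (((p ^ n) ^ 2 + p ^ n + 1) ^ 2) 24 E ∨ (p ^ n = 2 ∧ r = 3 ∧ Nat.card E = 3 ∧ 2 ∣ Nat.card (Cz E)) := by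
  have hE := hS.toEA
  have hs2 : Sat 2 (D.Lam (im ι E)) := hM.sat hZ hE Nat.prime_two h2
  have hs : Group.IsSolvable (Cz E) := hS.solv_of_le Cz_le_Nz
  rcases (D.Sz (im ι E)).eq_empty_or_nonempty with h0 | h0
  · exact Or.inl (hM.torC hZ hD.pp hs2 h0 (hM.card_T hT) hT.cw)
  right
  rcases hT.cls (D.Lam (im ι E)) h0 (fun _ => hM.stab hZ) (fun a ha h => hM.g a ▸ hpos a ha h) with
    ⟨a, ha, h1⟩ | ⟨a, ha, h1, h3⟩ | ⟨a, b, ha, hb, a0, b0, hab, h3, h4⟩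
  · refine (hM.ns_three hNS hD hT ha.1 h1 hs fun g hg => hM.le_cz hZ ?_ hg).elim
    have ha1 : θ a ∈ D.Sz (im ι E) := hM.g a ▸ hM.g_Sz hZ a ha
    have ha2 : θ (θ a) ∈ D.Sz (im ι E) := hM.g (θ a) ▸ hM.g_Sz hZ _ ha1
    rintro c (rfl | rfl | rfl | rfl | rfl | rfl)
    exacts [ha, D.Sz_neg ha, ha1, D.Sz_neg ha1, ha2, D.Sz_neg ha2]
  · exact (hM.perp hNS hD hT hS h2 hZ ha h1 h3).elim
  have h3' : D.Sz (im ι E) = A2 a b := h3
  have h5 : θ (a + b) = a + b := by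
    rcases h4 with ⟨h4, h5⟩ | ⟨h4, h5⟩
    · rw [map_add, h4, h5]
    · rw [map_add, h4, h5, add_comm]
  have hab' : a + b ∈ D.Sz (im ι E) := by rw [h3']; simp [A2]
  have ext : (D.g a = a ∧ D.g b = b) ∨ (D.g a = b ∧ D.g b = a ∧ p ≠ 2) → False := fun h =>
    hS.not_dvd_fit Fact.out (Chr.refl E).cz Cz_le_Nz (hM.card_fit_eq E ▸ hX p k Y N ρ F D _ a b hD hZ
      (by rintro _ ⟨x, -, rfl⟩; exact hM.fix x) ha hb a0 b0 hab h3' ((hM.g _).trans h5) h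
      (hM.solv hs fun g hg => hM.mem_cz.2 hg))
  rw [hM.g, hM.g] at ext
  rcases h4 with h4 | ⟨h4, h6⟩
  · exact (ext (Or.inl h4)).elim
  obtain rfl : p = 2 := by
    by_contra h
    exact ext (Or.inr ⟨h4, h6, h⟩)
  have hq : 2 ^ n = 2 := by
    by_contra h
    have h7 : 4 ≤ 2 ^ n := by
      have h8 := hM.fq.1
      have h9 : n ≠ 1 := by rintro rfl; exact h rfl
      exact Nat.pow_le_pow_right (n := 2) (i := 2) two_pos (by omega)
    refine hM.ns_one hNS hab'.1 h5 h7 hs fun g hg => hM.le_cz hZ ?_ hg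
    rintro c (rfl | rfl)
    exacts [hab', D.Sz_neg hab']
  obtain ⟨h7, x₀, h8⟩ := hT.tw a b ha hb hab h4 h6 (D.Lam (im ι E)) (show a ∈ D.Sz (im ι E) by rw [h3']; simp [A2]).2
    (show b ∈ D.Sz (im ι E) by rw [h3']; simp [A2]).2 (fun x => by have := hM.theta hZ x; rwa [hq] at this)
  obtain rfl : r = 3 := by
    by_contra h
    obtain ⟨x, hx⟩ := hM.proper hZ hE
    exact hx (hM.sat hZ hE Nat.prime_three h x (h7 x))
  refine ⟨hq, rfl, le_antisymm ?_ ?_, ?_⟩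
  · have h9 : ∀ x : E, Units.mk0 (D.χ x₀ (ι x)) (D.χ_ne_zero _ _) ∈ rootsOfUnity 3 k := fun x => by
      have := h7 x₀ _ ⟨x, x.2, rfl⟩
      rw [D.χ_zsmul] at this
      exact Units.ext (by simpa using this)
    refine le_trans (Nat.card_le_card_of_injective (fun x : E => (⟨_, h9 x⟩ : rootsOfUnity 3 k)) fun x y e => ?_)
      (card_rootsOfUnity k 3)
    have e1 : D.χ x₀ (ι x) = D.χ x₀ (ι y) := congrArg (fun z : rootsOfUnity 3 k => ((z : kˣ) : k)) e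
    have hx := hZ ⟨x, x.2, rfl⟩
    have hy := hZ ⟨y, y.2, rfl⟩
    have e2 : ι ((x : K)⁻¹ * y) = 1 := hM.eq_one (hZ ⟨_, mul_mem (inv_mem x.2) y.2, rfl⟩) fun c => by
      obtain ⟨i, hi⟩ := h8 c
      have e3 := hi _ ⟨_, mul_mem (inv_mem x.2) y.2, rfl⟩
      rw [sub_eq_add_neg, D.χ_add, D.χ_neg, D.χ_zsmul] at e3
      have e4 : D.χ x₀ (ι ((x : K)⁻¹ * y)) = 1 := by
        rw [map_mul, map_inv, D.χ_mul _ (inv_mem hx) hy, D.χ_inv _ hx, e1, inv_mul_cancel₀ (D.χ_ne_zero _ _)]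
      rwa [e4, one_zpow, inv_one, mul_one] at e3
    exact Subtype.ext (inv_mul_eq_one.1 (hM.inj (e2.trans (map_one ι).symm)))
  · obtain ⟨x, hx, -, h9⟩ := hE.exists_ne
    exact Nat.le_of_dvd Nat.card_pos (h9 ▸ E.orderOf_dvd_natCard hx)
  · obtain ⟨u, u1, u2, u3⟩ := hM.exists_unip hab'.1 h5
    rw [← orderOf_eq_prime u2 u1]
    exact (Cz E).orderOf_dvd_natCard (hM.le_cz hZ (A := {a + b}) (by rintro _ rfl; exact hab')
      (RGD.le_Sup (S := {a + b}) rfl u3))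

theorem oddD (hNS : BoxNS) (hX : BoxExt) (hD : RD D.cs D.h) (hT : ∀ w, RT D.cs D.h (tw D.cs D.h w θ)) (hS : Sit p r E)
    (h2 : r ≠ 2) (ht : ∃ g : Y, ∀ x ∈ E, g * ι x * g⁻¹ ∈ D.T) :
    TorC p (((p ^ n) ^ 2 + p ^ n + 1) ^ 2) 24 E ∨ (p ^ n = 2 ∧ r = 3 ∧ Nat.card E = 3 ∧ 2 ∣ Nat.card (Cz E)) := by
  obtain ⟨y, hy, hy', z, hz, hz', h3, h4⟩ := hM.frame ht
  exact ((hM.conj hy hy').conj hz hz').oddD_aux hNS hX hD (by rw [tw_tw]; exact hT _) hS h2 h3 h4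

theorem ccD (hD : RD D.cs D.h) (hT : ∀ w, RT D.cs D.h (tw D.cs D.h w θ)) (hE : EA r E) (h2 : r ≠ 2)
    (ht : ∃ g : Y, ∀ x ∈ E, g * ι x * g⁻¹ ∈ D.T) : Nat.card (Cz E) ≤ (p ^ n) ^ 6 * (p ^ n + 1) ^ 4 := by
  obtain ⟨y, hy, hy', z, hz, hz', h3, -⟩ := hM.frame ht
  have hM' := (hM.conj hy hy').conj hz hz'
  have hs2 := hM'.sat h3 hE Nat.prime_two h2
  have h4 := hM'.card_cz h3 hD.pp hs2
  have h5 : 0 < p ^ n := lt_of_lt_of_le two_pos hM.two_le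
  have h6 := fun x => hM'.stab h3 (x := x)
  rw [show Fintype.card ((D.conj hy hy').conj hz hz').I = 4 from hD.cardI] at h4
  rw [tw_tw] at h6
  exact h4.trans (Nat.mul_le_mul_right _ (Nat.pow_le_pow_right h5 ((hT _).six _ hs2 (hM'.proper h3 hE) h6)))

end Md

end Cfsg.Agent.SB.Low
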