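import Cfsg.Agent.SB.Low.Cert

/-!
# S5765 : the normaliser `3^{1+2}.2S₄` in `³D₄(2)` (helper61)

`boxD42 : BoxD42`.
-/

set_option autoImplicit false
set_option linter.unusedSectionVars false

namespace Cfsg.Agent.SB.Low

open Subgroup Cfsg Cfsg.Agent.H786.FC

namespace D42

variable {K : Type} [Group K] [Finite K] {E N : Subgroup K}

/-- the central elements `v` of `Q` with `v ^ s = 1` -/
def om (s : ℕ) (Q : Subgroup K) : Subgroup K where
  carrier := {v | v ∈ Q ∧ (∀ y ∈ Q, y * v = v * y) ∧ v ^ s = 1}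
  one_mem' := ⟨one_mem _, fun y _ => by rw [mul_one, one_mul], one_pow _⟩
  mul_mem' := by
    rintro a b ⟨a1, a2, a3⟩ ⟨b1, b2, b3⟩
    refine ⟨mul_mem a1 b1, fun y hy => by rw [← mul_assoc, a2 y hy, mul_assoc, b2 y hy, mul_assoc], ?_⟩
    rw [(show Commute a b from b2 a a1).mul_pow, a3, b3, mul_one]
  inv_mem' := by
    rintro a ⟨a1, a2, a3⟩
    exact ⟨inv_mem a1, fun y hy => (show Commute y a from a2 y hy).inv_right, by rw [inv_pow, a3, inv_one]⟩

theorem chr_om {Q : Subgroup K} (h : Chr E Q) (s : ℕ) : Chr E (om s Q) := fun α hα v hv =>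
  ⟨h α hα v hv.1, fun y hy => mem_Cz.1 (h.cz α hα v (mem_Cz.2 hv.2.1)) y hy, by rw [← map_pow, hv.2.2, map_one]⟩

theorem ea_om {Q : Subgroup K} {s : ℕ} (hs : s.Prime) (hQ : IsPGroup s Q) (h0 : Q ≠ ⊥) : EA s (om s Q) := by
  refine ⟨hs, ?_, fun x hx => hx.2.2, fun x hx y hy => hy.2.1 x hx.1⟩
  have := Fact.mk hs
  have h1 : Nontrivial Q := (nontrivial_iff_ne_bot Q).2 h0
  have h2 := hQ.center_nontrivial
  obtain ⟨z, hz⟩ := exists_ne (1 : center Q)
  have h3 : ((z : Q) : K) ≠ 1 := fun e => hz (Subtype.ext (Subtype.ext e))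
  obtain ⟨c, hc, hp⟩ := exists_prime_order_zpowers h3
  obtain ⟨k, rfl⟩ := mem_zpowers_iff.1 hc
  have h4 : ((z : Q) : K) ^ k ∈ Q := zpow_mem (z : Q).2 k
  obtain ⟨j, hj⟩ := hQ ⟨_, h4⟩
  have h5 : orderOf (((z : Q) : K) ^ k) = s :=
    (Nat.prime_dvd_prime_iff_eq hp hs).1 (hp.dvd_of_dvd_pow (orderOf_dvd_of_pow_eq_one (congrArg Subtype.val hj)))
  refine ne_bot_iff_exists_ne_one.2 ⟨⟨_, h4, fun y hy => ?_, by rw [← h5, pow_orderOf_eq_one]⟩, fun e => ?_⟩
  · exact (show Commute y ((z : Q) : K) from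
      congrArg Subtype.val (mem_center_iff.1 z.2 ⟨y, hy⟩)).zpow_right k
  · have h6 : ((z : Q) : K) ^ k = 1 := congrArg Subtype.val e
    rw [h6, orderOf_one] at h5
    exact hs.one_lt.ne h5

/-- the orbit of `y` under `S` lies in `Y` and misses `X` -/
theorem card_le_of_diff {S X Y : Subgroup K} {y : K} (hXY : X ≤ Y)
    (h : ∀ s ∈ S, s⁻¹ * y * s ∈ Y ∧ s⁻¹ * y * s ∉ X) :
    Nat.card S ≤ (Nat.card Y - Nat.card X) * Nat.card ↥(S ⊓ centralizer {y}) := by
  have h1 := hits_mul_cls S Y y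
  have h2 : hits S Y y = Nat.card S := Nat.card_congr (Equiv.subtypeUnivEquiv fun s => (h _ s.2).1)
  rw [h2] at h1
  have h3 := Nat.eq_of_mul_eq_mul_left Nat.card_pos h1
  rw [← cls_mul_card S y, h3, mul_comm]
  refine Nat.mul_le_mul_right _ ((meet_le_of_subset S Y y ((Y : Set K) \ X) fun x hx hY => ⟨hY, (h x hx).2⟩).trans ?_)
  rw [Nat.card_coe_set_eq, Set.ncard_sdiff (show (X : Set K) ⊆ Y from hXY), ← Nat.card_coe_set_eq,
    ← Nat.card_coe_set_eq]
  rfl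

/-- a certificate from counts, all classes of odd prime order being of size at least `139776` -/
theorem cert (hK : Nat.card K = 211341312) (hc : ∀ x : K, (orderOf x).Prime → orderOf x ≠ 2 → cc x ≤ 1512)
    (h1 : N ≤ Nz E) (h2 : Chr E N) (h3 : ∀ g ∈ Nz E, (∀ v ∈ N, g * v = v * g) → g ∈ N) (h4 : ¬ 2 ∣ Nat.card N)
    {ρ ι k a : ℕ} (hρ : Nat.card (Nz E) ≤ ρ) (hι : N.relIndex (Nz E) ≤ ι) (hk : Nat.card N ≤ k + 1)
    (ha : ∀ v ∈ N, (orderOf v).Prime → meet ⊤ (Nz E) v ≤ a) (hka : k * a < 139776) (e φ : ℚ)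
    (n1 : ι * (3 / 2 * ι * ((k : ℚ) / 139776)) + ι * ((ρ : ℚ) / 139776) ^ 2 < 1) (n2 : (ρ : ℚ) / 139776 ≤ e)
    (n3 : 3 / 2 * ι * ((k : ℚ) / 139776) ≤ e ^ 2) (n4 : 0 < φ) (n5 : e + φ / 13 ≤ φ ^ 2)
    (n6 : 2 * φ * 211341312 + 18 * ρ < 211341312) : Cert 2 3 13 E := by
  classical
  have hm : ∀ x : K, (orderOf x).Prime → orderOf x ≠ 2 → 139776 ≤ cls ⊤ x := fun x a b =>
    le_cls_top (hc x a b) (by rw [hK])
  have hN : ∀ v ∈ N, orderOf v ≠ 2 := fun v hv e => h4 (e ▸ orderOf_dvd_natCard N hv)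
  have hP : (primeElts N).card ≤ k := by
    have := card_primeElts_lt N
    omega
  refine ⟨N, h1, h2, h3, h4, ?_, k / 139776, ρ / 139776, e, φ, ι, ι, by positivity, by positivity, fun v hv hp => ?_,
    fun d _ hp hp' => ?_, (kap_le_relIndex 2).trans hι, hι, n1, n2, n3, n4, by exact_mod_cast n5, ?_⟩
  · obtain ⟨x, -, hx⟩ := exists_good_of_sum (T := ⊤) (S := Nz E) _ (primeElts_cover N)
      (fun _ => (a : ℚ) / (139776 : ℕ)) (fun c hc => meet_le_of_fp (by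
        obtain ⟨b1, b2⟩ := mem_primeElts.1 hc
        exact fp_le_div (ha c b1 b2) (hm c b2 (hN c b1)) (by norm_num))) (by
        rw [Finset.sum_const, nsmul_eq_mul, ← mul_div_assoc, div_lt_one (by norm_num)]
        exact_mod_cast lt_of_le_of_lt (Nat.mul_le_mul_right a hP) hka)
    exact ⟨x, hx⟩
  · have b1 : meet ⊤ N v ≤ k := by
      refine (meet_le_of_subset ⊤ N v (primeElts N : Set K) fun x _ hx =>
        Finset.mem_coe.2 (mem_primeElts.2 ⟨hx, by rwa [orderOf_conj']⟩)).trans ?_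
      rwa [Nat.card_coe_set_eq, Set.ncard_coe_finset]
    exact_mod_cast fp_le_div b1 (hm v hp (hN v hv)) (by norm_num)
  · exact_mod_cast fp_le_div ((meet_le_card _ _ d).trans hρ) (hm d hp hp') (by norm_num)
  · have : (Nat.card (Nz E) : ℚ) ≤ ρ := by exact_mod_cast hρ
    rw [hK]
    push_cast
    linarith

/-- an involution which centralises `Ω₁` of an abelian 3-group centralises the group -/
theorem cent_of_comm {F : Subgroup K} (hF : IsPGroup 3 F) (hc : ∀ x ∈ F, ∀ y ∈ F, x * y = y * x) {t : K}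
    (ht : t * t = 1) (hn : ∀ v ∈ F, t * v * t⁻¹ ∈ F) (hZ : t ∈ Cz (om 3 F)) : ∀ v ∈ F, t * v = v * t := by
  intro v hv
  have ti : t⁻¹ = t := inv_eq_of_mul_eq_one_right ht
  by_contra h
  have hw : v * (t * v⁻¹ * t⁻¹) ∈ F := mul_mem hv (hn _ (inv_mem hv))
  have hw1 : v * (t * v⁻¹ * t⁻¹) ≠ 1 := fun e => h (by
    calc t * v = (v * (t * v⁻¹ * t⁻¹)) * (t * v) := by rw [e, one_mul]
      _ = v * t := by group)
  have hi : t * (v * (t * v⁻¹ * t⁻¹)) * t⁻¹ = (v * (t * v⁻¹ * t⁻¹))⁻¹ := by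
    calc t * (v * (t * v⁻¹ * t⁻¹)) * t⁻¹ = t * v * t * v⁻¹ * (t * t)⁻¹ := by group
      _ = t * v * t⁻¹ * v⁻¹ := by rw [ht, inv_one, mul_one, ti]
      _ = _ := by group
  obtain ⟨c, hc', hp⟩ := exists_prime_order_zpowers hw1
  obtain ⟨k, rfl⟩ := mem_zpowers_iff.1 hc'
  set w := v * (t * v⁻¹ * t⁻¹)
  have h4 : w ^ k ∈ F := zpow_mem hw k
  obtain ⟨j, hj⟩ := hF ⟨_, h4⟩
  have h5 : orderOf (w ^ k) = 3 := (Nat.prime_dvd_prime_iff_eq hp Nat.prime_three).1
    (hp.dvd_of_dvd_pow (orderOf_dvd_of_pow_eq_one (congrArg Subtype.val hj)))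
  have h6 : w ^ k * t = t * w ^ k :=
    mem_Cz.1 hZ _ ⟨h4, fun y hy => hc y hy _ h4, by rw [← h5, pow_orderOf_eq_one]⟩
  have h7 : t * w ^ k * t⁻¹ = (w ^ k)⁻¹ := by rw [← conj_zpow, hi, inv_zpow]
  rw [← h6, mul_inv_cancel_right] at h7
  have h8 : orderOf (w ^ k) ∣ 2 := orderOf_dvd_of_pow_eq_one (by rw [pow_two]; exact mul_eq_one_iff_eq_inv.2 h7)
  rw [h5] at h8
  omega

theorem comm_of_dvd {H : Subgroup K} (h : Nat.card H ∣ 3 ^ 2) : ∀ x ∈ H, ∀ y ∈ H, x * y = y * x := by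
  have := Fact.mk Nat.prime_three
  have h1 : IsMulCommutative H := by
    obtain ⟨i, hi, e⟩ := (Nat.dvd_prime_pow Nat.prime_three).1 h
    interval_cases i
    · have := (Nat.card_eq_one_iff_unique.1 e).1
      exact ⟨⟨fun a b => Subsingleton.elim _ _⟩⟩
    · have : IsCyclic H := isCyclic_of_prime_card (p := 3) e
      infer_instance
    · exact IsPGroup.isMulCommutative_of_card_eq_prime_sq e
  exact fun x hx y hy => congrArg Subtype.val (h1.is_comm.comm (⟨x, hx⟩ : H) ⟨y, hy⟩)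

/-- a proper subgroup of a group of order dividing `3 ^ (n + 1)` -/
theorem dvd_of_lt {X Y : Subgroup K} {n : ℕ} (hle : X ≤ Y) {y : K} (hy : y ∈ Y) (hy' : y ∉ X)
    (h : Nat.card Y ∣ 3 ^ (n + 1)) : Nat.card X ∣ 3 ^ n := by
  obtain ⟨i, hi, e⟩ := (Nat.dvd_prime_pow Nat.prime_three).1 ((card_dvd_of_le hle).trans h)
  rw [e]
  refine pow_dvd_pow 3 (Nat.le_of_lt_succ (lt_of_le_of_ne hi fun e' => hy' ?_))
  rw [eq_of_le_of_card_ge hle (by rw [e, e']; exact Nat.le_of_dvd (by positivity) h)]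
  exact hy

/-- the automorphisms of a non-abelian group of order 27 -/
theorem card_le_27 {R F Z : Subgroup K} (hF : Nat.card F = 27) (hn : ∀ g ∈ R, ∀ v ∈ F, g⁻¹ * v * g ∈ F)
    (hc : ∀ g ∈ R, (∀ v ∈ F, g * v = v * g) → g ∈ F) (hZF : Z ≤ F) (hZ : Nat.card Z = 3)
    (hZc : ∀ z ∈ Z, ∀ v ∈ F, v * z = z * v) {a b : K} (ha : a ∈ F) (hb : b ∈ F) (hab : a * b ≠ b * a) :
    Nat.card R ≤ 1404 := by
  have ha1 : a ≠ 1 := fun e => hab (by rw [e, mul_one, one_mul])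
  have h1 := card_le_of_diff (S := R) (X := ⊥) (Y := F) (y := a) bot_le fun s hs =>
    ⟨hn s hs a ha, fun e => ha1 (by
      calc a = s * (s⁻¹ * a * s) * s⁻¹ := by group
        _ = 1 := by rw [mem_bot.1 e, mul_one, mul_inv_cancel])⟩
  have h2 := card_le_of_diff (S := R ⊓ centralizer {a}) (X := F ⊓ centralizer {a}) (Y := F) (y := b) inf_le_left
    fun s hs => ⟨hn s hs.1 b hb, fun e => hab (by
      have e1 := mem_centralizer_singleton_iff.1 e.2
      have e2 := mem_centralizer_singleton_iff.1 hs.2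
      calc a * b = s * (s⁻¹ * a * s * (s⁻¹ * b * s)) * s⁻¹ := by group
        _ = s * (s⁻¹ * b * s * (s⁻¹ * a * s)) * s⁻¹ := by
          rw [mul_assoc s⁻¹ a s, ← e2, inv_mul_cancel_left, e1]
        _ = b * a := by group)⟩
  have hbX : b ∉ F ⊓ centralizer {a} := fun e => hab (mem_centralizer_singleton_iff.1 e.2).symm
  have h3 : Nat.card ↥(F ⊓ centralizer {a}) ∣ 3 ^ 2 := dvd_of_lt inf_le_left hb hbX (by rw [hF]; norm_num)
  have haX : a ∈ F ⊓ centralizer {a} := ⟨ha, mem_centralizer_singleton_iff.2 rfl⟩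
  have h4 : 9 ≤ Nat.card ↥(F ⊓ centralizer {a}) := by
    by_contra h5
    have h6 : Z ≤ F ⊓ centralizer {a} := fun z hz => ⟨hZF hz, mem_centralizer_singleton_iff.2 (hZc z hz a ha).symm⟩
    have h7 := card_le_of_le h6
    have h8 : Nat.card ↥(F ⊓ centralizer {a}) = 3 := by
      generalize Nat.card ↥(F ⊓ centralizer {a}) = c at h3 h5 h7
      rw [hZ] at h7
      push Not at h5
      interval_cases c <;> first | rfl | omega
    rw [← eq_of_le_of_card_ge h6 (by rw [h8, hZ])] at haX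
    exact hab (hZc a haX b hb).symm
  have h5 : R ⊓ centralizer {a} ⊓ centralizer {b} ≤ F ⊓ centralizer {a} := by
    intro g hg
    refine ⟨hc g hg.1.1 fun v hv => ?_, hg.1.2⟩
    by_contra h6
    exact hab (comm_of_dvd (dvd_of_lt (X := F ⊓ centralizer {g}) inf_le_left hv
      (fun e => h6 (mem_centralizer_singleton_iff.1 e.2).symm) (by rw [hF]; norm_num))
      a ⟨ha, mem_centralizer_singleton_iff.2 (mem_centralizer_singleton_iff.1 hg.1.2).symm⟩
      b ⟨hb, mem_centralizer_singleton_iff.2 (mem_centralizer_singleton_iff.1 hg.2).symm⟩)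
  have h6 := Nat.le_of_dvd (by norm_num)
    (dvd_of_lt (n := 1) h5 haX (fun e => hab (mem_centralizer_singleton_iff.1 e.2)) h3)
  rw [hF, card_bot] at h1
  rw [hF] at h2
  have h7 : 27 - Nat.card ↥(F ⊓ centralizer {a}) ≤ 18 := by omega
  have h8 := h2.trans (Nat.mul_le_mul h7 h6)
  omega

end D42

open D42 in
theorem boxD42 : BoxD42 := by
  intro K _ _ hK hc h r E hE
  by_contra hne
  have hF : Chr E (SB.fit (Nz E)) := (Chr.refl E).nz.fit
  have hle : SB.fit (Nz E) ≤ Nz E := fit_le _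
  have h2 : ¬ 2 ∣ Nat.card (SB.fit (Nz E)) := hE.not_dvd_fit Nat.prime_two (Chr.refl E).nz le_rfl
  have hcent := fit_cent hE.solv
  set F := SB.fit (Nz E)
  have key : ∀ (s : ℕ) (Q : Subgroup K), s.Prime → Q ≤ F → IsPGroup s Q → Q ≠ ⊥ → Chr E Q →
      s = 3 ∧ Nat.card (om s Q) = 3 ∧ 2 ∣ Nat.card (Cz (om s Q)) := by
    intro s Q hs h1 h3 h4 h5
    have h6 : om s Q ≤ Nz E := fun v hv => hle (h1 hv.1)
    have h7 : s ≠ 2 := fun e => h4 (hE.npar Q (h1.trans hle) (e ▸ h3) h5)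
    have h8 := ea_om hs h3 h4
    exact (h s _ (hE.sub (chr_om h5 s) h6 h8 h7)).resolve_left fun hC =>
      hne (hC.of_chr (chr_om h5 s) (hE.nz_eq (chr_om h5 s) h8.ne_bot h6))
  obtain ⟨n, hn⟩ : ∃ n, Nat.card F = 3 ^ n := by
    refine ⟨_, Nat.eq_prime_pow_of_unique_prime_dvd Nat.card_pos.ne' fun {s} hs hd => ?_⟩
    have := Fact.mk hs
    obtain ⟨v, hv⟩ := exists_prime_orderOf_dvd_card' s hd
    obtain ⟨Q, q1, q2, q3, q4⟩ := hF.exists_core (fit_nilpotent _) hs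
    refine (key s Q hs q1 q2 (fun e => ?_) q4).1
    have h7 := (q3 v v.2).1 ⟨1, by rw [pow_one, ← hv, ← Subgroup.orderOf_coe, pow_orderOf_eq_one]⟩
    rw [e, mem_bot] at h7
    rw [← Subgroup.orderOf_coe, h7, orderOf_one] at hv
    exact hs.one_lt.ne hv
  have hF3 : IsPGroup 3 F := IsPGroup.of_card hn
  have hF0 : F ≠ ⊥ := fun e => by
    obtain ⟨x, hx, h1, -⟩ := hE.toEA.exists_ne
    refine h1 (mem_bot.1 (e ▸ hcent x (Cz_le_Nz (hE.toEA.le_Cz hx)) fun v hv => ?_))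
    rw [e, mem_bot] at hv
    rw [hv, mul_one, one_mul]
  obtain ⟨-, hZ, hC⟩ := key 3 F Nat.prime_three le_rfl hF3 hF0 hF
  have hZe := ea_om Nat.prime_three hF3 hF0
  have hNZ : Nz (om 3 F) = Nz E := hE.nz_eq (chr_om hF 3) hZe.ne_bot fun v hv => hle hv.1
  have hna : ¬ ∀ x ∈ F, ∀ y ∈ F, x * y = y * x := by
    intro hcm
    have := Fact.mk Nat.prime_two
    obtain ⟨t, ht⟩ := exists_prime_orderOf_dvd_card' 2 hC
    rw [← Subgroup.orderOf_coe] at ht
    have h3 : (t : K) ∈ Nz E := hNZ ▸ Cz_le_Nz t.2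
    exact h2 (ht ▸ orderOf_dvd_natCard F (hcent t h3 (cent_of_comm hF3 hcm
      (by rw [← pow_two, ← ht, pow_orderOf_eq_one]) (hF.conj h3) t.2)))
  have hd : Nat.card (Nz E) ∣ 211341312 := hK ▸ card_subgroup_dvd_card _
  have hi := card_eq_mul_relIndex hle
  have hn4 : n ≤ 4 := by
    by_contra h5
    have h6 : 3 ^ 5 ∣ 211341312 := ((pow_dvd_pow 3 (by omega)).trans (hn ▸ card_dvd_of_le hle)).trans hd
    norm_num at h6
  have hn3 : 3 ≤ n := by
    by_contra h5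
    exact hna (comm_of_dvd (hn ▸ pow_dvd_pow 3 (by omega)))
  have hconj : ∀ g ∈ Nz E, ∀ v ∈ F, g⁻¹ * v * g ∈ F := fun g hg v hv => by
    simpa using hF.conj (inv_mem hg) v hv
  interval_cases n
  · push Not at hna
    obtain ⟨a, ha, b, hb, hab⟩ := hna
    have h3 := card_le_27 (Z := om 3 F) hn hconj hcent (fun v hv => hv.1) hZ (fun z hz => hz.2.1) ha hb hab
    rw [hn] at hi
    exact hne (cert hK hc hle hF hcent h2 (ι := 52) (k := 26) h3 (by omega) (by rw [hn]; norm_num)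
      (fun v _ _ => (meet_le_card _ _ v).trans h3) (by norm_num) (13 / 100) (9 / 20) (by norm_num) (by norm_num)
      (by norm_num) (by norm_num) (by norm_num) (by norm_num))
  · obtain ⟨z, hz, hz1, hz3⟩ := hZe.exists_ne
    have h3 := card_le_of_diff (S := Nz E) (X := ⊥) (Y := om 3 F) (y := z) bot_le fun s hs =>
      ⟨by simpa using (chr_om hF 3).conj (inv_mem hs) z hz, fun e => hz1 (by
        calc z = s * (s⁻¹ * z * s) * s⁻¹ := by group
          _ = 1 := by rw [mem_bot.1 e, mul_one, mul_inv_cancel])⟩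
    have h4 := (card_le_of_le (inf_le_right : Nz E ⊓ centralizer {z} ≤ _)).trans
      (hc z (hz3 ▸ Nat.prime_three) (by rw [hz3]; norm_num))
    rw [hZ, card_bot] at h3
    rw [hn] at hi
    rw [← hi] at hd
    have h5 : F.relIndex (Nz E) ≤ 37 := by omega
    have h6 : F.relIndex (Nz E) ≤ 32 ∧ Nat.Coprime 3 (F.relIndex (Nz E)) := by
      generalize F.relIndex (Nz E) = i at hd h5
      interval_cases i <;> first | (exfalso; omega) | decide
    have hno : (F.subgroupOf (Nz E)).Normal := ⟨fun v hv g => hF.conj g.2 _ hv⟩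
    refine hne (cert hK hc hle hF hcent h2 (ρ := 2592) (k := 80) (a := 81) (by omega) h6.1 (by rw [hn]; norm_num)
      (fun v hv hp => (meet_le_of_subset ⊤ _ v (F : Set K) fun x _ hx => ?_).trans hn.le) (by norm_num) (17 / 100)
      (49 / 100) (by norm_num) (by norm_num) (by norm_num) (by norm_num) (by norm_num) (by norm_num))
    have h7 : orderOf (x⁻¹ * v * x) ∣ 3 ^ 4 := by
      rw [orderOf_conj', ← hn]
      exact orderOf_dvd_natCard F hv
    have h8 : (x⁻¹ * v * x) ^ F.relIndex (Nz E) ∈ F := (F.subgroupOf (Nz E)).pow_index_mem ⟨_, hx⟩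
    exact zpowers_le.2 h8 (mem_zpowers_pow_iff.2 ((h6.2.pow_left 4).coprime_dvd_left h7).symm)

end Cfsg.Agent.SB.Low
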