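import Cfsg.Agent.SB.Low.Defs
import Cfsg.Agent.H373.TS.TDFour

/-!
# S5765 : the centralisers of the elements of odd prime order of `³D₄(2)` (helper61)

`boxC42 : BoxC42`.
-/

set_option autoImplicit false
set_option linter.unusedSectionVars false

namespace Cfsg.Agent.SB.Low

open CoxeterSystem Cfsg Cfsg.Lie Cfsg.Lie.ChevalleyDatum
open Cfsg.Agent.ChevalleyStructure Cfsg.Agent.ChevalleyStructure.Elts Cfsg.Agent.ChevalleyStructure.CoxeterGeom
  Cfsg.Agent.ChevalleyStructure.CoxeterGeomTypes Cfsg.Agent.ChevalleyStructure.NPerm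
open Cfsg.Agent.Nodes Cfsg.Agent.Nodes.RGDChev Cfsg.Agent.H972.CS.Main Cfsg.Agent.H972.CS.LinkOf
  Cfsg.Agent.H373.TS.Kc Cfsg.Agent.H373.TS.Twist Cfsg.Agent.H373.TS.D4
open Cfsg.Agent.H27.Exc

namespace C42

theorem chk3 : chkAll 2 3 1512 = true := by decide +kernel
theorem chk7 : chkAll 2 7 1512 = true := by decide +kernel
theorem chk13 : chkAll 2 13 1512 = true := by decide +kernel

variable {K : Type} [Field K] [Fintype K]

theorem cent_le (hK : Fintype.card K = 8) {s B : ℕ} (hs : s.Prime) (hs2 : s ≠ 2) (hchk : chkAll 2 s B = true)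
    {x : ↥(twistedD4 K 2)} (hx : orderOf x = s) : Nat.card ↥(Subgroup.centralizer {x}) ≤ B := by
  classical
  have : Fact (Nat.Prime 2) := ⟨Nat.prime_two⟩
  have : CharP K 2 := by
    obtain ⟨p, hp⟩ := CharP.exists K
    obtain ⟨n, hpp, hn⟩ := FiniteField.card K p
    have h1 : p = 2 := by
      have h2 : p ∣ 8 := by
        rw [← hK, hn]
        exact dvd_pow_self p n.2.ne'
      have h3 : p ∣ 2 := hpp.dvd_of_dvd_pow (show p ∣ 2 ^ 3 by norm_num; exact h2)
      exact (Nat.prime_dvd_prime_iff_eq hpp Nat.prime_two).1 h3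
    rwa [h1] at hp
  have hfin : Finite coxeterD4.Group := finite_W RGDTwD4.hp coxeterD4.toCoxeterSystem
  obtain ⟨f, h1, h2, w, h3, h4⟩ := bound_twD4 (q := 2) (r := 2) (n := 1) (by norm_num) (by norm_num)
    (by rw [hK]; norm_num) hs hs2 (meets4 hs.pos) (x := x) (by rw [← hx, pow_orderOf_eq_one])
    (fun h => hs.one_lt.ne' (by rw [← hx, h, orderOf_one]))
  obtain ⟨fl, hfl, hf⟩ := h1
  obtain ⟨cc, hc, rfl⟩ := List.mem_map.1 hfl
  have hlen : cc.length = 4 := len_tups _ _ cc hc
  have h5 := (List.all_eq_true.1 hchk) cc hc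
  rw [Bool.or_eq_true] at h5
  rcases h5 with h5 | h5
  · exfalso
    apply h2
    refine AddMonoidHom.ext fun y => ?_
    rw [H129.TorusChar.IsMC.eq_sum_sr y, map_sum]
    refine Finset.sum_eq_zero fun i _ => ?_
    rw [map_zsmul, hf]
    have h6 : ((cc.map fun n : ℕ => (n : ℤ)).getD i 0) = ((cc.getD i 0 : ℕ) : ℤ) := by
      rw [List.getD_eq_getElem?_getD, List.getD_eq_getElem?_getD, List.getElem?_map]
      cases cc[(i : ℕ)]? <;> rfl
    have h7 : cc.getD i 0 % s = 0 := by
      rw [List.getD_eq_getElem?_getD]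
      cases h8 : cc[(i : ℕ)]? with
      | none => simp
      | some a =>
        have h9 := List.all_eq_true.1 h5 a (List.mem_of_getElem? h8)
        simpa using h9
    rw [h6, Int.cast_natCast, (ZMod.natCast_eq_zero_iff _ _).2 (Nat.dvd_of_mod_eq_zero h7), smul_zero]
  · obtain ⟨Cw, h6, h7⟩ := okT_sound link4 perm_root perm_inv (by norm_num) (by rw [List.length_map, hlen]) hf h3
      (cos4 w) h5
    exact (h4 Cw h6).trans h7

/-- the order of `³D₄(2)` -/
theorem card_G (hK : Fintype.card K = 8) : Nat.card ↥(twistedD4 K 2) = 211341312 :=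
  (S1067.result (q := 2) Nat.prime_two.isPrimePow (by rw [hK]; norm_num)).trans (by norm_num)

end C42

theorem boxC42 : BoxC42 := by
  intro F _ _ hF x hp h2
  have h1 : orderOf x ∣ 2 ^ 12 * 3 ^ 4 * 7 ^ 2 * 13 := by
    have := orderOf_dvd_natCard x
    rwa [C42.card_G hF] at this
  have e : ∀ {r k : ℕ}, r.Prime → orderOf x ∣ r ^ k → orderOf x = r := fun hr h =>
    (Nat.prime_dvd_prime_iff_eq hp hr).1 (hp.dvd_of_dvd_pow h)
  rcases (Nat.Prime.dvd_mul hp).1 h1 with h1 | h1
  · rcases (Nat.Prime.dvd_mul hp).1 h1 with h1 | h1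
    · rcases (Nat.Prime.dvd_mul hp).1 h1 with h1 | h1
      · exact absurd (e Nat.prime_two h1) h2
      · exact C42.cent_le hF (by norm_num) (by norm_num) C42.chk3 (e (by norm_num) h1)
    · exact C42.cent_le hF (by norm_num) (by norm_num) C42.chk7 (e (by norm_num) h1)
  · exact C42.cent_le hF (by norm_num) (by norm_num) C42.chk13
      ((Nat.prime_dvd_prime_iff_eq hp (by norm_num)).1 h1)

end Cfsg.Agent.SB.Low
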