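import Cfsg.Agent.SB.Low.Defs
import Cfsg.Agent.SB.Exc.Max.Shape
import Cfsg.Agent.S0058
import Cfsg.Agent.S0044

/-!
# S5765, `G₂(q)` and `³D₄(q)`: centralisers of type `A₂` (helper52)

* `ExtL.he_grp`, `ExtL.he_of_solv` : coprime action on the Fitting subgroup;
* `boxExt`.
-/

set_option autoImplicit false
set_option linter.unusedSectionVars false

namespace Cfsg.Agent.SB.Low

open Subgroup Cfsg CoxeterSystem Cfsg.Agent.ChevalleyStructure.CoxeterGeom Cfsg.Agent.Tits.Roots Cfsg.Agent.Nodes.Reps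
  Cfsg.Agent.Nodes.BNOf Cfsg.Agent.Nodes.Coroot Cfsg.Agent.DL.Base Cfsg.Agent.DL Cfsg.Agent.BpExc.Zc
  Cfsg.Agent.SB.Exc.Max
open scoped commutatorElement

namespace ExtL

theorem eq_one_of_pow {H : Type*} [Group H] [Finite H] {p : ℕ} [hp : Fact p.Prime] {Q : Subgroup H}
    (hQ : ¬ p ∣ Nat.card Q) {c : H} (hc : c ∈ Q) {j : ℕ} (h : c ^ p ^ j = 1) : c = 1 :=
  orderOf_eq_one_iff.1 (Nat.eq_one_of_dvd_coprimes (Nat.Coprime.pow_left j ((Nat.Prime.coprime_iff_not_dvd hp.out).2 hQ))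
    (orderOf_dvd_of_pow_eq_one h) (orderOf_dvd_natCard Q hc))

/-- coprime action of `E_{p²} ≤ L` on `F(H) ⊓ L`, `L` a normal subgroup of the solvable group `H` -/
theorem he_grp {H : Type*} [Group H] [Finite H] [Group.IsSolvable H] {p : ℕ} [hp : Fact p.Prime]
    (hF : ¬ p ∣ Nat.card (fittingSubgroup H)) {L : Subgroup H} (hL : L.Normal) {a e : H} (ha : a ∈ L) (hap : a ^ p = 1)
    (hep : e ^ p = 1) (h1 : a ≠ 1) (hc : a * e = e * a) (hz : e ∉ zpowers a) :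
    ∃ e' ∈ closure {a, e}, e' ≠ 1 ∧ ∃ f ∈ L, f * e' = e' * f ∧ ∀ j : ℕ, (a⁻¹ * (f * a * f⁻¹)) ^ p ^ j ≠ 1 := by
  by_contra h
  push Not at h
  have hN := S0044.fittingSubgroup_normal H
  have hcm : IsMulCommutative (closure ({a, e} : Set H)) := isMulCommutative_closure (by
    rintro _ (rfl | rfl) _ (rfl | rfl)
    exacts [rfl, hc, hc.symm, rfl])
  have hV : ∀ v ∈ closure ({a, e} : Set H), v ^ p = 1 := fun v hv => by
    induction hv using closure_induction with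
    | mem x hx => rcases hx with rfl | rfl <;> assumption
    | one => exact one_pow p
    | mul x y hx hy h1 h2 => rw [Commute.mul_pow (setLike_mul_comm hx hy), h1, h2, mul_one]
    | inv x hx h1 => rw [inv_pow, h1, inv_one]
  have ha' : a ∈ closure ({a, e} : Set H) := subset_closure (Or.inl rfl)
  have hnc : ¬ IsCyclic (closure ({a, e} : Set H)) := fun h2 => by
    have h3 : Nat.card (closure ({a, e} : Set H)) ∣ p := by
      rw [← IsCyclic.exponent_eq_card, Monoid.exponent_dvd_iff_forall_pow_eq_one]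
      exact fun v => Subtype.ext (hV v v.2)
    have h4 : (⟨a, ha'⟩ : closure ({a, e} : Set H)) ≠ 1 := fun e => h1 (congrArg Subtype.val e)
    rcases (Nat.dvd_prime hp.out).1 h3 with h5 | h5
    · exact h4 ((Nat.card_eq_one_iff_unique.1 h5).1.elim _ _)
    · obtain ⟨i, hi⟩ := mem_zpowers_of_prime_card h5 h4 (g' := ⟨e, subset_closure (Or.inr rfl)⟩)
      exact hz ⟨i, congrArg Subtype.val hi⟩
  obtain ⟨n, hn⟩ := IsPGroup.iff_card.1 (show IsPGroup p (closure ({a, e} : Set H)) from fun v =>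
    ⟨1, Subtype.ext (by rw [pow_one]; exact hV v v.2)⟩)
  have hQ : ¬ p ∣ Nat.card ↥(fittingSubgroup H ⊓ L) := fun h2 => hF (h2.trans (card_dvd_of_le inf_le_left))
  have h2 := S0058.result (closure {a, e}) (fittingSubgroup H ⊓ L) hnc (le_normalizer_of_normal.trans' le_top) (by
    rw [hn]; exact Nat.Coprime.pow_left n ((Nat.Prime.coprime_iff_not_dvd hp.out).2 hQ))
  have hm : ∀ f ∈ fittingSubgroup H, a⁻¹ * (f * a * f⁻¹) ∈ fittingSubgroup H ⊓ L := fun f hf =>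
    mem_inf.2 ⟨by rw [← mul_assoc, ← mul_assoc]; exact mul_mem (hN.conj_mem' f hf a) (inv_mem hf),
      mul_mem (inv_mem ha) (hL.conj_mem a ha f)⟩
  have h3 : fittingSubgroup H ⊓ L ≤ centralizer {a} := by
    rw [← h2]
    refine iSup_le fun e' => iSup_le fun he' f hf => ?_
    obtain ⟨j, hj⟩ := h e' he'.1 he'.2 f hf.1.2 (mem_centralizer_singleton_iff.1 hf.2)
    have h4 := eq_one_of_pow hQ (hm f hf.1.1) hj
    rw [inv_mul_eq_one, eq_mul_inv_iff_mul_eq] at h4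
    exact mem_centralizer_singleton_iff.2 h4.symm
  refine h1 (eq_one_of_pow hF (S0044.result fun f hf => ?_) (j := 1) (by rwa [pow_one]))
  have h4 : Commute (a⁻¹ * (f * a * f⁻¹)) a := mem_centralizer_singleton_iff.1 (h3 (hm f hf))
  have h5 : (a⁻¹ * (f * a * f⁻¹)) ^ p ^ 1 = 1 := by
    have h6 := h4.symm.mul_pow p
    rwa [mul_inv_cancel_left, conj_pow, hap, mul_one, mul_inv_cancel, one_mul, eq_comm, ← pow_one p] at h6
  have h6 := eq_one_of_pow hQ (hm f hf) h5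
  rw [inv_mul_eq_one, eq_mul_inv_iff_mul_eq] at h6
  exact h6.symm

/-- `HE` for a subgroup `M` normalised by `C ≥ M`, `C ^ F` solvable with `O_p = 1` -/
theorem he_of_solv {Y : Type} [Group Y] {p : ℕ} [Fact p.Prime] {F : MulAut Y} {C M : Subgroup Y} [Finite ↥(fix F ⊓ C)]
    (hs : Group.IsSolvable ↥(fix F ⊓ C)) (hF : ¬ p ∣ Nat.card (fittingSubgroup ↥(fix F ⊓ C))) (hM : M ≤ C)
    (hn : ∀ c ∈ C, ∀ m ∈ M, c * m * c⁻¹ ∈ M) : HE p F M := by
  intro a ha e he hFa hFe hap hep h1 hc hz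
  obtain ⟨e', h2, h3, f, h4, h5, h6⟩ := he_grp hF (L := M.subgroupOf (fix F ⊓ C))
    ⟨fun m hm c => hn c c.2.2 m hm⟩ (a := ⟨a, hFa, hM ha⟩) (e := ⟨e, hFe, hM he⟩) ha (Subtype.ext hap) (Subtype.ext hep)
    (fun h => h1 (congrArg Subtype.val h)) (Subtype.ext hc) (fun ⟨i, hi⟩ => hz ⟨i, congrArg Subtype.val hi⟩)
  refine ⟨e', ?_, fun h => h3 (Subtype.ext h), f, h4, f.2.1, congrArg Subtype.val h5, fun j h => h6 j (Subtype.ext h)⟩
  have h7 := mem_map_of_mem (fix F ⊓ C).subtype h2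
  rwa [MonoidHom.map_closure, Set.image_pair] at h7

variable {p : ℕ} [Fact p.Prime] {k : Type} [Field k] [CharP k p] {Y : Type} [Group Y] {N : Type} [Fintype N]
  [DecidableEq N] {ρ : Y →* GL N k} {F : MulAut Y} {G : Subgroup Y} [IsAlgClosed k] {D : Datum p ρ F G}

theorem ex_pos {a : D.I → ℤ} (ha : D.Rt a) (hg : D.g a = a) : 0 < D.ex a := by
  by_contra h
  obtain ⟨d, e, H⟩ := D.exists_split'
  obtain ⟨c, -, hc⟩ := D.F_pow_x d ha
  have h1 : ∀ u : k, u ^ p ^ e = c * u := fun u => D.x_inj a ha (by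
    rw [← H.x a ha, hc, Function.iterate_fixed hg, Finset.sum_eq_zero fun i _ => by
      rw [Function.iterate_fixed hg]; omega, pow_zero, pow_one])
  have h2 := h1 1
  rw [one_pow, mul_one] at h2
  refine Set.infinite_univ ((finite_pow_eq (k := k) H.e_pos).subset fun u _ => ?_)
  show u ^ _ = u
  rw [h1, ← h2, one_mul]

theorem dc_of_rd (H : RD D.cs D.h) : DC D.cs D.h D.X := fun a b ha hb h0 u hu v hv => by
  by_cases h1 : a = b
  · subst h1
    exact x_comm ha hu hv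
  have h2 : a ≠ -b := fun e => by
    rw [neg_eq_iff_eq_neg.1 e.symm, cpr_neg', cpr_self _ _ ha] at h0
    omega
  exact commutatorElement_eq_one_iff_mul_comm.1 (mem_bot.1 (RGD.Sup_le (K := ⊥)
    (fun c hc => (H.btw0 a b c ha hb h1 h0 hc).elim) (D.comm ha hb h1 h2 hu hv)))

theorem commZ_of_rd (H : RD D.cs D.h) : CommZ D.cs D.h D.X := fun a b ha hb h1 h2 u hu v hv => by
  refine RGD.Sup_mono (fun c hc => ?_) (D.comm ha hb h1 h2 hu hv)
  have h3 : cpr D.cs D.h b a < 0 := not_le.1 fun h => H.btw0 a b c ha hb h1 h hc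
  have h4 := cpr_mul_lt ha hb h1 h2
  rw [H.symm a b ha hb] at h4
  exact ⟨hc.1, 1, 1, one_pos, one_pos, by
    rw [one_smul, one_smul]; exact (H.btw1 a b c ha hb (by nlinarith)).1 hc⟩

theorem conj_mem_Sz {Z : Set Y} (hZ : Z ⊆ D.T) {y : Y} (hy : y ∈ G) (hc : y ∈ centralizer Z) {u : Y}
    (hu : u ∈ D.S (D.Sz Z)) : y * u * y⁻¹ ∈ D.S (D.Sz Z) := by
  obtain ⟨c, h1, m, ⟨w, hm⟩, h2, rfl⟩ := D.exists_cen_form hZ hy hc
  have h3 := D.conj_mem_S hm D.Sz_root (fun a ha => D.act_mem_Sz hZ hm h2 ha) hu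
  have h4 := mul_mem (mul_mem h1 h3) (inv_mem h1)
  convert h4 using 1
  group

theorem ex_eq {a b : D.I → ℤ} (ha : D.Rt a) (hb : D.Rt b) (hab : D.Rt (a + b)) (h1 : cpr D.cs D.h b a = -1)
    (h2 : cpr D.cs D.h a b = -1) (hg : D.g (a + b) = D.g a + D.g b) : D.ex a = D.ex (a + b) ∧ D.ex b = D.ex (a + b) := by
  have h3 := D.ψ_g hab
  rw [hg, map_add, D.ψ_g ha, D.ψ_g hb] at h3
  have h4 := congrArg (fun x => cpr D.cs D.h x a) h3
  have h5 := congrArg (fun x => cpr D.cs D.h x b) h3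
  simp only [cpr_add', cpr_smul', h1, h2, cpr_self _ _ ha, cpr_self _ _ hb] at h4 h5
  have h6 : Function.Injective fun n : ℕ => (p : ℤ) ^ n :=
    pow_right_injective₀ (by exact_mod_cast (Fact.out : p.Prime).pos) (by exact_mod_cast (Fact.out : p.Prime).ne_one)
  exact ⟨h6 (by simp only; omega), h6 (by simp only; omega)⟩

end ExtL

open ExtL in
theorem boxExt : BoxExt := by
  intro p _ k _ _ _ Y _ N _ _ ρ F D Z a b H hZ hfix ha hb a0 b0 h1 hS hg hc hs
  by_contra hp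
  have := D.amb.finite_fix
  have : Finite ↥(fix F ⊓ centralizer Z) := Finite.of_injective _ (inclusion_injective inf_le_left)
  have hE : HE p F (D.S (D.Sz Z)) := he_of_solv hs hp ((D.S_le_cen Z).trans (D.cen_le_centralizer hZ))
    fun c hc m hm => conj_mem_Sz hZ (mem_top c) hc hm
  have hF : ∀ c ∈ D.Sz Z, D.g c ∈ D.Sz Z := fun c hc => D.g_mem_Sz hZ (fun z hz => by rwa [hfix z hz]) hc
  have h2 : cpr D.cs D.h a b = -1 := by rw [H.symm a b ha hb, h1]
  have ma : a ∈ D.Sz Z := by rw [hS]; simp [A2]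
  have mθ : a + b ∈ D.Sz Z := by rw [hS]; simp [A2]
  have hg' : D.g (a + b) = D.g a + D.g b := by
    rcases hc with ⟨e1, e2⟩ | ⟨e1, e2, -⟩ <;> rw [hg, e1, e2]
    exact add_comm a b
  obtain ⟨e1, e2⟩ := ex_eq ha hb mθ.1 h1 h2 hg'
  have pos : ∀ c ∈ D.Sz Z, 0 ≤ c → c = a ∨ c = b ∨ c = a + b := fun c hc c0 => by
    have hr := hc.1
    rw [hS] at hc
    rcases hc with h | h | h | h | h | h
    exacts [Or.inl h, Or.inr (Or.inl h), Or.inr (Or.inr h), absurd h (ne_neg_of_nonneg hr c0 a0),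
      absurd h (ne_neg_of_nonneg hr c0 b0), absurd h (ne_neg_of_nonneg hr c0 (add_nonneg a0 b0))]
  have hex : ∀ c ∈ D.Sz Z, D.ex c = D.ex (a + b) := fun c hc => by
    rw [hS] at hc
    rcases hc with rfl | rfl | rfl | rfl | rfl | rfl
    exacts [e1, e2, rfl, (D.ex_neg ha).trans e1, (D.ex_neg hb).trans e2, D.ex_neg mθ.1]
  have hqs : (D.sub hZ hF rfl).QS := fun c hc' h0 => by
    rw [← io_nonneg hZ hF rfl ((D.sub hZ hF rfl).g_root c hc'), D.sub_g hZ hF rfl hc']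
    rcases pos _ (io_mem hZ hF rfl hc') ((io_nonneg hZ hF rfl hc').2 h0) with e | e | e <;> rw [e]
    · rcases hc with ⟨e1, -⟩ | ⟨e1, -⟩ <;> rwa [e1]
    · rcases hc with ⟨-, e1⟩ | ⟨-, e1, -⟩ <;> rwa [e1]
    · rw [hg]
      exact add_nonneg a0 b0
  obtain ⟨θ, hθ, eθ⟩ := exists_io hZ hF rfl mθ
  obtain ⟨s, hs', es⟩ := exists_io hZ hF rfl ma
  have ec : EC (D.sub hZ hF rfl) (D.ex (a + b)) θ := shape_qs hqs (ex_pos mθ.1 hg)
    (fun c hc => hex _ (io_mem hZ hF rfl hc)) (commZ_sub hZ hF rfl (commZ_of_rd H)) (by rwa [sub_S_roots])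
    (Q := fun _ => True) (fun _ _ _ => trivial) (fun c hc _ d hd => dc_sub hZ hF rfl (dc_of_rd H) c d hc hd) hθ trivial
    ((dom_iff hZ hF rfl).2 fun c hc => by
      rw [eθ]
      rcases pos c hc.2 hc.1.2 with e | e | e <;> rw [e]
      · rw [cpr_add', cpr_self _ _ ha]; omega
      · rw [cpr_add', cpr_self _ _ hb]; omega
      · rw [cpr_self _ _ mθ.1]; omega)
  obtain ⟨h3, -, -, -, -, h4, -⟩ := ec.nb (s := s) ((io_mem_nb hZ hF rfl hθ).1 (by
    rw [eθ, es]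
    exact ⟨ma, fun e => hb.ne_zero (left_eq_add.1 e), (cpr_pos_comm mθ.1 ha).1 (by
      rw [cpr_add', cpr_self _ _ ha]; omega)⟩))
  rcases hc with ⟨e3, -⟩ | ⟨-, -, e3⟩
  · have h5 := congrArg (D.io Z) h3
    rw [map_add, D.sub_g hZ hF rfl hs', eθ, es, e3, add_right_inj] at h5
    rw [h5, cpr_self _ _ ha] at h1
    omega
  · exact e3 h4

end Cfsg.Agent.SB.Low
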