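import Cfsg.Agent.SB.Low.Cert
import Cfsg.Agent.H244.IFG.Inst
import Cfsg.Agent.S1059
import Cfsg.Agent.ChevalleyStructure.FieldIso
import Cfsg.Agent.Cit.HexG2

/-!
# S5765 : the centraliser of an involution of `G₂(3)` (helper90)

`boxG23 : BoxG23`.  `R = (SL₂(3) ∘ SL₂(3)).2` has at most 91 involutions, `N = Q₈ ∘ Q₈` at most 19.
-/

set_option autoImplicit false
set_option linter.unusedSectionVars false

namespace Cfsg.Agent.SB.Low

open Subgroup Cfsg Cfsg.Agent.H786.FC Cfsg.Agent.H244.IFG Cfsg.Agent.Lib.SL2Mat Cfsg.Agent.Cit.HexBase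

namespace G23

/-! ### `SL₂(3)` -/

/-- the elements of `Q₈` -/
def Q (x : SZ) : Prop := x * x * (x * x) = 1

theorem Q_one : Q 1 := by simp [Q]

theorem Q_mul : ∀ x y : SZ, x * x * (x * x) = 1 → y * y * (y * y) = 1 → x * y * (x * y) * (x * y * (x * y)) = 1 := by
  decide +kernel

theorem Q_inv {x : SZ} (h : Q x) : Q x⁻¹ := by
  unfold Q at h ⊢
  rw [← mul_inv_rev, ← mul_inv_rev, h, inv_one]

theorem four_ne : ∀ x : SZ, x * x * (x * x) ≠ mI := by decide +kernel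

theorem mul_tw_ne : ∀ x : SZ, x * H244.IFG.tw x ≠ mI := by decide +kernel

theorem tw_one : H244.IFG.tw 1 = 1 := by decide +kernel

theorem tw_tw : ∀ x : SZ, H244.IFG.tw (H244.IFG.tw x) = x := by decide +kernel

theorem exists_sq : ∀ x : SZ, x * x * (x * x) = 1 → ∃ y : SZ, y * y = x ∨ y * H244.IFG.tw y = x := by decide +kernel

theorem exists_up : ∀ x : SZ, ∃ a : ZMod 3, ∃ y : SZ, y * y * (y * y) = 1 ∧ x = up a * y := by decide +kernel

theorem cent_in : ∀ x : SZ, (∀ q : SZ, q * q * (q * q) = 1 → x * q = q * x) → x * x * (x * x) = 1 := by decide +kernel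

theorem cent_out : ∀ x : SZ, ∃ q : SZ, q * q * (q * q) = 1 ∧ x * H244.IFG.tw q ≠ q * x := by decide +kernel

theorem sq_pos : ∀ x : SZ, pos x = true → x * x = 1 → x = 1 := by decide +kernel

theorem sq_one : ∀ x : SZ, x * x = 1 → x = 1 ∨ x = mI := by decide +kernel

theorem mI_inv : mI⁻¹ = mI := inv_eq_of_mul_eq_one_right mI_sq

/-! ### the abstract group -/

section C

variable {C : Type} [Group C] (c : Cen3 C)

theorem mul_in (x y x' y' : SZ) : c.p1 x * c.p4 y * (c.p1 x' * c.p4 y') = c.p1 (x * x') * c.p4 (y * y') := by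
  rw [map_mul, map_mul, mul_assoc, ← mul_assoc (c.p4 y), ← c.comm, mul_assoc, mul_assoc]

theorem sq_out (x y : SZ) :
    c.p1 x * c.p4 y * c.δ * (c.p1 x * c.p4 y * c.δ) = c.p1 (x * H244.IFG.tw x) * c.p4 (y * H244.IFG.tw y) := by
  calc c.p1 x * c.p4 y * c.δ * (c.p1 x * c.p4 y * c.δ) = c.p1 x * c.p4 y * (c.δ * c.p1 x) * c.p4 y * c.δ := by group
    _ = c.p1 x * c.p4 y * c.p1 (H244.IFG.tw x) * (c.δ * c.p4 y) * c.δ := by rw [c.tw1]; group
    _ = c.p1 x * c.p4 y * (c.p1 (H244.IFG.tw x) * c.p4 (H244.IFG.tw y)) * (c.δ * c.δ) := by rw [c.tw4]; group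
    _ = _ := by rw [mul_in, c.d2, mul_one]

theorem eq_one {x y : SZ} (h : c.p1 x * c.p4 y = 1) : (x = 1 ∧ y = 1) ∨ (x = mI ∧ y = mI) := by
  rcases c.eqc x y⁻¹ (by rw [map_inv]; exact eq_inv_of_mul_eq_one_left h) with ⟨h1, h2⟩ | ⟨h1, h2⟩
  · exact Or.inl ⟨h1, inv_eq_one.1 h2⟩
  · exact Or.inr ⟨h1, by rw [← inv_inv y, h2, mI_inv]⟩

theorem p4_inj {x : SZ} (h : c.p4 x = 1) : x = 1 := by
  rcases eq_one c (x := 1) (y := x) (by rw [h, map_one, mul_one]) with ⟨-, h1⟩ | ⟨h1, -⟩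
  · exact h1
  · exact absurd h1 (by decide)

theorem exists_sq_in (w : C) : ∃ x y, w * w = c.p1 x * c.p4 y := by
  rcases c.all w with ⟨x, y, rfl⟩ | ⟨x, y, rfl⟩
  exacts [⟨_, _, mul_in c _ _ _ _⟩, ⟨_, _, sq_out c _ _⟩]

/-- `Q₈ ∘ Q₈` -/
def NQ : Subgroup C where
  carrier := {v | ∃ x y, Q x ∧ Q y ∧ v = c.p1 x * c.p4 y}
  one_mem' := ⟨1, 1, Q_one, Q_one, by simp⟩
  mul_mem' := by
    rintro _ _ ⟨x, y, hx, hy, rfl⟩ ⟨x', y', hx', hy', rfl⟩
    exact ⟨_, _, Q_mul _ _ hx hx', Q_mul _ _ hy hy', mul_in c _ _ _ _⟩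
  inv_mem' := by
    rintro _ ⟨x, y, hx, hy, rfl⟩
    exact ⟨_, _, Q_inv hx, Q_inv hy, by rw [mul_inv_rev, ← map_inv, ← map_inv, c.comm]⟩

theorem four_of_mem {v : C} (h : v ∈ NQ c) : v * v * (v * v) = 1 := by
  obtain ⟨x, y, hx, hy, rfl⟩ := h
  rw [mul_in, mul_in, hx, hy, map_one, map_one, mul_one]

theorem sq_mem {w : C} (h : w * w * (w * w) * (w * w * (w * w)) = 1) : w * w ∈ NQ c := by
  obtain ⟨x, y, e⟩ := exists_sq_in c w
  rw [e, mul_in, mul_in] at h
  rcases eq_one c h with ⟨h1, h2⟩ | ⟨h1, -⟩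
  · exact ⟨x, y, h1, h2, e⟩
  · exact absurd h1 (four_ne x)

theorem map_mem (f : C →* C) {v : C} (h : v ∈ NQ c) : f v ∈ NQ c := by
  have key : ∀ v ∈ NQ c, ∀ w, v = w * w → f v ∈ NQ c := by
    rintro _ hv w rfl
    rw [map_mul]
    refine sq_mem c ?_
    simp only [← map_mul]
    rw [four_of_mem c hv, map_one]
  obtain ⟨x, y, hx, hy, rfl⟩ := h
  rw [map_mul]
  refine mul_mem ?_ ?_
  · have h1 : c.p1 x ∈ NQ c := ⟨x, 1, hx, Q_one, by simp⟩
    obtain ⟨a, rfl | rfl⟩ := exists_sq x hx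
    · exact key _ h1 _ (map_mul _ _ _)
    · exact key _ h1 (c.p1 a * c.p4 1 * c.δ) (by rw [sq_out, tw_one, mul_one, map_one, mul_one])
  · have h1 : c.p4 y ∈ NQ c := ⟨1, y, Q_one, hy, by simp⟩
    obtain ⟨a, rfl | rfl⟩ := exists_sq y hy
    · exact key _ h1 _ (map_mul _ _ _)
    · exact key _ h1 (c.p1 1 * c.p4 a * c.δ) (by rw [sq_out, tw_one, mul_one, map_one, one_mul])

theorem p1_injective : Function.Injective c.p1 := (injective_iff_map_eq_one _).2 fun _ => c.p1_inj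

theorem p4_injective : Function.Injective c.p4 := (injective_iff_map_eq_one _).2 fun _ => p4_inj c

theorem mem_of_cent {g : C} (h : ∀ v ∈ NQ c, g * v = v * g) : g ∈ NQ c := by
  have h1 : ∀ q, Q q → g * c.p1 q = c.p1 q * g := fun q hq => h _ ⟨q, 1, hq, Q_one, by simp⟩
  have h4 : ∀ q, Q q → g * c.p4 q = c.p4 q * g := fun q hq => h _ ⟨1, q, Q_one, hq, by simp⟩
  rcases c.all g with ⟨x, y, rfl⟩ | ⟨x, y, rfl⟩
  · refine ⟨x, y, cent_in x fun q hq => p1_injective c ?_, cent_in y fun q hq => p4_injective c ?_, rfl⟩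
    · have h2 := h1 q hq
      rw [mul_assoc, ← c.comm, ← mul_assoc, ← mul_assoc] at h2
      rw [map_mul, map_mul]
      exact mul_right_cancel h2
    · have h2 := h4 q hq
      rw [← mul_assoc, ← c.comm, mul_assoc, mul_assoc] at h2
      rw [map_mul, map_mul]
      exact mul_left_cancel h2
  · obtain ⟨q, hq, h2⟩ := cent_out x
    refine absurd (p1_injective c ?_) h2
    have h3 := h1 q hq
    rw [mul_assoc, c.tw1, ← mul_assoc, mul_assoc (c.p1 x), ← c.comm, ← mul_assoc, ← mul_assoc, ← mul_assoc] at h3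
    rw [map_mul, map_mul]
    exact mul_right_cancel (mul_right_cancel h3)

theorem coset_in (x y : SZ) : ∃ a b : ZMod 3, (c.p1 (up a) * c.p4 (up b))⁻¹ * (c.p1 x * c.p4 y) ∈ NQ c := by
  obtain ⟨a, q, hq, rfl⟩ := exists_up x
  obtain ⟨b, q', hq', rfl⟩ := exists_up y
  exact ⟨a, b, q, q', hq, hq', by rw [← mul_in, inv_mul_cancel_left]⟩

theorem index_le : (NQ c).index ≤ 18 := by
  have h : Function.Surjective fun t : ZMod 3 × ZMod 3 × Bool =>
      (((bif t.2.2 then c.δ else 1) * (c.p1 (up t.1) * c.p4 (up t.2.1)) : C) : C ⧸ NQ c) := by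
    intro g
    obtain ⟨g, rfl⟩ := QuotientGroup.mk_surjective g
    rcases c.all g with ⟨x, y, rfl⟩ | ⟨x, y, rfl⟩
    · obtain ⟨a, b, h⟩ := coset_in c x y
      exact ⟨(a, b, false), QuotientGroup.eq.2 (by simpa using h)⟩
    · obtain ⟨a, b, h⟩ := coset_in c (H244.IFG.tw x) (H244.IFG.tw y)
      refine ⟨(a, b, true), QuotientGroup.eq.2 ?_⟩
      have e : c.p1 x * c.p4 y * c.δ = c.δ * (c.p1 (H244.IFG.tw x) * c.p4 (H244.IFG.tw y)) := by
        rw [← mul_assoc, c.tw1, mul_assoc _ c.δ, c.tw4, tw_tw, tw_tw, mul_assoc]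
      rw [e]
      simpa [mul_assoc] using h
  simpa [index] using Nat.card_le_card_of_surjective _ h

theorem coset_three {g : C} (h : g ^ 3 = 1) : ∃ a b : ZMod 3, (c.p1 (up a) * c.p4 (up b))⁻¹ * g ∈ NQ c := by
  obtain ⟨x, y, e⟩ := exists_sq_in c (g * g)
  have h1 : g * g * (g * g) = g := by
    calc _ = g ^ 3 * g := by rw [pow_succ, pow_two]; group
      _ = g := by rw [h, one_mul]
  rw [← h1, e]
  exact coset_in c x y

theorem exists_pos (x y : SZ) : ∃ x' y', pos x' = true ∧ c.p1 x * c.p4 y = c.p1 x' * c.p4 y' := by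
  rcases Cen3.pos_or x with h | h
  · exact ⟨x, y, h, rfl⟩
  · exact ⟨_, y * mI, h, by rw [← mul_in, c.zz, ← map_mul, mI_sq, map_one, mul_one]⟩

theorem inv_in {x y : SZ} (h : c.p1 x * c.p4 y * (c.p1 x * c.p4 y) = 1) (h1 : c.p1 x * c.p4 y ≠ 1) :
    c.p1 x * c.p4 y ∈ c.E '' (I1.filter fun t => t.2.2 = false : Finset _) := by
  obtain ⟨x', y', hx, e⟩ := exists_pos c x y
  rw [e] at h h1 ⊢
  refine ⟨(x', y', false), Finset.mem_coe.2 (Finset.mem_filter.2 ⟨Finset.mem_filter.2 ⟨Finset.mem_univ _, ?_⟩, rfl⟩),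
    by simp [Cen3.E]⟩
  simp only [ok, cond_false, Bool.and_eq_true, Bool.or_eq_true, beq_iff_eq]
  rw [mul_in] at h
  refine ⟨hx, (eq_one c h).imp (fun h2 => ?_) id⟩
  have h3 := sq_pos x' hx h2.1
  refine ⟨h3, (sq_one y' h2.2).resolve_left fun h4 => h1 ?_⟩
  rw [h3, h4, map_one, map_one, mul_one]

theorem ncard_inv_NQ : {v | v ∈ NQ c ∧ v * v = 1 ∧ v ≠ 1}.ncard ≤ 19 := by
  rw [← card_in, ← Set.ncard_coe_finset]
  refine le_trans (Set.ncard_le_ncard ?_ ((Finset.finite_toSet _).image c.E)) (Set.ncard_image_le (Finset.finite_toSet _))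
  rintro _ ⟨⟨x, y, -, -, rfl⟩, h1, h2⟩
  exact inv_in c h1 h2

include c in
theorem ncard_inv : {v : C | v * v = 1 ∧ v ≠ 1}.ncard ≤ 91 := by
  rw [← card_I1, ← Set.ncard_coe_finset]
  refine le_trans (Set.ncard_le_ncard ?_ ((Finset.finite_toSet _).image c.E)) (Set.ncard_image_le (Finset.finite_toSet _))
  rintro v ⟨h1, h2⟩
  rcases c.all v with ⟨x, y, rfl⟩ | ⟨x, y, rfl⟩
  · exact Set.image_mono (Finset.coe_subset.2 (Finset.filter_subset _ _)) (inv_in c h1 h2)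
  · obtain ⟨x', y', hx, e⟩ := exists_pos c x y
    rw [e] at h1 ⊢
    refine ⟨(x', y', true), Finset.mem_coe.2 (Finset.mem_filter.2 ⟨Finset.mem_univ _, ?_⟩), by simp [Cen3.E]⟩
    simp only [ok, cond_true, Bool.and_eq_true, beq_iff_eq]
    rw [sq_out] at h1
    exact ⟨hx, (eq_one c h1).resolve_right fun h => mul_tw_ne _ h.1⟩

end C

/-! ### the certificate -/

theorem inv_iff {L : Type} [Group L] {s : L} : orderOf s = 2 ↔ s * s = 1 ∧ s ≠ 1 := by
  rw [orderOf_eq_prime_iff, pow_two]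

theorem cert {K : Type} [Group K] [Finite K] (hK : Nat.card K = 4245696)
    (hc : ∀ t : K, orderOf t = 2 → Nonempty (Cen3 ↥(centralizer ({t} : Set K)))) {E : Subgroup K} (hE : EA 2 E)
    (h2 : Nat.card E = 2) : Cert 3 2 13 E := by
  classical
  obtain ⟨z, hz, hz1, hz2⟩ := hE.exists_ne
  have hEz : zpowers z = E := eq_of_le_of_card_ge (zpowers_le.2 hz) (by rw [Nat.card_zpowers, hz2, h2])
  have hR : Nz E = centralizer {z} := by
    ext g
    rw [mem_Nz, mem_centralizer_singleton_iff]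
    constructor
    · intro h
      have h1 := h z hz
      rw [← hEz, mem_zpowers_iff_mem_range_orderOf, hz2, Finset.mem_image] at h1
      obtain ⟨i, hi, e⟩ := h1
      have hi' := Finset.mem_range.1 hi
      interval_cases i
      · refine absurd ?_ hz1
        calc z = g⁻¹ * (g * z * g⁻¹) * g := by group
          _ = 1 := by rw [← e]; group
      · rw [pow_one] at e
        exact (mul_inv_eq_iff_eq_mul.1 e.symm)
    · intro h x hx
      rw [← hEz] at hx ⊢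
      obtain ⟨i, rfl⟩ := mem_zpowers_iff.1 hx
      rw [← conj_zpow, h, mul_inv_cancel_right]
      exact zpow_mem_zpowers _ _
  obtain ⟨c⟩ : Nonempty (Cen3 ↥(Nz E)) := hR ▸ hc z hz2
  have hcard : Nat.card (Nz E) = 576 := c.card_eq
  have hm : ∀ t : K, orderOf t = 2 → 7371 ≤ cls ⊤ t := fun t ht =>
    le_cls_top (c := 576) (hc t ht).some.card_eq.le (by rw [hK])
  let N : Subgroup K := (NQ c).map (Nz E).subtype
  have hN2 : ∀ v ∈ N, (orderOf v).Prime → orderOf v = 2 := by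
    rintro _ ⟨v, hv, rfl⟩ hp
    refine (Nat.prime_dvd_prime_iff_eq hp Nat.prime_two).1 (hp.dvd_of_dvd_pow (n := 2) (orderOf_dvd_of_pow_eq_one ?_))
    have h1 : (v : K) * v * (v * v) = 1 := congrArg Subtype.val (four_of_mem c hv)
    rw [← h1, show 2 ^ 2 = 2 + 2 from rfl, pow_add, pow_two]
    rfl
  have h19 : {v | v ∈ N ∧ orderOf v = 2}.ncard ≤ 19 := by
    refine le_trans (Set.ncard_le_ncard ?_ (Set.toFinite _))
      ((Set.ncard_image_le (f := Subtype.val) (Set.toFinite _)).trans (ncard_inv_NQ c))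
    rintro _ ⟨⟨v, hv, rfl⟩, h⟩
    exact ⟨v, ⟨hv, inv_iff.1 ((Subgroup.orderOf_coe v).symm.trans h)⟩, rfl⟩
  have h91 : ∀ t : K, orderOf t = 2 → fp ⊤ (Nz E) t ≤ (91 : ℕ) / (7371 : ℕ) := fun t ht => by
    refine fp_le_div ((meet_le_of_subset ⊤ _ t (Subtype.val '' {v : Nz E | v * v = 1 ∧ v ≠ 1}) fun x _ hx =>
      ⟨⟨_, hx⟩, inv_iff.1 ?_, rfl⟩).trans ?_) (hm t ht) (by norm_num)
    · rw [← Subgroup.orderOf_coe, orderOf_conj', ht]
    · exact (Set.ncard_image_le (Set.toFinite _)).trans (ncard_inv c)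
  refine ⟨N, map_subtype_le _, ?_, ?_, ?_, ?_, (19 : ℕ) / (7371 : ℕ), (91 : ℕ) / (7371 : ℕ), 1 / 4, 9 / 10, 9, 18,
    by positivity, by positivity, fun v hv hp => ?_, fun d hd hp hp' => h91 d ?_, ?_, ?_, by norm_num, by norm_num,
    by norm_num, by norm_num, by norm_num, by rw [hK, hcard]; norm_num⟩
  · rintro α hα _ ⟨v, hv, rfl⟩
    exact ⟨_, map_mem c ((α.toMonoidHom.comp (Nz E).subtype).codRestrict _ fun g =>
      (Chr.refl E).nz α hα g g.2) hv, rfl⟩
  · intro g hg h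
    exact ⟨⟨g, hg⟩, mem_of_cent c fun v hv => Subtype.ext (h v ⟨v, hv, rfl⟩), rfl⟩
  · intro h
    have := Fact.mk Nat.prime_three
    obtain ⟨v, hv⟩ := exists_prime_orderOf_dvd_card' 3 h
    rw [← Subgroup.orderOf_coe] at hv
    have h1 := hN2 v v.2 (hv ▸ Nat.prime_three)
    omega
  · obtain ⟨x, -, hx⟩ := exists_good_of_sum (T := ⊤) (S := Nz E) _ (primeElts_cover N)
      (fun _ => ((91 : ℕ) : ℚ) / (7371 : ℕ)) (fun v hv => meet_le_of_fp
        (h91 v (hN2 v (mem_primeElts.1 hv).1 (mem_primeElts.1 hv).2))) (by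
        have h1 : (primeElts N).card ≤ 19 := by
          rw [← Set.ncard_coe_finset]
          refine le_trans (Set.ncard_le_ncard (fun v hv => ?_) (Set.toFinite _)) h19
          exact ⟨(mem_primeElts.1 hv).1, hN2 v (mem_primeElts.1 hv).1 (mem_primeElts.1 hv).2⟩
        have h3 : ((primeElts N).card : ℚ) ≤ 19 := by exact_mod_cast h1
        rw [Finset.sum_const, nsmul_eq_mul]
        push_cast
        linarith)
    exact ⟨x, hx⟩
  · exact fp_le_div ((meet_le_of_subset ⊤ N v {v | v ∈ N ∧ orderOf v = 2} fun x _ hx =>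
      ⟨hx, by rw [orderOf_conj', hN2 v hv hp]⟩).trans h19) (hm v (hN2 v hv hp)) (by norm_num)
  · have h1 : orderOf d ∣ 2 ^ 6 * 3 ^ 2 := by
      have := orderOf_dvd_natCard (Nz E) hd
      rwa [hcard] at this
    rcases (Nat.Prime.dvd_mul hp).1 h1 with h | h
    · exact (Nat.prime_dvd_prime_iff_eq hp Nat.prime_two).1 (hp.dvd_of_dvd_pow h)
    · exact absurd ((Nat.prime_dvd_prime_iff_eq hp Nat.prime_three).1 (hp.dvd_of_dvd_pow h)) hp'
  · let f : ZMod 3 × ZMod 3 → K ⧸ N := fun t => QuotientGroup.mk ((c.p1 (up t.1) * c.p4 (up t.2) : Nz E) : K)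
    refine (kap_le_of_map (fun g : K => (QuotientGroup.mk g : K ⧸ N)) (f '' Set.univ) (Set.toFinite _) (fun g hg ho => ?_)
      fun g _ g' _ h => QuotientGroup.eq.1 h).trans ((Set.ncard_image_le (Set.toFinite _)).trans ?_)
    · obtain ⟨a, b, h⟩ := coset_three c (g := ⟨g, hg⟩) (Subtype.ext (by rw [← ho]; exact pow_orderOf_eq_one g))
      exact ⟨(a, b), trivial, QuotientGroup.eq.2 ⟨_, h, rfl⟩⟩
    · simp [Set.ncard_univ]
  · rw [relIndex, subgroupOf, comap_map_eq_self_of_injective (Nz E).subtype_injective]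
    exact index_le c

/-- transport of the centraliser -/
theorem cen_map {L L' : Type} [Group L] [Group L'] (e : L ≃* L') {t : L}
    (h : Nonempty (Cen3 ↥(centralizer ({t} : Set L)))) : Nonempty (Cen3 ↥(centralizer ({e t} : Set L'))) := by
  have h1 : (centralizer ({t} : Set L)).map (e : L →* L') = centralizer ({e t} : Set L') := by
    ext x
    obtain ⟨x, rfl⟩ := e.surjective x
    rw [mem_centralizer_singleton_iff, ← map_mul, ← map_mul, e.injective.eq_iff, ← mem_centralizer_singleton_iff]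
    exact mem_map_iff_mem e.injective
  exact ⟨h.some.map ((e.subgroupMap _).trans (MulEquiv.subgroupCongr h1))⟩

end G23

/-- **[G23]** -/
theorem boxG23 : BoxG23 := by
  intro F _ _ hF E hE h2
  have hK : Nat.card ↥(Lie.chevG2.group F) = 4245696 := (S1059.result hF).trans (by norm_num)
  have := Nat.finite_of_card_ne_zero (hK.trans_ne (by norm_num))
  refine G23.cert hK (fun t ht => ?_) hE h2
  let e := ChevalleyStructure.FieldIso.groupEquiv Lie.chevG2
    (FiniteField.ringEquivOfCardEq (K := ZMod 3) (K' := F) (by rw [hF]; rfl))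
  obtain ⟨t, rfl⟩ := e.surjective t
  rw [e.orderOf_eq, G23.inv_iff] at ht
  let c := Cit.HexG2.g2 (ZMod 3) two_ne
  obtain ⟨g, rfl⟩ := isConj_iff.1 (c.isConj_invol two_ne c.z_sq (c.z_ne two_ne) ht.1 ht.2)
  exact G23.cen_map e (G23.cen_map (MulAut.conj g) ⟨cen3 c⟩)

end Cfsg.Agent.SB.Low
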