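import Cfsg.Agent.SB.Low.Cert

/-!
# S5765, `G₂(q)` and `³D₄(q)`: numbers (helper68)
-/

set_option autoImplicit false

namespace Cfsg.Agent.SB.Low

theorem Num.mono {t O n ρ κ ι k₁ k₂ m₀ m₁ m₂ ρ' κ' ι' k₁' k₂' : ℕ} (h : Num t O n ρ κ ι k₁ k₂ m₀ m₁ m₂) (h1 : ρ' ≤ ρ)
    (h2 : κ' ≤ κ) (h3 : ι' ≤ ι) (h4 : k₁' ≤ k₁) (h5 : k₂' ≤ k₂) : Num t O n ρ' κ' ι' k₁' k₂' m₀ m₁ m₂ := by
  obtain ⟨a0, a1, a2, a3, μ, e, φ, a4, a5, a6, a7, a8, a9, a10, a11⟩ := h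
  have hμ : 0 ≤ μ := le_trans (by positivity) a4
  refine ⟨a0, a1, a2, lt_of_le_of_lt ?_ a3, μ, e, φ, le_trans ?_ a4, le_trans ?_ a5, lt_of_le_of_lt ?_ a6, le_trans ?_ a7,
    le_trans ?_ a8, a9, a10, lt_of_le_of_lt ?_ a11⟩ <;> gcongr

theorem num_big {t O n ρ ν m a b : ℕ} (hb : 0 < b) (h1 : 2 * ν * ρ < m) (h2 : ρ * b ≤ a * m) (h3 : 36 * ν * b ^ 2 ≤ a ^ 2 * m)
    (h4 : 7 * a ≤ b) (hO : 0 < O) (hn : 4 * O ≤ n) (h5 : 4 * O ^ 2 * a ≤ 3 * b) (h6 : 6 * O ^ 2 * ρ < t) :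
    Num t O n ρ 24 24 ν ν m m m := by
  have hm : 0 < m := by omega
  have m0 : (0 : ℚ) < m := by exact_mod_cast hm
  have b0 : (0 : ℚ) < b := by exact_mod_cast hb
  have O0 : (0 : ℚ) < O := by exact_mod_cast hO
  have n0 : (0 : ℚ) < n := by exact_mod_cast (by omega : 0 < n)
  have c1 : (2 : ℚ) * ν * ρ < m := by exact_mod_cast h1
  have c2 : (ρ : ℚ) / m ≤ a / b := by
    rw [div_le_div_iff₀ m0 b0]
    exact_mod_cast h2
  have c3 : 3 / 2 * (24 : ℕ) * ((ν : ℚ) / m) ≤ (a / b) ^ 2 := by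
    have : (36 : ℚ) * ν * b ^ 2 ≤ a ^ 2 * m := by exact_mod_cast h3
    rw [div_pow, ← mul_div_assoc, div_le_div_iff₀ m0 (by positivity)]
    push_cast
    linarith
  have c4 : (a : ℚ) / b ≤ 1 / 7 := by
    have : (7 : ℚ) * a ≤ b := by exact_mod_cast h4
    rw [div_le_div_iff₀ b0 (by norm_num)]
    linarith
  have c5 : (a : ℚ) / b ≤ 3 / 4 * (1 / O) ^ 2 := by
    have : (4 : ℚ) * O ^ 2 * a ≤ 3 * b := by exact_mod_cast h5
    rw [div_pow, one_pow, div_mul_div_comm, div_le_div_iff₀ b0 (by positivity)]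
    linarith
  have c6 : 1 / (O : ℚ) / n ≤ 1 / 4 * (1 / O) ^ 2 := by
    have : (4 : ℚ) * O ≤ n := by exact_mod_cast hn
    rw [div_div, div_pow, one_pow, div_mul_div_comm, div_le_div_iff₀ (by positivity) (by positivity)]
    nlinarith
  refine ⟨hm, hm, hm, ?_, ν / m, a / b, 1 / O, le_rfl, le_rfl, ?_, c2, c3, by positivity, by linarith, ?_⟩
  · rw [← add_div, div_lt_one m0]
    linarith
  · have d1 : ((ρ : ℚ) / m) ^ 2 ≤ (a / b) ^ 2 := by gcongr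
    have d2 : ((a : ℚ) / b) ^ 2 ≤ (1 / 7) ^ 2 := by gcongr
    push_cast at c3 ⊢
    linarith
  · have d1 : (6 : ℚ) * O ^ 2 * ρ < t := by exact_mod_cast h6
    have d2 : ((O : ℚ) - 1) * (1 / O) * t = t - t / O := by field_simp
    have d3 : (6 : ℚ) * O * ρ < t / O := by
      rw [lt_div_iff₀ O0]
      linarith
    linarith

theorem lin_le_pow {c p a f : ℕ} (hp : 2 ≤ p) (ha : 0 < a) (h : c * a ≤ p ^ a) (hf : a ≤ f) : c * f ≤ p ^ f := by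
  induction f, hf using Nat.le_induction with
  | base => exact h
  | succ f hf ih =>
    have h1 : c ≤ c * f := Nat.le_mul_of_pos_right _ (by omega)
    rw [pow_succ, mul_add]
    nlinarith

/-- the numbers for `G₂(q)` -/
def NumG (p q t O n : ℕ) : Prop := ∃ m₀ m₂, m₀ * (if p = 3 then q ^ 2 * (q ^ 2 - 1) ^ 2 else q ^ 6 * (q + 1) ^ 2) ≤ t ∧
  m₂ * (if p = 2 then q ^ 2 * (q + 1) ^ 2 else q ^ 2 * (q ^ 2 - 1) ^ 2) ≤ t ∧
  Num t O n (12 * (q + 1) ^ 2) 12 12 (if p = 3 then 0 else 8) ((q + 1) ^ 2) m₀ m₀ m₂ ∧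
  (p ≠ 2 → Num t O n (12 * (q + 1) ^ 2) 6 6 (if p = 3 then 0 else (q + 1) ^ 2 / 2) (2 * (q + 1) ^ 2) m₀ m₀ m₂ ∧
    Num t O n 384 24 24 0 7 m₀ m₀ m₂)

theorem numG_big {p q O n : ℕ} (hq : 11 ≤ q) (hO : 0 < O) (h1 : 4 * O ≤ n) (h2 : 4 * O ≤ q) :
    NumG p q (q ^ 6 * (q ^ 2 - 1) * (q ^ 6 - 1)) O n := by
  obtain ⟨s, rfl⟩ : ∃ s, q = s + 11 := ⟨q - 11, by omega⟩
  obtain ⟨u, hu⟩ : ∃ u, (s + 11) ^ 6 = u + 1 := ⟨(s + 11) ^ 6 - 1, by have := Nat.one_le_pow 6 (s + 11) (by omega); omega⟩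
  have e2 : (s + 11) ^ 2 - 1 = (s + 10) * (s + 12) := by rw [Nat.sub_eq_iff_eq_add (Nat.one_le_pow 2 _ (by omega))]; ring
  have e6 : (s + 11) ^ 6 - 1 = u := by omega
  have k1 : (s + 11) ^ 5 * (s + 9) * (s + 12) ≤ (s + 10) * u := by
    have : (s + 11) ^ 5 * (s + 9) * (s + 12) + 2 * (s + 11) ^ 5 = (s + 10) * (s + 11) ^ 6 := by ring
    have h3 : s + 11 ≤ (s + 11) ^ 5 := Nat.le_self_pow (by norm_num) _
    rw [hu] at this
    nlinarith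
  have k2 : (s + 11) ^ 5 * (s + 9) * ((s + 11) ^ 6 * (s + 11 + 1) ^ 2) ≤ (s + 11) ^ 6 * ((s + 10) * (s + 12)) * u := by
    calc _ = (s + 11) ^ 6 * (s + 12) * ((s + 11) ^ 5 * (s + 9) * (s + 12)) := by ring
      _ ≤ (s + 11) ^ 6 * (s + 12) * ((s + 10) * u) := by gcongr
      _ = _ := by ring
  have k3 : (s + 11) ^ 2 * ((s + 10) * (s + 12)) ^ 2 ≤ (s + 11) ^ 6 * (s + 11 + 1) ^ 2 := by
    calc _ = (s + 11) ^ 2 * (s + 10) ^ 2 * (s + 11 + 1) ^ 2 := by ring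
      _ ≤ (s + 11) ^ 2 * ((s + 11) ^ 2) ^ 2 * (s + 11 + 1) ^ 2 := by gcongr; nlinarith
      _ = _ := by ring
  have k4 : (s + 11) ^ 2 * (s + 11 + 1) ^ 2 ≤ (s + 11) ^ 6 * (s + 11 + 1) ^ 2 := by gcongr <;> omega
  have hO2 : 16 * O ^ 2 ≤ (s + 11) ^ 2 := by nlinarith
  have big : Num ((s + 11) ^ 6 * ((s + 10) * (s + 12)) * u) O n (12 * (s + 11 + 1) ^ 2) 24 24 (2 * (s + 11 + 1) ^ 2)
      (2 * (s + 11 + 1) ^ 2) ((s + 11) ^ 5 * (s + 9)) ((s + 11) ^ 5 * (s + 9)) ((s + 11) ^ 5 * (s + 9)) := by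
    refine num_big (a := 11) (b := (s + 11) ^ 2) (by positivity) ?_ ?_ ?_ (by nlinarith) hO h1 (by omega) ?_
    · ring_nf; omega
    · ring_nf; omega
    · ring_nf; omega
    · refine lt_of_lt_of_le ?_ k2
      calc 6 * O ^ 2 * (12 * (s + 11 + 1) ^ 2) ≤ 16 * O ^ 2 * (5 * (s + 11 + 1) ^ 2) := by nlinarith
        _ ≤ (s + 11) ^ 2 * (5 * (s + 11 + 1) ^ 2) := by gcongr
        _ < _ := by ring_nf; omega
  rw [NumG, e2, e6]
  refine ⟨(s + 11) ^ 5 * (s + 9), (s + 11) ^ 5 * (s + 9), le_trans ?_ k2, le_trans ?_ k2,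
    big.mono le_rfl (by omega) (by omega) ?_ (by omega), fun _ => ⟨big.mono le_rfl (by omega) (by omega) ?_ le_rfl,
    big.mono (by nlinarith) le_rfl le_rfl (by omega) (by nlinarith)⟩⟩
  · split_ifs <;> gcongr
  · split_ifs <;> gcongr
  · split_ifs <;> nlinarith
  · split_ifs <;> omega

theorem num_of {t O n ρ κ ι k₁ k₂ m₀ m₁ m₂ : ℕ} (μ e φ : ℚ) (h : (0 < m₀ ∧ 0 < m₁ ∧ 0 < m₂ ∧
    (k₁ : ℚ) * ρ / m₁ + k₂ * ρ / m₂ < 1) ∧ (k₁ : ℚ) / m₁ ≤ μ ∧ (k₂ : ℚ) / m₂ ≤ μ ∧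
    κ * (3 / 2 * κ * μ) + ι * ((ρ : ℚ) / m₀) ^ 2 < 1 ∧ (ρ : ℚ) / m₀ ≤ e ∧ 3 / 2 * κ * μ ≤ e ^ 2 ∧ 0 < φ ∧
    e + φ / n ≤ φ ^ 2 ∧ ((O : ℚ) - 1) * φ * t + 6 * O * ρ < t) : Num t O n ρ κ ι k₁ k₂ m₀ m₁ m₂ :=
  ⟨h.1.1, h.1.2.1, h.1.2.2.1, h.1.2.2.2, μ, e, φ, h.2⟩

theorem numG {p f : ℕ} (hp : p.Prime) (hq : 3 ≤ p ^ f) : NumG p (p ^ f) ((p ^ f) ^ 6 * ((p ^ f) ^ 2 - 1) * ((p ^ f) ^ 6 - 1))
    (if p = 3 then 2 * f else f) ((p - 1) * (6 * f) + 1) := by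
  have h2 := hp.two_le
  have hf : 0 < f := Nat.pos_of_ne_zero (by rintro rfl; simp at hq)
  by_cases h : 11 ≤ p ^ f
  · refine numG_big h (by split_ifs <;> omega) ?_ ?_
    · obtain ⟨s, rfl⟩ : ∃ s, p = s + 1 := ⟨p - 1, by omega⟩
      rw [Nat.add_sub_cancel]
      split_ifs with h3
      · obtain rfl : s = 2 := by omega
        omega
      · nlinarith
    · split_ifs with h3
      · subst h3
        have h4 : 3 ≤ f := by
          by_contra h4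
          interval_cases f <;> omega
        rw [← mul_assoc]
        exact lin_le_pow (a := 3) h2 (by norm_num) (by norm_num) h4
      · by_cases h4 : p = 2
        · subst h4
          have h4 : 4 ≤ f := by
            by_contra h4
            interval_cases f <;> omega
          exact lin_le_pow (a := 4) h2 (by norm_num) (by norm_num) h4
        · have := hp.five_le_of_ne_two_of_ne_three h4 h3
          exact lin_le_pow (a := 1) h2 one_pos (by rw [pow_one]; omega) hf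
  have h3 : p ≤ p ^ f := Nat.le_self_pow hf.ne' p
  have h4 : f < 4 := lt_of_not_ge fun h4 =>
    h (le_trans (by norm_num) ((Nat.pow_le_pow_left h2 4).trans (Nat.pow_le_pow_right (by omega) h4)))
  have h5 : p < 11 := by omega
  interval_cases p <;> first | exact absurd hp (by decide) | skip
  · interval_cases f
    · omega
    · exact ⟨2457, 628992, by norm_num, by norm_num, num_of (8 / 2457) (1 / 4) (27 / 50) (by norm_num),
        fun h => absurd rfl h⟩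
    · exact ⟨203889, 835129344, by norm_num, by norm_num, num_of (1 / 10000) (1 / 10) (2 / 5) (by norm_num),
        fun h => absurd rfl h⟩
  · interval_cases f
    · exact ⟨7371, 7371, by norm_num, by norm_num, num_of (16 / 7371) (1 / 5) (1 / 2) (by norm_num),
        fun _ => ⟨num_of (32 / 7371) (1 / 5) (1 / 2) (by norm_num), num_of (7 / 7371) (1 / 5) (1 / 2) (by norm_num)⟩⟩
    · exact ⟨43584723, 43584723, by norm_num, by norm_num, num_of (1 / 100000) (1 / 50) (1 / 5) (by norm_num),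
        fun _ => ⟨num_of (1 / 100000) (1 / 50) (1 / 5) (by norm_num), num_of (1 / 100000) (1 / 50) (1 / 5) (by norm_num)⟩⟩
    · omega
  · interval_cases f
    · exact ⟨10416, 406875, by norm_num, by norm_num, num_of (1 / 1000) (1 / 5) (1 / 2) (by norm_num),
        fun _ => ⟨num_of (1 / 500) (1 / 5) (1 / 2) (by norm_num), num_of (1 / 10000) (1 / 5) (1 / 2) (by norm_num)⟩⟩
    all_goals omega
  · interval_cases f
    · exact ⟨88236, 5884851, by norm_num, by norm_num, num_of (1 / 1000) (1 / 5) (1 / 2) (by norm_num),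
        fun _ => ⟨num_of (1 / 1000) (1 / 5) (1 / 2) (by norm_num), num_of (1 / 1000) (1 / 5) (1 / 2) (by norm_num)⟩⟩
    all_goals omega

theorem numD {q O n : ℕ} (hq : 3 ≤ q) (hO : 0 < O) (h1 : 4 * O ≤ n) (h2 : 2 * O ≤ 3 * q) :
    2 * q ^ 15 * q ^ 12 ≤ q ^ 12 * (q ^ 2 - 1) * (q ^ 6 - 1) * (q ^ 8 + q ^ 4 + 1) ∧
    Num (q ^ 12 * (q ^ 2 - 1) * (q ^ 6 - 1) * (q ^ 8 + q ^ 4 + 1)) O n (72 * q ^ 4) 24 24 (3 * q ^ 4) (3 * q ^ 4)
      (2 * q ^ 15) (2 * q ^ 15) (2 * q ^ 15) := by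
  have a1 : 8 * q ≤ 3 * (q ^ 2 - 1) := by
    have : 3 * q ≤ q ^ 2 := by nlinarith
    omega
  have a2 : 3 * q ^ 6 ≤ 4 * (q ^ 6 - 1) := by
    have : 3 ^ 6 ≤ q ^ 6 := Nat.pow_le_pow_left hq 6
    omega
  have a3 : 2 * q ^ 15 * q ^ 12 ≤ q ^ 12 * (q ^ 2 - 1) * (q ^ 6 - 1) * (q ^ 8 + q ^ 4 + 1) := by
    refine Nat.le_of_mul_le_mul_left ?_ (by norm_num : 0 < 12)
    calc _ = q ^ 12 * (8 * q) * (3 * q ^ 6) * q ^ 8 := by ring
      _ ≤ q ^ 12 * (3 * (q ^ 2 - 1)) * (4 * (q ^ 6 - 1)) * (q ^ 8 + q ^ 4 + 1) := by gcongr; omega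
      _ = _ := by ring
  have b : ∀ i, 3 ^ i ≤ q ^ i := fun i => Nat.pow_le_pow_left hq i
  have q0 : ∀ i, 0 < q ^ i := fun i => by positivity
  have hO2 : 4 * O ^ 2 ≤ 9 * q ^ 2 := by nlinarith
  refine ⟨a3, num_big (a := 8) (b := q ^ 5) (q0 5) ?_ ?_ ?_ (by have := b 5; omega) hO h1 ?_ (lt_of_lt_of_le ?_ a3)⟩
  · calc _ = 432 * q ^ 8 := by ring
      _ < 2 * q ^ 7 * q ^ 8 := by have := b 7; gcongr; omega
      _ = _ := by ring
  · calc _ = 72 * q ^ 9 := by ring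
      _ ≤ 16 * q ^ 6 * q ^ 9 := by have := b 6; gcongr; omega
      _ = _ := by ring
  · calc _ = 108 * q ^ 14 := by ring
      _ ≤ 128 * q * q ^ 14 := by gcongr; omega
      _ = _ := by ring
  · calc _ ≤ 9 * q ^ 2 * 8 := by gcongr
      _ = 72 * q ^ 2 := by ring
      _ ≤ 3 * q ^ 3 * q ^ 2 := by have := b 3; gcongr; omega
      _ = _ := by ring
  · calc _ = 4 * O ^ 2 * (108 * q ^ 4) := by ring
      _ ≤ 9 * q ^ 2 * (108 * q ^ 4) := by gcongr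
      _ = 972 * q ^ 6 := by ring
      _ < 2 * q ^ 21 * q ^ 6 := by have := b 21; gcongr; omega
      _ = _ := by ring

theorem numD2 : Num 211341312 3 13 1176 24 24 0 49 139776 139776 139776 :=
  num_of (49 / 139776) (3 / 25) (2 / 5) (by norm_num)

end Cfsg.Agent.SB.Low
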