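import Cfsg.Agent.SB.Low.Model
import Cfsg.Agent.SB.Low.Num
import Cfsg.Agent.S2121
import Cfsg.Agent.S2129
import Cfsg.Agent.S1059
import Cfsg.Agent.S1067

/-!
# S5765, `G₂(q)` and `³D₄(q)`: assembly (helper68)
-/

set_option autoImplicit false
set_option linter.unusedSectionVars false

namespace Cfsg.Agent.SB.Low

open Subgroup Cfsg Cfsg.Lie Cfsg.Agent.H786.FC

section grp

variable {K : Type} [Group K] [Finite K] {E : Subgroup K} {p r : ℕ}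

theorem ncard_le (N : Subgroup K) (P : K → Prop) : {v | v ∈ N ∧ P v}.ncard ≤ Nat.card N :=
  Set.ncard_le_ncard (t := (N : Set K)) (fun _ h => h.1) (Set.toFinite _)

theorem ncard_zero {N : Subgroup K} {s : ℕ} (h : ¬ s ∣ Nat.card N) :
    {v | v ∈ N ∧ (orderOf v).Prime ∧ orderOf v = s}.ncard ≤ 0 := by
  rw [Nat.le_zero, Set.ncard_eq_zero]
  exact Set.eq_empty_of_forall_notMem fun v hv => h (hv.2.2 ▸ N.orderOf_dvd_natCard hv.1)

/-- the certificate with `N = C(E)` -/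
theorem cert_cz {O n ν c ρ k₁ k₂ m₀ m₂ : ℕ} (P : ℕ → Prop) (hE : EA r E) (h : TorC p ν c E) (hρ : ν * c ≤ ρ)
    (hk₁ : {v | v ∈ Cz E ∧ (orderOf v).Prime ∧ P (orderOf v)}.ncard ≤ k₁)
    (hk₂ : {v | v ∈ Cz E ∧ (orderOf v).Prime ∧ ¬ P (orderOf v)}.ncard ≤ k₂)
    (hm₀ : ∀ d : K, (orderOf d).Prime → orderOf d ≠ p → m₀ ≤ cls ⊤ d)
    (hm₂ : ∀ d : K, (orderOf d).Prime → orderOf d ≠ p → ¬ P (orderOf d) → m₂ ≤ cls ⊤ d)
    (hn : Num (Nat.card K) O n ρ c c k₁ k₂ m₀ m₀ m₂) : Cert p O n E := by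
  have key : ∀ v ∈ Cz E, orderOf v ≠ p := fun v hv e => h.nd (e ▸ (Cz E).orderOf_dvd_natCard hv)
  refine cert_two P Cz_le_Nz (Chr.refl E).cz (fun g _ hg => mem_Cz.2 fun x hx => (hg x (hE.le_Cz hx)).symm) h.nd
    (le_trans ?_ hρ) ((kap_le_relIndex p).trans h.idx) h.idx hk₁ hk₂ (fun d _ => hm₀ d)
    (fun v hv h1 _ => hm₀ v h1 (key v hv)) (fun v hv h1 => hm₂ v h1 (key v hv)) hn
  rw [← card_eq_mul_relIndex Cz_le_Nz]
  exact Nat.mul_le_mul h.card h.idx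

theorem three_le {N : Subgroup K} (h : {v | v ∈ N ∧ v ^ 3 = 1}.ncard ≤ 9) :
    {v | v ∈ N ∧ (orderOf v).Prime ∧ orderOf v = 3}.ncard ≤ 8 := by
  have h1 : {v | v ∈ N ∧ (orderOf v).Prime ∧ orderOf v = 3}.ncard < {v | v ∈ N ∧ v ^ 3 = 1}.ncard := by
    refine Set.ncard_lt_ncard ⟨fun v hv => ⟨hv.1, by rw [← hv.2.2, pow_orderOf_eq_one]⟩, fun h2 => ?_⟩ (Set.toFinite _)
    have := (h2 (⟨one_mem N, one_pow 3⟩ : (1 : K) ∈ {v | v ∈ N ∧ v ^ 3 = 1})).2.2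
    rw [orderOf_one] at this
    omega
  omega

theorem three_mul (hE : EA 2 E) :
    {v | v ∈ Cz E ∧ (orderOf v).Prime ∧ orderOf v = 3}.ncard * Nat.card E ≤ Nat.card (Cz E) := by
  rw [← Nat.card_coe_set_eq, ← Nat.card_prod]
  have key : ∀ x : {v | v ∈ Cz E ∧ (orderOf v).Prime ∧ orderOf v = 3} × E, ((x.1 : K) * x.2) ^ 3 = x.2 := by
    rintro ⟨⟨v, hv⟩, ⟨e, he⟩⟩
    have h1 : Commute v e := (mem_Cz.1 hv.1 e he).symm
    have h2 : v ^ 3 = 1 := by rw [← hv.2.2, pow_orderOf_eq_one]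
    rw [h1.mul_pow, h2, one_mul, pow_succ, hE.pow e he, one_mul]
  refine Nat.card_le_card_of_injective (fun x => (⟨x.1 * x.2, mul_mem x.1.2.1 (hE.le_Cz x.2.2)⟩ : Cz E)) fun x y e => ?_
  have h1 : (x.1 : K) * x.2 = y.1 * y.2 := congrArg Subtype.val e
  have h2 : (x.2 : K) = y.2 := by rw [← key x, h1, key y]
  rw [h2] at h1
  exact Prod.ext (Subtype.ext (mul_right_cancel h1)) (Subtype.ext h2)

theorem not_dvd_two {N : Subgroup K} (h : IsPGroup 2 N) {s : ℕ} (hs : s.Prime) (h2 : s ≠ 2) : ¬ s ∣ Nat.card N := by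
  obtain ⟨k, hk⟩ := h.exists_card_eq
  rw [hk]
  exact fun h1 => h2 ((Nat.prime_dvd_prime_iff_eq hs Nat.prime_two).1 (hs.dvd_of_dvd_pow h1))

theorem seven_le (h8 : Nat.card E = 8) (h : IsPGroup 2 (Cz E)) (h' : ∀ v ∈ Cz E, v ^ 2 = 1 → v ∈ E) (P : ℕ → Prop) :
    {v | v ∈ Cz E ∧ (orderOf v).Prime ∧ P (orderOf v)}.ncard ≤ 7 := by
  have h1 : {v | v ∈ Cz E ∧ (orderOf v).Prime ∧ P (orderOf v)}.ncard < (E : Set K).ncard := by
    refine Set.ncard_lt_ncard ⟨fun v hv => h' v hv.1 ?_, fun h2 => ?_⟩ (Set.toFinite _)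
    · by_contra h3
      refine not_dvd_two h hv.2.1 (fun e => h3 ?_) ((Cz E).orderOf_dvd_natCard hv.1)
      rw [← e, pow_orderOf_eq_one]
    · have := (h2 (one_mem E)).2.1
      rw [orderOf_one] at this
      exact Nat.not_prime_one this
  have h2 : (E : Set K).ncard = 8 := h8
  omega

theorem Two.ne_two {q Q : ℕ} (h : Two p q Q K) (hQ : 4 ≤ Q) (hS : Sit p 2 E) : Nat.card E ≠ 2 := by
  intro h2
  obtain ⟨z, hz, -, h3⟩ := hS.exists_ne
  have h4 : zpowers z = E := eq_of_le_of_card_ge (zpowers_le.2 hz) (by rw [h2, Nat.card_zpowers, h3])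
  refine h.ns hQ z h3 ?_
  rw [← cz_zpowers, h4]
  exact hS.solv_of_le Cz_le_Nz

theorem certG {q O n : ℕ} (hp : p.Prime) (hq : 3 ≤ q) (hA : BoxAut) (ho : OddG p q K) (ht : p ≠ 2 → Two p q q K)
    (h3 : q = 3 → ∀ E : Subgroup K, EA 2 E → Nat.card E = 2 → Cert p O n E) (hn : NumG p q (Nat.card K) O n)
    (hS : Sit p r E) : Cert p O n E := by
  obtain ⟨m₀, m₂, a0, a2, n1, n2⟩ := hn
  obtain ⟨s, rfl⟩ : ∃ s, q = s + 1 := ⟨q - 1, by omega⟩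
  have e2 : (s + 1) ^ 2 - 1 = s * (s + 1 + 1) := by
    rw [Nat.sub_eq_iff_eq_add (Nat.one_le_pow 2 _ (by omega))]
    ring
  rw [e2] at a0 a2
  have b1 : (s + 1) ^ 2 * (s + 1 + 1) ^ 2 ≤ (s + 1) ^ 2 * (s * (s + 1 + 1)) ^ 2 := by
    gcongr
    exact Nat.le_mul_of_pos_left _ (by omega)
  have b2 : (s + 1) ^ 2 * (s * (s + 1 + 1)) ^ 2 ≤ (s + 1) ^ 6 * (s + 1 + 1) ^ 2 := by
    calc _ = (s + 1) ^ 2 * s ^ 2 * (s + 1 + 1) ^ 2 := by ring
      _ ≤ (s + 1) ^ 2 * ((s + 1) ^ 2) ^ 2 * (s + 1 + 1) ^ 2 := by gcongr; nlinarith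
      _ = _ := by ring
  have inv : ∀ d : K, orderOf d ≠ p → orderOf d = 2 → cc d ≤ (s + 1) ^ 2 * (s * (s + 1 + 1)) ^ 2 := fun d h1 h2 => by
    have := (ht fun e => h1 (h2.trans e.symm)).inv d h2
    rw [e2] at this
    exact this.trans (le_of_eq (by ring))
  have hm₀ : ∀ d : K, (orderOf d).Prime → orderOf d ≠ p → m₀ ≤ cls ⊤ d := fun d h1 h2 => by
    refine le_cls_top ?_ a0
    by_cases h4 : orderOf d = 2
    · split_ifs
      exacts [inv d h2 h4, (inv d h2 h4).trans b2]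
    · split_ifs with h5
      exacts [(ho.c2 d h1 h4 h2 (h5 ▸ h2)).trans b1, ho.c6 d h1 h4 h2]
  have hm₂ : ∀ d : K, (orderOf d).Prime → orderOf d ≠ p → ¬ orderOf d = 3 → m₂ ≤ cls ⊤ d := fun d h1 h2 h5 => by
    refine le_cls_top ?_ a2
    split_ifs with h6
    · exact ho.c2 d h1 (h6 ▸ h2) h2 h5
    · by_cases h4 : orderOf d = 2
      exacts [inv d h2 h4, (ho.c2 d h1 h4 h2 h5).trans b1]
  by_cases h2 : r = 2
  swap
  · obtain ⟨h4, h5⟩ := ho.tor r E hS.toEA h2 hS.ne (hS.solv_of_le Cz_le_Nz)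
    refine cert_cz (fun s => s = 3) hS.toEA h4 (mul_comm _ _).le ?_ ((ncard_le _ _).trans h4.card) hm₀ hm₂ n1
    split_ifs with h6
    exacts [ncard_zero (h6 ▸ h4.nd), three_le h5]
  subst h2
  have hp2 : p ≠ 2 := hS.ne.symm
  obtain ⟨n2, n3⟩ := n2 hp2
  obtain ⟨i4, i8⟩ := hA K E hS.toEA hS.solv
  rcases (ht hp2).rk E hS.toEA with h4 | ⟨h4, h5, h6⟩ | ⟨h4, h5, h6, h7⟩
  · rcases hq.eq_or_lt with h5 | h5
    exacts [h3 h5.symm E hS.toEA h4, absurd h4 ((ht hp2).ne_two h5 hS)]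
  · have h7 : Nat.card (Cz E) ≤ 2 * (s + 1 + 1) ^ 2 := h5.trans (le_of_eq (by ring))
    refine cert_cz (fun s => s = 3) hS.toEA ⟨h7, h6, i4 h4⟩ (le_of_eq (by ring)) ?_ ((ncard_le _ _).trans h7) hm₀ hm₂ n2
    split_ifs with h8
    · exact ncard_zero (h8 ▸ h6)
    · have := three_mul hS.toEA
      rw [h4] at this
      omega
  · exact cert_cz (fun s => s = 3) hS.toEA ⟨h5, not_dvd_two h6 hp hp2, i8 h4⟩ (by norm_num)
      (ncard_zero (not_dvd_two h6 Nat.prime_three (by norm_num))) (seven_le h4 h6 h7 fun s => ¬ s = 3) hm₀ hm₂ n3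

theorem certD {q O n : ℕ} (hp : p.Prime) (hq : 3 ≤ q) (hA : BoxAut) (ho : OddD p q K) (ht : p ≠ 2 → Two p q (q ^ 3) K)
    (hK : Nat.card K = q ^ 12 * (q ^ 2 - 1) * (q ^ 6 - 1) * (q ^ 8 + q ^ 4 + 1)) (hO : 0 < O) (h1 : 4 * O ≤ n)
    (h2 : 2 * O ≤ 3 * q) (hS : Sit p r E) : Cert p O n E := by
  obtain ⟨a0, n1⟩ := numD hq hO h1 h2
  rw [← hK] at a0 n1
  have hm₀ : ∀ d : K, (orderOf d).Prime → orderOf d ≠ p → 2 * q ^ 15 ≤ cls ⊤ d := fun d h1 h2 => by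
    refine le_cls_top ?_ a0
    by_cases h4 : orderOf d = 2
    · refine ((ht fun e => h2 (h4.trans e.symm)).inv d h4).trans ?_
      calc _ ≤ q * q ^ 2 * (q ^ 3 * (q ^ 3) ^ 2) := by gcongr <;> omega
        _ = _ := by ring
    · refine (ho.c6 d h1 h4 h2).trans ?_
      have b : (q + 1) ^ 2 ≤ q ^ 3 := by nlinarith [Nat.mul_le_mul hq hq, Nat.mul_le_mul hq (Nat.mul_le_mul (le_refl q) (le_refl q))]
      calc _ = q ^ 6 * ((q + 1) ^ 2) ^ 2 := by ring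
        _ ≤ q ^ 6 * (q ^ 3) ^ 2 := by gcongr
        _ = _ := by ring
  have key : ∀ ν c, ν ≤ 3 * q ^ 4 → c ≤ 24 → TorC p ν c E → Cert p O n E := fun ν c h3 h4 h =>
    cert_cz (fun _ => True) hS.toEA ⟨h.card.trans h3, h.nd, h.idx.trans h4⟩ (le_of_eq (by ring))
      ((ncard_le _ _).trans (h.card.trans h3)) ((ncard_le _ _).trans (h.card.trans h3)) hm₀ (fun d h5 h6 _ => hm₀ d h5 h6) n1
  obtain ⟨s, rfl⟩ : ∃ s, q = s + 3 := ⟨q - 3, by omega⟩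
  by_cases h2 : r = 2
  swap
  · rcases ho.tor r E hS h2 with h | ⟨h, -⟩
    · exact key _ _ (by ring_nf; omega) le_rfl h
    · omega
  subst h2
  have hp2 : p ≠ 2 := hS.ne.symm
  obtain ⟨i4, i8⟩ := hA K E hS.toEA hS.solv
  rcases (ht hp2).rk E hS.toEA with h4 | ⟨h4, h5, h6⟩ | ⟨h4, h5, h6, h7⟩
  · exact absurd h4 ((ht hp2).ne_two (le_trans (by norm_num) (Nat.pow_le_pow_left hq 3)) hS)
  · exact key _ 6 (by ring_nf; omega) (by norm_num) ⟨h5, h6, i4 h4⟩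
  · exact key 16 24 (by ring_nf; omega) le_rfl ⟨h5, not_dvd_two h6 hp hp2, i8 h4⟩

theorem certD2 (hB : BoxD42) (ho : OddD 2 2 K) (hK : Nat.card K = 211341312)
    (hc : ∀ x : K, (orderOf x).Prime → orderOf x ≠ 2 → cc x ≤ 1512) (hS : Sit 2 r E) : Cert 2 3 13 E := by
  refine hB K hK hc (fun r E hS => ?_) r E hS
  have hm : ∀ d : K, (orderOf d).Prime → orderOf d ≠ 2 → 139776 ≤ cls ⊤ d := fun d h1 h2 =>
    le_cls_top (hc d h1 h2) (by rw [hK])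
  refine (ho.tor r E hS hS.ne).imp (fun h => ?_) fun h => h.2
  exact cert_cz (fun _ => False) hS.toEA h (ρ := 1176) (by norm_num) (by simp) ((ncard_le _ _).trans h.card) hm
    (fun d h1 h2 _ => hm d h1 h2) (hK ▸ numD2)

theorem rowN_of_cert' [IsSimpleGroup K] (hK : ¬ IsMulCommutative K) (hp : p.Prime) {O k : ℕ} (hO : Nat.card (Out K) = O)
    (hk : p ^ k ∣ Nat.card K) (h : ∀ r (E : Subgroup K), Sit p r E → Cert p O ((p - 1) * k + 1) E) : RowN p K :=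
  rowN_of_cert hK hO.le (Nat.succ_pos _) (fun _ hd => (as_inn hK).lt_cls hd hp (by rwa [R1.card_inn hK])) h

end grp

theorem transfer {K K' : Type} [Group K] [Finite K] [IsSimpleGroup K] [Group K'] {p : ℕ} (e : K ≃* K')
    (hK : ¬ IsMulCommutative K)
    (h : ∀ [Finite K'] [IsSimpleGroup K'], ¬ IsMulCommutative K' → RowN p K') : RowN p K := by
  have _ : Finite K' := Finite.of_equiv _ e.toEquiv
  have _ : IsSimpleGroup K' := e.symm.isSimpleGroup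
  exact RowN.of_equiv e (h fun h1 => hK ⟨⟨fun a b => e.injective (by rw [map_mul, map_mul]; exact h1.is_comm.comm _ _)⟩⟩)

theorem nG2_of (hNS : BoxNS) (hT : BoxTabG) (h2 : BoxTwoG) (hA : BoxAut) (h3 : BoxG23) :
    BoxN fun p K _ => ∃ (F : Type) (_ : Field F) (_ : Fintype F) (_ : CharP F p), 3 ≤ Fintype.card F ∧
      Nonempty (K ≃* Lie.chevG2.group F) := by
  rintro p K _ _ _ hK - ⟨F, _, _, _, hq, ⟨e⟩⟩
  refine transfer e hK fun hK' => ?_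
  obtain ⟨⟨f, hf⟩, hp, hF⟩ := FiniteField.card F p
  have hF' : Fintype.card F = p ^ f := hF
  have _ := Fact.mk hp
  have hc := S1059.result hF'
  refine rowN_of_cert' hK' hp (S2121.result p f hF' (hF' ▸ hq)) (k := 6 * f) ?_ fun r E hS => ?_
  · rw [hc, mul_comm 6, pow_mul, mul_assoc]
    exact Dvd.intro _ rfl
  · refine certG hp hq hA (oddG hNS hT p F hq) (h2 p F) (fun h E hE h4 => ?_) (by rw [hc, hF']; exact numG hp (hF' ▸ hq)) hS
    obtain ⟨rfl, rfl⟩ := (Nat.Prime.pow_eq_iff Nat.prime_three).1 (hF'.symm.trans h)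
    exact h3 F h E hE h4

theorem n3D4_of (hNS : BoxNS) (hX : BoxExt) (hT : BoxTabD) (h2 : BoxTwoD) (hA : BoxAut) (hC : BoxC42) (hD : BoxD42) :
    BoxN fun p K _ => ∃ (F : Type) (_ : Field F) (_ : Fintype F) (_ : CharP F p) (q : ℕ), IsPrimePow q ∧
      Fintype.card F = q ^ 3 ∧ Nonempty (K ≃* Lie.twistedD4 F q) := by
  rintro p K _ _ _ hK - ⟨F, _, _, _, q, hq, hF, ⟨e⟩⟩
  refine transfer e hK fun hK' => ?_
  obtain ⟨n, hp, hn⟩ := FiniteField.card F p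
  have _ := Fact.mk hp
  obtain ⟨p', f, hp', hf, rfl⟩ := (isPrimePow_nat_iff q).1 hq
  obtain rfl : p = p' := (Nat.prime_dvd_prime_iff_eq hp hp').1 (hp.dvd_of_dvd_pow (hp.dvd_of_dvd_pow
    (show p ∣ (p' ^ f) ^ 3 from hF ▸ hn ▸ dvd_pow_self p n.2.ne')))
  have hc := S1067.result hq hF
  have ho := oddD hNS hX hT p F hq hF
  refine rowN_of_cert' hK' hp (S2129.result p f (by rw [hF, ← pow_mul, mul_comm]) hf) (k := 12 * f) ?_ fun r E hS => ?_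
  · rw [hc, mul_comm 12, pow_mul, mul_assoc, mul_assoc]
    exact Dvd.intro _ rfl
  rcases hq.two_le.eq_or_lt with h | h
  · obtain ⟨rfl, rfl⟩ := (Nat.Prime.pow_eq_iff Nat.prime_two).1 h.symm
    exact certD2 hD ho hc (hC F hF) hS
  · have h3 := lin_le_pow (c := 2) (a := 1) hp.two_le one_pos (by rw [pow_one]; exact hp.two_le) hf
    refine certD hp h hA ho (fun h4 => h2 p F _ h4 hF) hc (by omega) ?_ (by omega) hS
    have : 1 * (12 * f) ≤ (p - 1) * (12 * f) := Nat.mul_le_mul_right _ (by have := hp.two_le; omega)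
    omega

end Cfsg.Agent.SB.Low
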