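import Cfsg.Agent.SB.Low.Defs
import Cfsg.Agent.SB.Split

/-!
# S5765, `G₂(q)` and `³D₄(q)`: certificates (helper68)

`Chr` lemmas, `Sit.sub`, `Cert.of_chr`, `cert_two`, `rowN_of_cert`.
-/

set_option autoImplicit false
set_option linter.unusedSectionVars false

namespace Cfsg.Agent.SB.Low

open Subgroup Cfsg Cfsg.Agent.H786.FC

variable {K : Type} [Group K] [Finite K] {E X N : Subgroup K} {p r : ℕ}

omit [Finite K] in
theorem Chr.refl (E : Subgroup K) : Chr E E := fun _ h => h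

omit [Finite K] in
theorem Chr.trans (h : Chr E X) (h' : Chr X N) : Chr E N := fun α hα => h' α (h α hα)

theorem stab_inv {α : MulAut K} (hα : ∀ x ∈ E, α x ∈ E) : ∀ x ∈ E, α⁻¹ x ∈ E := by
  intro x hx
  have h1 : Function.Surjective fun y : E => (⟨α y, hα y y.2⟩ : E) :=
    Finite.surjective_of_injective fun a b h => Subtype.ext (α.injective (congrArg Subtype.val h))
  obtain ⟨y, hy⟩ := h1 ⟨x, hx⟩
  have h2 : α y = x := congrArg Subtype.val hy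
  rw [← h2, MulAut.inv_apply_self]
  exact y.2

theorem mem_Nz {g : K} : g ∈ Nz E ↔ ∀ x ∈ E, g * x * g⁻¹ ∈ E :=
  ⟨fun h x hx => (mem_normalizer_iff.1 h x).1 hx, fun h => mem_normalizer_fintype (S := (E : Set K)) h⟩

omit [Finite K] in
theorem mem_Cz {g : K} : g ∈ Cz E ↔ ∀ x ∈ E, x * g = g * x := mem_centralizer_iff

theorem Cz_le_Nz : Cz E ≤ Nz E := centralizer_le_normalizer _

theorem Chr.nz (h : Chr E X) : Chr E (Nz X) := fun α hα g hg => mem_Nz.2 fun x hx => by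
  have h1 := h α hα _ (mem_Nz.1 hg _ (h α⁻¹ (stab_inv hα) x hx))
  simpa using h1

theorem Chr.cz (h : Chr E X) : Chr E (Cz X) := fun α hα g hg => mem_Cz.2 fun x hx => by
  have h1 := congrArg α (mem_Cz.1 hg _ (h α⁻¹ (stab_inv hα) x hx))
  simpa using h1

omit [Finite K] in
theorem Chr.inf (h : Chr E X) (h' : Chr E N) : Chr E (X ⊓ N) := fun α hα x hx => ⟨h α hα x hx.1, h' α hα x hx.2⟩

omit [Finite K] in
/-- the subgroup generated by an invariant set -/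
theorem chr_closure {s : Set K} (h : ∀ α : MulAut K, (∀ x ∈ E, α x ∈ E) → ∀ x ∈ s, α x ∈ s) : Chr E (closure s) := by
  intro α hα
  have : closure s ≤ (closure s).comap α.toMonoidHom := (closure_le _).2 fun x hx => subset_closure (h α hα x hx)
  exact fun x hx => this hx

theorem Chr.conj (h : Chr E X) {g : K} (hg : g ∈ Nz E) : ∀ x ∈ X, g * x * g⁻¹ ∈ X :=
  h (MulAut.conj g) (mem_Nz.1 hg)

theorem Chr.le_nz (h : Chr E X) : Nz E ≤ Nz X := fun _ hg => mem_Nz.2 (h.conj hg)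

theorem Chr.fit (h : Chr E X) : Chr E (fit X) := by
  rintro α hα _ ⟨y, hy, rfl⟩
  let e : X ≃* X :=
    { toFun := fun a => ⟨α a, h α hα a a.2⟩
      invFun := fun a => ⟨α⁻¹ a, h α⁻¹ (stab_inv hα) a a.2⟩
      left_inv := fun a => Subtype.ext (by simp)
      right_inv := fun a => Subtype.ext (by simp)
      map_mul' := fun a b => Subtype.ext (by simp) }
  exact ⟨e y, (Lib.Cores.map_equiv_fittingSubgroup e).le ⟨y, hy, rfl⟩, rfl⟩

/-- the `s`-elements of an invariant nilpotent subgroup -/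
theorem Chr.exists_core (h : Chr E X) (hnil : Group.IsNilpotent X) {s : ℕ} (hs : s.Prime) :
    ∃ Q : Subgroup K, Q ≤ X ∧ IsPGroup s Q ∧ (∀ v ∈ X, (∃ k : ℕ, v ^ s ^ k = 1) ↔ v ∈ Q) ∧ Chr E Q := by
  obtain ⟨Q, h1, h2, h3, -⟩ := SB.exists_core hnil s hs
  refine ⟨Q, h1, h2, h3, fun α hα x hx => ?_⟩
  obtain ⟨k, hk⟩ := (h3 x (h1 hx)).2 hx
  exact (h3 _ (h α hα x (h1 hx))).1 ⟨k, by rw [← map_pow, hk, map_one]⟩

theorem EA.le_Cz (h : EA r E) : E ≤ Cz E := fun x hx => mem_Cz.2 fun y hy => h.comm y hy x hx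

theorem EA.isPGroup (h : EA r E) : IsPGroup r E := fun x => ⟨1, Subtype.ext (by simpa using h.pow x x.2)⟩

theorem EA.exists_ne (h : EA r E) : ∃ x ∈ E, x ≠ 1 ∧ orderOf x = r := by
  obtain ⟨⟨x, hx⟩, h1⟩ := ne_bot_iff_exists_ne_one.1 h.ne_bot
  have h2 : x ≠ 1 := fun e => h1 (Subtype.ext e)
  have := Fact.mk h.prime
  exact ⟨x, hx, h2, orderOf_eq_prime (h.pow x hx) h2⟩

theorem Sit.nz_eq (h : Sit p r E) (hX : Chr E X) (h0 : X ≠ ⊥) (hle : X ≤ Nz E) : Nz X = Nz E :=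
  le_antisymm (h.max X h0 hle hX) hX.le_nz

/-- change of the elementary abelian subgroup -/
theorem Sit.sub (h : Sit p r E) {s : ℕ} (hX : Chr E X) (hle : X ≤ Nz E) (he : EA s X) (hs : s ≠ p) : Sit p s X := by
  have e := h.nz_eq hX he.ne_bot hle
  refine ⟨he, hs, e ▸ h.solv, fun Y h0 h1 h2 => ?_, fun Y h1 h2 h3 => ?_⟩
  · rw [e] at h1 ⊢
    exact h.max Y h0 h1 (hX.trans h2)
  · rw [e] at h1
    exact h.npar Y h1 h2 (hX.trans h3)

omit [Finite K] in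
theorem Cert.of_chr {O n : ℕ} (hX : Chr E X) (e : Nz X = Nz E) (h : Cert p O n X) : Cert p O n E := by
  obtain ⟨N, h1, h2, h3⟩ := h
  rw [e] at h1 h3
  exact ⟨N, h1, hX.trans h2, h3⟩

theorem Sit.solv_of_le (h : Sit p r E) (hle : X ≤ Nz E) : Group.IsSolvable X :=
  have := h.solv
  Group.isSolvable_of_isSolvable_injective (f := inclusion hle) (inclusion_injective _)

theorem Sit.not_dvd_fit (h : Sit p r E) (hp : p.Prime) (hX : Chr E X) (hle : X ≤ Nz E) : ¬ p ∣ Nat.card (SB.fit X) := by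
  intro h1
  have _ : Fact p.Prime := ⟨hp⟩
  obtain ⟨Q, h2, h3, h4, h5⟩ := hX.fit.exists_core (fit_nilpotent X) hp
  have h6 := h.npar Q (h2.trans ((fit_le _).trans hle)) h3 h5
  obtain ⟨v, hv⟩ := exists_prime_orderOf_dvd_card' p h1
  have h7 := (h4 v v.2).1 ⟨1, by rw [pow_one, ← hv, ← Subgroup.orderOf_coe, pow_orderOf_eq_one]⟩
  rw [h6, mem_bot] at h7
  rw [← Subgroup.orderOf_coe, h7, orderOf_one] at hv
  exact hp.one_lt.ne hv

/-- `C_R(F(R)) ≤ F(R)` -/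
theorem fit_cent {R : Subgroup K} (hR : Group.IsSolvable R) : ∀ g ∈ R, (∀ v ∈ SB.fit R, g * v = v * g) → g ∈ SB.fit R := by
  intro g hg h
  have := fit_inf_cent (T := ⊤) hR g hg trivial
  rw [inf_top_eq] at this
  exact this h

theorem le_cls_top {x : K} {m c : ℕ} (hc : cc x ≤ c) (h : m * c ≤ Nat.card K) : m ≤ cls ⊤ x := by
  have h1 := cls_mul_card ⊤ x
  rw [top_inf_eq, card_top] at h1
  have h2 : 0 < cc x := Nat.card_pos
  refine Nat.le_of_mul_le_mul_left (le_trans ?_ h1.ge) h2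
  rw [mul_comm]
  exact (Nat.mul_le_mul_left _ hc).trans h

/-- the numerical conditions of `cert_two` -/
def Num (t O n ρ κ ι k₁ k₂ m₀ m₁ m₂ : ℕ) : Prop :=
  0 < m₀ ∧ 0 < m₁ ∧ 0 < m₂ ∧ (k₁ : ℚ) * ρ / m₁ + k₂ * ρ / m₂ < 1 ∧ ∃ μ e φ : ℚ, (k₁ : ℚ) / m₁ ≤ μ ∧ (k₂ : ℚ) / m₂ ≤ μ ∧
    κ * (3 / 2 * κ * μ) + ι * ((ρ : ℚ) / m₀) ^ 2 < 1 ∧ (ρ : ℚ) / m₀ ≤ e ∧ 3 / 2 * κ * μ ≤ e ^ 2 ∧ 0 < φ ∧
    e + φ / n ≤ φ ^ 2 ∧ ((O : ℚ) - 1) * φ * t + 6 * O * ρ < t

/-- **A certificate from counts.**  The elements of prime order of `N` are sorted by their order. -/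
theorem cert_two {O n ρ κ ι k₁ k₂ m₀ m₁ m₂ : ℕ} (P : ℕ → Prop) (h1 : N ≤ Nz E) (h2 : Chr E N)
    (h3 : ∀ g ∈ Nz E, (∀ v ∈ N, g * v = v * g) → g ∈ N) (h4 : ¬ p ∣ Nat.card N) (hρ : Nat.card (Nz E) ≤ ρ)
    (hκ : kap N (Nz E) p ≤ κ) (hι : N.relIndex (Nz E) ≤ ι)
    (hk₁ : {v | v ∈ N ∧ (orderOf v).Prime ∧ P (orderOf v)}.ncard ≤ k₁)
    (hk₂ : {v | v ∈ N ∧ (orderOf v).Prime ∧ ¬ P (orderOf v)}.ncard ≤ k₂)
    (hm₀ : ∀ d ∈ Nz E, (orderOf d).Prime → orderOf d ≠ p → m₀ ≤ cls ⊤ d)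
    (hm₁ : ∀ v ∈ N, (orderOf v).Prime → P (orderOf v) → m₁ ≤ cls ⊤ v)
    (hm₂ : ∀ v ∈ N, (orderOf v).Prime → ¬ P (orderOf v) → m₂ ≤ cls ⊤ v)
    (hn : Num (Nat.card K) O n ρ κ ι k₁ k₂ m₀ m₁ m₂) : Cert p O n E := by
  classical
  obtain ⟨a0, a1, a2, a3, μ, e, φ, a4, a5, a6, a7, a8, a9, a10, a11⟩ := hn
  have hρ' : ∀ c, meet ⊤ (Nz E) c ≤ ρ := fun c => (meet_le_card _ _ c).trans hρ
  refine ⟨N, h1, h2, h3, h4, ?_, μ, ρ / m₀, e, φ, κ, ι, le_trans (by positivity) a4, by positivity, fun v hv hp => ?_,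
    fun d hd hp hp' => fp_le_div (hρ' d) (hm₀ d hd hp hp') a0, hκ, hι, a6, a7, a8, a9, a10, lt_of_le_of_lt ?_ a11⟩
  · obtain ⟨x, -, hx⟩ := exists_good_of_sum (T := ⊤) (S := Nz E) _ (primeElts_cover N)
      (fun v => if P (orderOf v) then (ρ : ℚ) / m₁ else (ρ : ℚ) / m₂) (fun c hc => meet_le_of_fp (by
        obtain ⟨b1, b2⟩ := mem_primeElts.1 hc
        split_ifs with b4
        exacts [fp_le_div (hρ' c) (hm₁ c b1 b2 b4) a1, fp_le_div (hρ' c) (hm₂ c b1 b2 b4) a2])) (by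
        rw [Finset.sum_ite, Finset.sum_const, Finset.sum_const, nsmul_eq_mul, nsmul_eq_mul]
        have key : ∀ (Q : ℕ → Prop) [DecidablePred Q] (k : ℕ),
            {v | v ∈ N ∧ (orderOf v).Prime ∧ Q (orderOf v)}.ncard ≤ k →
            ((((primeElts N).filter fun v => Q (orderOf v)).card : ℕ) : ℚ) ≤ k := by
          intro Q _ k hk
          have b2 : ((primeElts N).filter fun v => Q (orderOf v)).card ≤
              {v | v ∈ N ∧ (orderOf v).Prime ∧ Q (orderOf v)}.ncard := by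
            rw [← Set.ncard_coe_finset]
            exact Set.ncard_le_ncard (fun v hv => by
              obtain ⟨c1, c2⟩ := Finset.mem_filter.1 (Finset.mem_coe.1 hv)
              exact ⟨(mem_primeElts.1 c1).1, (mem_primeElts.1 c1).2, c2⟩) (Set.toFinite _)
          exact_mod_cast b2.trans hk
        have b1 := key P k₁ hk₁
        have b2 := key (fun s => ¬ P s) k₂ hk₂
        rw [mul_div_assoc, mul_div_assoc] at a3
        refine lt_of_le_of_lt ?_ a3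
        gcongr)
    exact ⟨x, hx⟩
  · have key : ∀ (Q : ℕ → Prop) (k : ℕ), {v | v ∈ N ∧ (orderOf v).Prime ∧ Q (orderOf v)}.ncard ≤ k → Q (orderOf v) →
        meet ⊤ N v ≤ k := fun Q k hk hQ =>
      (meet_le_of_subset ⊤ N v {v | v ∈ N ∧ (orderOf v).Prime ∧ Q (orderOf v)} fun x _ hx =>
        ⟨hx, by rwa [orderOf_conj'], by rwa [orderOf_conj']⟩).trans hk
    by_cases hP : P (orderOf v)
    · exact (fp_le_div (key P k₁ hk₁ hP) (hm₁ v hv hp hP) a1).trans a4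
    · exact (fp_le_div (key (fun s => ¬ P s) k₂ hk₂ hP) (hm₂ v hv hp hP) a2).trans a5
  · have : (Nat.card (Nz E) : ℚ) ≤ ρ := by exact_mod_cast hρ
    gcongr

/-! ### the translation -/

section tr

variable {A : Type*} [Group A] [Finite A] {φ : K →* A} (hφ : Function.Injective φ)

include hφ

theorem fp_map (S : Subgroup A) (d : K) : fp φ.range S (φ d) = fp ⊤ (S.comap φ) d := by
  have e : (⊤ : Subgroup K) ≃ φ.range := (topEquiv.trans (MonoidHom.ofInjective hφ)).toEquiv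
  have h1 : hits φ.range S (φ d) = hits ⊤ (S.comap φ) d := by
    refine (Nat.card_congr (Equiv.subtypeEquiv (topEquiv.trans (MonoidHom.ofInjective hφ)).toEquiv fun x => ?_)).symm
    show φ _ ∈ S ↔ (φ x)⁻¹ * φ d * φ x ∈ S
    rw [map_mul, map_mul, map_inv]
  rw [fp, fp, h1, Nat.card_congr e]

theorem kap_map (N R : Subgroup K) (s : ℕ) : kap (N.map φ) (R.map φ) s ≤ kap N R s := by
  classical
  let π : A → K ⧸ N := fun a => (Function.invFun φ a : K)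
  have hπ : ∀ g, π (φ g) = (g : K ⧸ N) := fun g => congrArg _ (Function.leftInverse_invFun hφ g)
  refine kap_le_of_map π {c | ∃ g ∈ R, orderOf g = s ∧ (g : K ⧸ N) = c} (Set.toFinite _) ?_ ?_
  · rintro _ ⟨g, hg, rfl⟩ ho
    exact ⟨g, hg, by rwa [orderOf_injective φ hφ] at ho, (hπ g).symm⟩
  · rintro _ ⟨g, -, rfl⟩ _ ⟨g', -, rfl⟩ h
    rw [hπ, hπ] at h
    exact ⟨_, QuotientGroup.eq.1 h, by rw [map_mul, map_inv]⟩

end tr

/-- **The translation.** -/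
theorem rowN_of_cert [IsSimpleGroup K] (hK : ¬ IsMulCommutative K) {O n : ℕ} (hO : Nat.card (Out K) ≤ O)
    (hn0 : 0 < n) (hn : ∀ d : MulAut K, d ≠ 1 → n ≤ cls (InnG K) d)
    (h : ∀ r (E : Subgroup K), Sit p r E → Cert p O n E) : RowN p K := by
  intro S hS hm hN
  have hT := as_inn hK
  have hi := conj_injective hK
  obtain ⟨X, x1, x2, x3, -, x5, ⟨r, hr, x6⟩, -⟩ := hm.exists_min hT hS
  let E : Subgroup K := X.comap MulAut.conj
  have hEX : E.map MulAut.conj = X := map_comap_eq_self (x1.trans inf_le_right)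
  have hSE : ∀ α ∈ S, ∀ x ∈ E, α x ∈ E := fun α hα x hx => by
    have := x3 α hα _ hx
    rwa [R1.conj_conj] at this
  have inv : ∀ {Y : Subgroup K}, Chr E Y → ∀ s ∈ S, ∀ y ∈ Y.map MulAut.conj, s * y * s⁻¹ ∈ Y.map MulAut.conj := by
    rintro Y hY s hs _ ⟨y, hy, rfl⟩
    exact ⟨s y, hY s (hSE s hs) y hy, (R1.conj_conj s y).symm⟩
  have nz : ∀ {Y : Subgroup K}, Chr E Y → Y ≠ ⊥ → Y.map MulAut.conj ≤ S → Nz Y ≤ R1.innS S := by
    intro Y hY h0 hle g hg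
    refine hm.mem_of_normalizes hT (X := Y.map MulAut.conj) (fun e => h0 ((map_eq_bot_iff_of_injective Y hi).1 e))
      (fun e => hT.not_le hS (e.trans hle)) (inv hY) ⟨g, rfl⟩ ?_
    rintro _ ⟨y, hy, rfl⟩
    exact ⟨_, mem_Nz.1 hg y hy, by rw [map_mul, map_mul, map_inv]⟩
  have hE0 : E ≠ ⊥ := fun e => x2 (by rw [← hEX, e, Subgroup.map_bot])
  have hR : Nz E = R1.innS S := by
    refine le_antisymm (nz (Chr.refl E) hE0 (hEX ▸ x1.trans inf_le_left)) fun g hg => mem_Nz.2 fun x hx => ?_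
    exact hSE _ hg x hx
  have hRm : (Nz E).map MulAut.conj = S ⊓ InnG K := by rw [hR, R1.innS, map_comap_eq, inf_comm]
  have hEA : EA r E := ⟨hr, hE0, fun x hx => hi (by rw [map_pow, map_one]; exact x6 _ hx),
    fun x hx y hy => hi (by rw [map_mul, map_mul]; exact x5 _ hx _ hy)⟩
  have np : ∀ Y : Subgroup K, Y ≤ Nz E → IsPGroup p Y → Chr E Y → Y = ⊥ := fun Y h1 h2 h3 =>
    (map_eq_bot_iff_of_injective Y hi).1 (hN _ (hRm ▸ map_mono h1) (h2.map _) (inv h3))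
  have hsit : Sit p r E := ⟨hEA, fun e => hE0 (np E (hEA.le_Cz.trans Cz_le_Nz) (e ▸ hEA.isPGroup) (Chr.refl E)),
    hR ▸ R1.innS_solvable hK hS, fun Y h0 h1 h2 => (nz h2 h0 ((map_mono h1).trans (hRm.le.trans inf_le_left))).trans hR.ge, np⟩
  obtain ⟨N, n1, n2, n3, n4, ⟨x, n5⟩, μ, b, e, φ, κ, ι, a1, a2, a3, a4, a5, a6, a7, a8, a9, a10, a11, a12⟩ := h r E hsit
  have hO0 : 0 < O := lt_of_lt_of_le Nat.card_pos hO
  obtain ⟨o, rfl⟩ : ∃ o, O = o + 1 := ⟨O - 1, by omega⟩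
  refine Or.inr (master (N := N.map MulAut.conj) hT.normal (hRm ▸ map_mono n1) (inv n2) ?_ (p := p) ?_
    (x := MulAut.conj x) ⟨x, rfl⟩ ?_ a1 a2 ?_ ?_ (κ := κ) (ι := ι) (o := o) ?_ ?_ ((relIndex_inn_le S).trans hO) hn0 hn a7 a8
    a9 a10 a11 ?_)
  · rintro _ hg ⟨g, rfl⟩ hc
    exact ⟨g, n3 g (hR ▸ hg) fun v hv => hi (by rw [map_mul, map_mul]; exact hc _ ⟨v, hv, rfl⟩), rfl⟩
  · rwa [card_map_of_injective hi]
  · rintro _ ⟨v, hv, rfl⟩ hx
    rw [n5 v hv (by rw [hR, R1.mem_innS, map_mul, map_mul, map_inv]; exact hx), map_one]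
  · rintro _ ⟨v, hv, rfl⟩ hp
    have := fp_map hi (N.map MulAut.conj) v
    rw [comap_map_eq_self_of_injective hi] at this
    rw [orderOf_injective _ hi] at hp
    exact this.le.trans (a3 v hv hp)
  · rintro _ hd ⟨d, rfl⟩ hp hp'
    rw [orderOf_injective _ hi] at hp hp'
    refine (fp_map hi S d).le.trans ?_
    have := a4 d (hR ▸ hd) hp hp'
    rwa [hR] at this
  · rw [← hRm]
    exact (kap_map hi N _ p).trans a5
  · rwa [← hRm, relIndex_map_map_of_injective _ _ hi]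
  · rw [R1.card_inn hK, ← hRm, card_map_of_injective hi]
    push_cast at a12
    rwa [add_sub_cancel_right] at a12

end Cfsg.Agent.SB.Low
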