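import Cfsg.Agent.SB.Master
import Cfsg.Agent.SB.Exc.Card
import Cfsg.Agent.SB.Exc.Max.Frame
import Cfsg.Agent.H316.U6Model

/-!
# S5765, the groups `G₂(q)` and `³D₄(q)`, non-parabolic case: interface (helper68)

Paper proofs: `notes/SB/low.md`.  Everything is said inside the simple group `K`: `E ≤ K` is an elementary abelian
`r`-group, `R = N_K(E)`; `Chr E X` : `X` is invariant under the automorphisms of `K` which stabilise `E`;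
`Sit p r E` : the situation; `Cert p O n E` : the data for `master`.
-/

set_option autoImplicit false
set_option linter.unusedSectionVars false

namespace Cfsg.Agent.SB.Low

open Subgroup Cfsg Cfsg.Lie CoxeterSystem Cfsg.Agent.H786.FC
open Cfsg.Agent.ChevalleyStructure.CoxeterGeom Cfsg.Agent.ChevalleyStructure.CoxeterGeomTypes Cfsg.Agent.Tits.Roots
  Cfsg.Agent.Nodes.Reps Cfsg.Agent.Nodes.Coroot Cfsg.Agent.DL Cfsg.Agent.Nodes.RGDChev Cfsg.Lie.ChevalleyDatum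

/-! ### the group-theoretic situation -/

section Grp

variable {K : Type} [Group K]

/-- the normaliser -/
abbrev Nz (E : Subgroup K) : Subgroup K := normalizer (E : Set K)

/-- the centraliser -/
abbrev Cz (E : Subgroup K) : Subgroup K := centralizer (E : Set K)

/-- the order of the centraliser of an element -/
noncomputable abbrev cc (x : K) : ℕ := Nat.card (centralizer ({x} : Set K))

/-- `X` is invariant under all automorphisms of `K` which stabilise `E` -/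
def Chr (E X : Subgroup K) : Prop := ∀ α : MulAut K, (∀ x ∈ E, α x ∈ E) → ∀ x ∈ X, α x ∈ X

/-- a non-trivial elementary abelian `r`-subgroup -/
structure EA (r : ℕ) (E : Subgroup K) : Prop where
  prime : r.Prime
  ne_bot : E ≠ ⊥
  pow : ∀ x ∈ E, x ^ r = 1
  comm : ∀ x ∈ E, ∀ y ∈ E, x * y = y * x

/-- the situation of the non-parabolic case -/
structure Sit (p r : ℕ) (E : Subgroup K) : Prop extends EA r E where
  ne : r ≠ p
  solv : Group.IsSolvable (Nz E)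
  max : ∀ X : Subgroup K, X ≠ ⊥ → X ≤ Nz E → Chr E X → Nz X ≤ Nz E
  npar : ∀ X : Subgroup K, X ≤ Nz E → IsPGroup p X → Chr E X → X = ⊥

/-- the data for `master`; `O` bounds `|Out K|`, `n` is a lower bound for the classes of automorphisms -/
def Cert (p O n : ℕ) (E : Subgroup K) : Prop :=
  ∃ N : Subgroup K, N ≤ Nz E ∧ Chr E N ∧ (∀ g ∈ Nz E, (∀ v ∈ N, g * v = v * g) → g ∈ N) ∧ ¬ p ∣ Nat.card N ∧
    (∃ x : K, ∀ v ∈ N, x⁻¹ * v * x ∈ Nz E → v = 1) ∧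
    ∃ (μ b e φ : ℚ) (κ ι : ℕ), 0 ≤ μ ∧ 0 ≤ b ∧ (∀ v ∈ N, (orderOf v).Prime → fp ⊤ N v ≤ μ) ∧
      (∀ d ∈ Nz E, (orderOf d).Prime → orderOf d ≠ p → fp ⊤ (Nz E) d ≤ b) ∧ kap N (Nz E) p ≤ κ ∧
      N.relIndex (Nz E) ≤ ι ∧ κ * (3 / 2 * κ * μ) + ι * b ^ 2 < 1 ∧ b ≤ e ∧ 3 / 2 * κ * μ ≤ e ^ 2 ∧ 0 < φ ∧
      e + φ / n ≤ φ ^ 2 ∧ ((O : ℚ) - 1) * φ * Nat.card K + 6 * O * Nat.card (Nz E) < Nat.card K

end Grp

/-! ### facts on root systems -/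

section Root

variable {I W : Type} [Fintype I] [DecidableEq I] [Group W] {M : CoxeterMatrix I} (cs : CoxeterSystem M W)
  {A : I → I → ℤ} (h : IsCartan M A)

/-- the roots in `Λ` -/
def Ps (Λ : AddSubgroup (I → ℤ)) : Set (I → ℤ) := {a | IsRoot cs h a ∧ a ∈ Λ}

/-- `Λ` is `d`-saturated -/
def Sat (d : ℤ) (Λ : AddSubgroup (I → ℤ)) : Prop := ∀ x, d • x ∈ Λ → x ∈ Λ

/-- the reflections in the roots of `Λ` -/
def Rfl (Λ : AddSubgroup (I → ℤ)) : Set W := {w | ∃ a ∈ Ps cs h Λ, ∀ b, rep cs h w b = b - cpr cs h b a • a}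

/-- an element of `W` which is trivial modulo `Λ` is a product of reflections in roots of `Λ` -/
def PPr : Prop := ∀ (v : W) (Λ : AddSubgroup (I → ℤ)), Sat 2 Λ → (∀ x, rep cs h v x - x ∈ Λ) → v ∈ closure (Rfl cs h Λ)

/-- facts on `G₂` -/
structure RG : Prop where
  cardI : Fintype.card I = 2
  cardW : Nat.card W ≤ 12
  pp : PPr cs h
  six : ∀ Λ, Sat 2 Λ → (∃ x, x ∉ Λ) → (Ps cs h Λ).ncard ≤ 6
  two : ∀ Λ, Sat 2 Λ → Sat 3 Λ → (∃ x, x ∉ Λ) → (Ps cs h Λ).ncard ≤ 2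
  fix : ∀ (w : W) Λ, (Ps cs h Λ).Nonempty → (∀ a ∈ Ps cs h Λ, 0 ≤ a → rep cs h w a ∈ Λ ∧ 0 ≤ rep cs h w a) →
    ∃ a ∈ Ps cs h Λ, rep cs h w a = a
  orth : ∀ (w : W) a, IsRoot cs h a → rep cs h w a = a → ∃ b, IsRoot cs h b ∧ (rep cs h w b = b ∨ rep cs h w b = -b) ∧
    ∀ x, ∃ i j : ℤ, (2 : ℤ) • x = i • a + j • b

/-- the six roots of an `A₂` -/
def A2 (a b : I → ℤ) : Set (I → ℤ) := {a, b, a + b, -a, -b, -(a + b)}

/-- facts on `D₄` -/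
structure RD : Prop where
  cardI : Fintype.card I = 4
  pp : PPr cs h
  symm : ∀ a b, IsRoot cs h a → IsRoot cs h b → cpr cs h a b = cpr cs h b a
  btw0 : ∀ a b c, IsRoot cs h a → IsRoot cs h b → a ≠ b → 0 ≤ cpr cs h b a → ¬ Btwn cs h a b c
  btw1 : ∀ a b c, IsRoot cs h a → IsRoot cs h b → cpr cs h b a = -1 → (Btwn cs h a b c ↔ c = a + b)
  perp : ∀ a, IsRoot cs h a → ∃ c, IsRoot cs h c ∧ cpr cs h c a = 0

/-- facts on the elements `θ` of the triality coset -/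
structure RT (θ : (I → ℤ) →+ (I → ℤ)) : Prop where
  t1 : ∀ a, IsRoot cs h a → cpr cs h (θ a) a = 0 →
    cpr cs h (θ (θ a)) a = 0 ∧ cpr cs h (θ (θ a)) (θ a) = 0 ∧ (θ (θ (θ a)) = a ∨ θ (θ (θ a)) = -a)
  t2 : ∀ a c, IsRoot cs h a → IsRoot cs h c → θ a = a → cpr cs h c a = 0 → cpr cs h (θ c) c = 0 ∧
    cpr cs h (θ c) a = 0 ∧ cpr cs h (θ (θ c)) a = 0
  cw : {v : W | ∀ x, θ (rep cs h v x) = rep cs h v (θ x)}.ncard ≤ 24
  tor : ∀ (q : ℕ) (ψ : (I → ℤ) →ₗ[ℤ] (I → ℤ)), (∀ x, ψ (θ x) = (q : ℤ) • x) →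
    (LinearMap.det (ψ - 1)).natAbs ≤ (q ^ 2 + q + 1) ^ 2
  six : ∀ Λ, Sat 2 Λ → (∃ x, x ∉ Λ) → (∀ x ∈ Λ, θ x ∈ Λ) → (Ps cs h Λ).ncard ≤ 6
  cls : ∀ Λ, (Ps cs h Λ).Nonempty → (∀ x ∈ Λ, θ x ∈ Λ) → (∀ a ∈ Ps cs h Λ, 0 ≤ a → 0 ≤ θ a) →
    (∃ a ∈ Ps cs h Λ, cpr cs h (θ a) a = 0) ∨ (∃ a, IsRoot cs h a ∧ θ a = a ∧ Ps cs h Λ = {a, -a}) ∨
    ∃ a b, IsRoot cs h a ∧ IsRoot cs h b ∧ 0 ≤ a ∧ 0 ≤ b ∧ cpr cs h b a = -1 ∧ Ps cs h Λ = A2 a b ∧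
      ((θ a = a ∧ θ b = b) ∨ (θ a = b ∧ θ b = a))
  tw : ∀ a b, IsRoot cs h a → IsRoot cs h b → cpr cs h b a = -1 → θ a = b → θ b = a →
    ∀ Λ : AddSubgroup (I → ℤ), a ∈ Λ → b ∈ Λ → (∀ x, θ x - (2 : ℤ) • x ∈ Λ) →
      (∀ x, (3 : ℤ) • x ∈ Λ) ∧ ∃ x₀, ∀ x, ∃ i : ℤ, x - i • x₀ ∈ Λ

/-- the twisted action `w g` -/
noncomputable def tw (w : W) (g : (I → ℤ) →+ (I → ℤ)) : (I → ℤ) →+ (I → ℤ) := (rep cs h w).toAddMonoidHom.comp g

end Root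

theorem hpG2 : IsType chevG2 2 CoxeterMatrix.G₂ := by simp [IsType, typeList]

/-- [TabG] the tables for `G₂` -/
def BoxTabG : Prop := RG CoxeterMatrix.G₂.toCoxeterSystem hpG2.isCartan

/-- [TabD] the tables for `D₄` with the triality -/
def BoxTabD : Prop := RD coxeterD4.toCoxeterSystem Nodes.RGDTwD4.hp.isCartan ∧
  ∀ w, RT coxeterD4.toCoxeterSystem Nodes.RGDTwD4.hp.isCartan
    (tw coxeterD4.toCoxeterSystem Nodes.RGDTwD4.hp.isCartan w (H720.TwFr.permE H720.TwFr.rho4).toAddMonoidHom)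

/-! ### boxes on finite reductive groups -/

/-- [NS] a root orbit with a field of at least four elements gives a non-solvable group -/
def BoxNS : Prop := ∀ (p : ℕ) [Fact p.Prime] (k : Type) [Field k] [CharP k p] [IsAlgClosed k] (Y : Type) [Group Y]
  (N : Type) [Fintype N] [DecidableEq N] (ρ : Y →* GL N k) (F : MulAut Y) (G : Subgroup Y) (D : Datum p ρ F G) (n j : ℕ)
  (a : D.I → ℤ), (∀ b, D.Rt b → D.ex b = n) → D.Rt a → 0 < j → 4 ≤ (p ^ n) ^ j → (D.g^[j] a = a ∨ D.g^[j] a = -a) →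
  (∀ i < j, ∀ i' < j, i ≠ i' → cpr D.cs D.h (D.g^[i] a) (D.g^[i'] a) = 0 ∧
    ∀ u ∈ D.X (D.g^[i] a) ⊔ D.X (-D.g^[i] a), ∀ v ∈ D.X (D.g^[i'] a) ⊔ D.X (-D.g^[i'] a), u * v = v * u) →
  ¬ Group.IsSolvable ↥(fix F ⊓ D.S {c | ∃ i < j, c = D.g^[i] a ∨ c = -D.g^[i] a})

/-- [EXT] centralisers of type `A₂` : not solvable with `O_p = 1`, but for `SU₃` in characteristic two -/
def BoxExt : Prop := ∀ (p : ℕ) [Fact p.Prime] (k : Type) [Field k] [CharP k p] [IsAlgClosed k] (Y : Type) [Group Y]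
  (N : Type) [Fintype N] [DecidableEq N] (ρ : Y →* GL N k) (F : MulAut Y) (D : Datum p ρ F ⊤) (Z : Set Y)
  (a b : D.I → ℤ), RD D.cs D.h → Z ⊆ D.T → (∀ z ∈ Z, F z = z) → D.Rt a → D.Rt b → 0 ≤ a → 0 ≤ b →
  cpr D.cs D.h b a = -1 → D.Sz Z = A2 a b → D.g (a + b) = a + b →
  ((D.g a = a ∧ D.g b = b) ∨ (D.g a = b ∧ D.g b = a ∧ p ≠ 2)) →
  Group.IsSolvable ↥(fix F ⊓ centralizer Z) → p ∣ Nat.card (fittingSubgroup ↥(fix F ⊓ centralizer Z))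

/-! ### boxes on the finite groups -/

/-- the elementary abelian 2-subgroups; `q`, `Q` the orders of the root groups -/
structure Two (p q Q : ℕ) (K : Type) [Group K] : Prop where
  inv : ∀ z : K, orderOf z = 2 → cc z ≤ q * (q ^ 2 - 1) * (Q * (Q ^ 2 - 1))
  ns : 4 ≤ Q → ∀ z : K, orderOf z = 2 → ¬ Group.IsSolvable (centralizer ({z} : Set K))
  rk : ∀ E : Subgroup K, EA 2 E → Nat.card E = 2 ∨
    (Nat.card E = 4 ∧ Nat.card (Cz E) ≤ 2 * (Q + 1) * (q + 1) ∧ ¬ p ∣ Nat.card (Cz E)) ∨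
    (Nat.card E = 8 ∧ Nat.card (Cz E) ≤ 16 ∧ IsPGroup 2 (Cz E) ∧ ∀ v ∈ Cz E, v ^ 2 = 1 → v ∈ E)

/-- [Two] -/
def BoxTwoG : Prop := ∀ (p : ℕ) (F : Type) [Field F] [Fintype F] [CharP F p], p ≠ 2 →
  Two p (Fintype.card F) (Fintype.card F) ↥(chevG2.group F)

def BoxTwoD : Prop := ∀ (p : ℕ) (F : Type) [Field F] [Fintype F] [CharP F p] (q : ℕ), p ≠ 2 → Fintype.card F = q ^ 3 →
  Two p q (q ^ 3) ↥(twistedD4 F q)

/-- [Aut] `|N(E) : C(E)|` -/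
def BoxAut : Prop := ∀ (K : Type) [Group K] [Finite K] (E : Subgroup K), EA 2 E → Group.IsSolvable (Nz E) →
  (Nat.card E = 4 → (Cz E).relIndex (Nz E) ≤ 6) ∧ (Nat.card E = 8 → (Cz E).relIndex (Nz E) ≤ 24)

/-- [G23] the centraliser of an involution of `G₂(3)` -/
def BoxG23 : Prop := ∀ (F : Type) [Field F] [Fintype F], Fintype.card F = 3 →
  ∀ E : Subgroup ↥(chevG2.group F), EA 2 E → Nat.card E = 2 → Cert 3 2 13 E

/-- [C42] centralisers in `³D₄(2)` -/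
def BoxC42 : Prop := ∀ (F : Type) [Field F] [Fintype F], Fintype.card F = 8 →
  ∀ x : ↥(twistedD4 F 2), (orderOf x).Prime → orderOf x ≠ 2 → cc x ≤ 1512

/-- [D42] the normaliser `3^{1+2}.2S₄` in `³D₄(2)`, by pure group theory -/
def BoxD42 : Prop := ∀ (K : Type) [Group K] [Finite K], Nat.card K = 211341312 →
  (∀ x : K, (orderOf x).Prime → orderOf x ≠ 2 → cc x ≤ 1512) →
  (∀ r (E : Subgroup K), Sit 2 r E → Cert 2 3 13 E ∨ (r = 3 ∧ Nat.card E = 3 ∧ 2 ∣ Nat.card (Cz E))) →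
  ∀ r (E : Subgroup K), Sit 2 r E → Cert 2 3 13 E

end Cfsg.Agent.SB.Low
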