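import Cfsg.Agent.SB.Low.TabA

/-!
# S5765 : root tables for `D₄` with the triality, the finite checks (helper61)
-/

set_option autoImplicit false

namespace Cfsg.Agent.SB.Low.Tab.D

open Cfsg Cfsg.Lie Cfsg.Agent.ChevalleyStructure.CoxeterGeomTypes Cfsg.Agent.Tits.Roots Cfsg.Agent.Nodes.RGDChev
  Cfsg.Lie.ChevalleyDatum

/-- four integers -/
abbrev T4 : Type := ℤ × ℤ × ℤ × ℤ

/-- the images of the four simple roots -/
abbrev M4 : Type := T4 × T4 × T4 × T4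

/-- the tuple -/
def vt (x : Fin 4 → ℤ) : T4 := (x 0, x 1, x 2, x 3)

/-- the vector -/
def tv (x : T4) : Fin 4 → ℤ := ![x.1, x.2.1, x.2.2.1, x.2.2.2]

/-- the standard product -/
def dt (x y : T4) : ℤ := x.1 * y.1 + x.2.1 * y.2.1 + x.2.2.1 * y.2.2.1 + x.2.2.2 * y.2.2.2

/-- the invariant form -/
def ip (x y : T4) : ℤ :=
  dt x (2 * y.1 - y.2.1, 2 * y.2.1 - y.1 - y.2.2.1 - y.2.2.2, 2 * y.2.2.1 - y.2.1, 2 * y.2.2.2 - y.2.1)

/-- the action of a matrix -/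
def ap (m : M4) (x : T4) : T4 :=
  (x.1 * m.1.1 + x.2.1 * m.2.1.1 + x.2.2.1 * m.2.2.1.1 + x.2.2.2 * m.2.2.2.1,
   x.1 * m.1.2.1 + x.2.1 * m.2.1.2.1 + x.2.2.1 * m.2.2.1.2.1 + x.2.2.2 * m.2.2.2.2.1,
   x.1 * m.1.2.2.1 + x.2.1 * m.2.1.2.2.1 + x.2.2.1 * m.2.2.1.2.2.1 + x.2.2.2 * m.2.2.2.2.2.1,
   x.1 * m.1.2.2.2 + x.2.1 * m.2.1.2.2.2 + x.2.2.1 * m.2.2.1.2.2.2 + x.2.2.2 * m.2.2.2.2.2.2)

/-- the reflection -/
def rf (c x : T4) : T4 := x - ip x c • c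

/-- the product with a reflection -/
def rm (c : T4) (m : M4) : M4 := (rf c m.1, rf c m.2.1, rf c m.2.2.1, rf c m.2.2.2)

/-- the product with the triality -/
def tm (m : M4) : M4 := (m.2.2.1, m.2.1, m.2.2.2, m.1)

/-- non-negative vectors -/
def pos (x : T4) : Bool := decide (0 ≤ x.1) && decide (0 ≤ x.2.1) && decide (0 ≤ x.2.2.1) && decide (0 ≤ x.2.2.2)

/-- the cofactors: `dt (cr a b c) d` is the determinant -/
def cr (a b c : T4) : T4 :=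
  (-(c.2.1 * (a.2.2.1 * b.2.2.2 - a.2.2.2 * b.2.2.1) - c.2.2.1 * (a.2.1 * b.2.2.2 - a.2.2.2 * b.2.1) + c.2.2.2 * (a.2.1 * b.2.2.1 - a.2.2.1 * b.2.1)),
   c.1 * (a.2.2.1 * b.2.2.2 - a.2.2.2 * b.2.2.1) - c.2.2.1 * (a.1 * b.2.2.2 - a.2.2.2 * b.1) + c.2.2.2 * (a.1 * b.2.2.1 - a.2.2.1 * b.1),
   -(c.1 * (a.2.1 * b.2.2.2 - a.2.2.2 * b.2.1) - c.2.1 * (a.1 * b.2.2.2 - a.2.2.2 * b.1) + c.2.2.2 * (a.1 * b.2.1 - a.2.1 * b.1)),
   c.1 * (a.2.1 * b.2.2.1 - a.2.2.1 * b.2.1) - c.2.1 * (a.1 * b.2.2.1 - a.2.2.1 * b.1) + c.2.2.1 * (a.1 * b.2.1 - a.2.1 * b.1))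

/-- the coefficients of the characteristic polynomial -/
def e1 (m : M4) : ℤ := m.1.1 + m.2.1.2.1 + m.2.2.1.2.2.1 + m.2.2.2.2.2.2

/-- the coefficients of the characteristic polynomial -/
def e2 (m : M4) : ℤ :=
  (m.1.1 * m.2.1.2.1 - m.2.1.1 * m.1.2.1) +
    (m.1.1 * m.2.2.1.2.2.1 - m.2.2.1.1 * m.1.2.2.1) +
    (m.1.1 * m.2.2.2.2.2.2 - m.2.2.2.1 * m.1.2.2.2) +
    (m.2.1.2.1 * m.2.2.1.2.2.1 - m.2.2.1.2.1 * m.2.1.2.2.1) +
    (m.2.1.2.1 * m.2.2.2.2.2.2 - m.2.2.2.2.1 * m.2.1.2.2.2) +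
    (m.2.2.1.2.2.1 * m.2.2.2.2.2.2 - m.2.2.2.2.2.1 * m.2.2.1.2.2.2)

/-- the coefficients of the characteristic polynomial -/
def e3 (m : M4) : ℤ :=
  (m.1.1 * (m.2.1.2.1 * m.2.2.1.2.2.1 - m.2.2.1.2.1 * m.2.1.2.2.1) -
      m.2.1.1 * (m.1.2.1 * m.2.2.1.2.2.1 - m.2.2.1.2.1 * m.1.2.2.1) +
      m.2.2.1.1 * (m.1.2.1 * m.2.1.2.2.1 - m.2.1.2.1 * m.1.2.2.1)) +
    (m.1.1 * (m.2.1.2.1 * m.2.2.2.2.2.2 - m.2.2.2.2.1 * m.2.1.2.2.2) -
      m.2.1.1 * (m.1.2.1 * m.2.2.2.2.2.2 - m.2.2.2.2.1 * m.1.2.2.2) +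
      m.2.2.2.1 * (m.1.2.1 * m.2.1.2.2.2 - m.2.1.2.1 * m.1.2.2.2)) +
    (m.1.1 * (m.2.2.1.2.2.1 * m.2.2.2.2.2.2 - m.2.2.2.2.2.1 * m.2.2.1.2.2.2) -
      m.2.2.1.1 * (m.1.2.2.1 * m.2.2.2.2.2.2 - m.2.2.2.2.2.1 * m.1.2.2.2) +
      m.2.2.2.1 * (m.1.2.2.1 * m.2.2.1.2.2.2 - m.2.2.1.2.2.1 * m.1.2.2.2)) +
    (m.2.1.2.1 * (m.2.2.1.2.2.1 * m.2.2.2.2.2.2 - m.2.2.2.2.2.1 * m.2.2.1.2.2.2) -
      m.2.2.1.2.1 * (m.2.1.2.2.1 * m.2.2.2.2.2.2 - m.2.2.2.2.2.1 * m.2.1.2.2.2) +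
      m.2.2.2.2.1 * (m.2.1.2.2.1 * m.2.2.1.2.2.2 - m.2.2.1.2.2.1 * m.2.1.2.2.2))

/-- the determinant -/
def e4 (m : M4) : ℤ := dt (cr m.1 m.2.1 m.2.2.1) m.2.2.2

def r0 : T4 := (-1, -2, -1, -1)
def r1 : T4 := (-1, -1, -1, -1)
def r2 : T4 := (-1, -1, -1, 0)
def r3 : T4 := (-1, -1, 0, -1)
def r4 : T4 := (-1, -1, 0, 0)
def r5 : T4 := (-1, 0, 0, 0)
def r6 : T4 := (0, -1, -1, -1)
def r7 : T4 := (0, -1, -1, 0)
def r8 : T4 := (0, -1, 0, -1)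
def r9 : T4 := (0, -1, 0, 0)
def r10 : T4 := (0, 0, -1, 0)
def r11 : T4 := (0, 0, 0, -1)
def r12 : T4 := (0, 0, 0, 1)
def r13 : T4 := (0, 0, 1, 0)
def r14 : T4 := (0, 1, 0, 0)
def r15 : T4 := (0, 1, 0, 1)
def r16 : T4 := (0, 1, 1, 0)
def r17 : T4 := (0, 1, 1, 1)
def r18 : T4 := (1, 0, 0, 0)
def r19 : T4 := (1, 1, 0, 0)
def r20 : T4 := (1, 1, 0, 1)
def r21 : T4 := (1, 1, 1, 0)
def r22 : T4 := (1, 1, 1, 1)
def r23 : T4 := (1, 2, 1, 1)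

/-- the roots -/
def RL : List T4 := [r0, r1, r2, r3, r4, r5, r6, r7, r8, r9, r10, r11, r12, r13, r14, r15, r16, r17, r18, r19, r20, r21, r22, r23]

/-- the Weyl group by reflection length, with a root `c` and a vector `x` such that `(m - 1) x = 4 c` -/
def PL : List (M4 × T4 × T4) :=
  [((r18, r14, r13, r12), r0, (-1, -2, -1, -1)), ((r5, r19, r13, r12), r18, (-2, 0, 0, 0)),
   ((r6, r23, r3, r2), r22, (-4, 0, 0, 0)), ((r7, r14, r4, r22), r21, (-4, 0, 0, 0)),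
   ((r8, r14, r22, r4), r20, (-4, 0, 0, 0)), ((r9, r5, r21, r20), r19, (-4, 0, 0, 0)),
   ((r18, r1, r13, r12), r23, (0, -4, 0, 0)), ((r18, r15, r13, r11), r12, (0, 0, 0, -2)),
   ((r18, r16, r10, r12), r13, (0, 0, -2, 0)), ((r19, r9, r16, r15), r14, (0, -2, 0, 0)),
   ((r20, r11, r17, r9), r8, (-4, 0, 0, 0)), ((r21, r10, r9, r17), r7, (-4, 0, 0, 0)),
   ((r22, r14, r8, r7), r6, (-4, 0, 0, 0)), ((r0, r14, r12, r13), r21, (-2, 0, -2, 0)),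
   ((r0, r17, r11, r10), r19, (-2, -2, 0, 0)), ((r1, r23, r8, r7), r22, (-2, 0, -2, 0)),
   ((r2, r19, r9, r17), r21, (-2, 0, -2, 0)), ((r3, r19, r17, r9), r18, (-2, 0, -2, 0)),
   ((r4, r18, r16, r15), r18, (-2, 0, -2, 0)), ((r5, r6, r13, r12), r18, (-2, 0, 0, 0)),
   ((r5, r20, r13, r11), r18, (-2, 0, 0, 0)), ((r5, r21, r10, r12), r18, (-2, 0, 0, 0)),
   ((r6, r15, r3, r21), r22, (-4, 0, 0, 0)), ((r6, r16, r20, r2), r22, (-4, 0, 0, 0)),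
   ((r6, r22, r3, r2), r22, (-4, 0, 0, 0)), ((r7, r5, r19, r22), r21, (-4, 0, 0, 0)),
   ((r7, r11, r4, r22), r21, (-4, 0, 0, 0)), ((r7, r23, r4, r1), r21, (-4, 0, 0, 0)),
   ((r8, r5, r22, r19), r20, (-4, 0, 0, 0)), ((r8, r10, r22, r4), r20, (-4, 0, 0, 0)),
   ((r8, r23, r1, r4), r20, (-4, 0, 0, 0)), ((r9, r1, r21, r20), r19, (-4, 0, 0, 0)),
   ((r9, r15, r21, r3), r19, (-4, 0, 0, 0)), ((r9, r16, r2, r20), r19, (-4, 0, 0, 0)),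
   ((r10, r9, r5, r23), r14, (0, -2, 0, 0)), ((r10, r21, r5, r0), r22, (-2, 0, 0, -2)),
   ((r11, r9, r23, r5), r14, (0, -2, 0, 0)), ((r11, r20, r0, r5), r22, (-2, 0, -2, 0)),
   ((r12, r3, r23, r18), r19, (-2, -2, 0, 0)), ((r12, r14, r0, r18), r21, (-2, 0, -2, 0)),
   ((r13, r2, r18, r23), r19, (-2, -2, 0, 0)), ((r13, r14, r18, r0), r20, (-2, 0, 0, -2)),
   ((r14, r4, r21, r20), r9, (-2, 0, -2, 0)), ((r15, r11, r22, r4), r8, (-2, 0, -2, 0)),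
   ((r16, r10, r4, r22), r18, (-2, 0, -2, 0)), ((r17, r19, r3, r2), r18, (-2, 0, -2, 0)),
   ((r18, r2, r13, r11), r12, (0, 0, 0, -2)), ((r18, r3, r10, r12), r13, (0, 0, -2, 0)),
   ((r18, r17, r10, r11), r13, (0, 0, -2, 0)), ((r19, r0, r16, r15), r9, (-4, 0, 0, 0)),
   ((r19, r12, r16, r8), r9, (-4, 0, 0, 0)), ((r19, r13, r7, r15), r9, (-4, 0, 0, 0)),
   ((r20, r1, r17, r9), r8, (-4, 0, 0, 0)), ((r20, r8, r17, r14), r8, (-4, 0, 0, 0)),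
   ((r20, r16, r6, r9), r8, (-4, 0, 0, 0)), ((r21, r1, r9, r17), r7, (-4, 0, 0, 0)),
   ((r21, r7, r14, r17), r7, (-4, 0, 0, 0)), ((r21, r15, r9, r6), r7, (-4, 0, 0, 0)),
   ((r22, r5, r8, r7), r6, (-4, 0, 0, 0)), ((r22, r10, r8, r16), r6, (-4, 0, 0, 0)),
   ((r22, r11, r15, r7), r6, (-4, 0, 0, 0)), ((r23, r6, r12, r13), r8, (-2, 0, -2, 0)),
   ((r23, r9, r11, r10), r14, (0, -2, 0, 0)), ((r0, r15, r11, r13), r22, (-2, 0, -2, 0)),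
   ((r0, r16, r12, r10), r21, (-2, 0, -2, 0)), ((r0, r19, r12, r13), r21, (-2, 0, -2, 0)),
   ((r0, r22, r11, r10), r22, (-2, 0, -2, 0)), ((r1, r9, r15, r16), r14, (0, -2, 0, 0)),
   ((r1, r17, r8, r7), r22, (-2, 0, -2, 0)), ((r1, r20, r8, r16), r22, (-2, 0, -2, 0)),
   ((r1, r21, r15, r7), r22, (-2, 0, 0, -2)), ((r2, r11, r9, r17), r21, (-2, 0, -2, 0)),
   ((r2, r13, r14, r6), r19, (-2, -2, 0, 0)), ((r2, r18, r14, r17), r18, (-2, 0, 0, -2)),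
   ((r2, r23, r9, r6), r21, (-2, 0, -2, 0)), ((r3, r10, r17, r9), r18, (-2, 0, -2, 0)),
   ((r3, r12, r6, r14), r19, (-2, -2, 0, 0)), ((r3, r18, r17, r14), r18, (-2, 0, -2, 0)),
   ((r3, r23, r6, r9), r22, (-2, 0, -2, 0)), ((r4, r6, r16, r15), r18, (-2, 0, -2, 0)),
   ((r4, r14, r7, r8), r21, (-2, 0, -2, 0)), ((r4, r20, r16, r8), r18, (-2, 0, -2, 0)),
   ((r4, r21, r7, r15), r21, (-2, 0, -2, 0)), ((r5, r7, r13, r11), r18, (-2, 0, 0, 0)),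
   ((r5, r8, r10, r12), r18, (-2, 0, 0, 0)), ((r5, r22, r10, r11), r18, (-2, 0, 0, 0)),
   ((r6, r5, r20, r21), r22, (-4, 0, 0, 0)), ((r6, r12, r3, r21), r22, (-4, 0, 0, 0)),
   ((r6, r13, r20, r2), r22, (-4, 0, 0, 0)), ((r7, r3, r19, r22), r21, (-4, 0, 0, 0)),
   ((r7, r17, r19, r1), r21, (-4, 0, 0, 0)), ((r7, r21, r4, r1), r21, (-4, 0, 0, 0)),
   ((r8, r2, r22, r19), r20, (-4, 0, 0, 0)), ((r8, r17, r1, r19), r20, (-4, 0, 0, 0)),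
   ((r8, r20, r1, r4), r20, (-4, 0, 0, 0)), ((r9, r10, r21, r3), r19, (-4, 0, 0, 0)),
   ((r9, r11, r2, r20), r19, (-4, 0, 0, 0)), ((r9, r23, r2, r3), r19, (-4, 0, 0, 0)),
   ((r10, r4, r18, r23), r13, (-2, 0, -2, 0)), ((r10, r8, r5, r23), r9, (-2, 0, 0, -2)),
   ((r10, r16, r18, r0), r13, (-2, 0, -2, 0)), ((r10, r22, r5, r0), r22, (-2, 0, 0, -2)),
   ((r11, r4, r23, r18), r9, (-2, 0, -2, 0)), ((r11, r7, r23, r5), r9, (-2, 0, -2, 0)),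
   ((r11, r15, r0, r18), r22, (-2, 0, -2, 0)), ((r11, r22, r0, r5), r22, (-2, 0, -2, 0)),
   ((r12, r1, r23, r18), r8, (-2, 0, -2, 0)), ((r12, r8, r23, r5), r8, (-2, 0, -2, 0)),
   ((r12, r16, r0, r18), r21, (-2, 0, -2, 0)), ((r12, r19, r0, r5), r21, (-2, 0, -2, 0)),
   ((r13, r1, r18, r23), r7, (-2, 0, 0, -2)), ((r13, r7, r5, r23), r18, (-2, 0, -2, 0)),
   ((r13, r15, r18, r0), r20, (-2, 0, 0, -2)), ((r13, r19, r5, r0), r18, (-2, 0, -2, 0)),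
   ((r14, r0, r21, r20), r9, (-2, 0, -2, 0)), ((r14, r12, r21, r3), r9, (-2, 0, -2, 0)),
   ((r14, r13, r2, r20), r9, (-2, 0, 0, -2)), ((r14, r18, r2, r3), r8, (-2, 0, 0, 2)),
   ((r15, r3, r22, r19), r8, (-2, 0, -2, 0)), ((r15, r6, r22, r4), r8, (-2, 0, -2, 0)),
   ((r15, r9, r1, r19), r14, (0, -2, 0, 0)), ((r15, r21, r1, r4), r18, (-2, 0, 0, -2)),
   ((r16, r2, r19, r22), r9, (-2, 0, -2, 0)), ((r16, r6, r4, r22), r18, (-2, 0, -2, 0)),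
   ((r16, r9, r19, r1), r14, (0, -2, 0, 0)), ((r16, r20, r4, r1), r18, (-2, 0, -2, 0)),
   ((r17, r0, r20, r21), r19, (-2, -2, 0, 0)), ((r17, r10, r3, r21), r18, (-2, 0, -2, 0)),
   ((r17, r11, r20, r2), r8, (-2, 0, -2, 0)), ((r17, r18, r3, r2), r18, (-2, 0, -2, 0)),
   ((r18, r4, r10, r11), r13, (0, 0, -2, 0)), ((r19, r2, r16, r8), r9, (-4, 0, 0, 0)),
   ((r19, r3, r7, r15), r9, (-4, 0, 0, 0)), ((r19, r17, r7, r8), r9, (-4, 0, 0, 0)),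
   ((r20, r0, r17, r14), r8, (-4, 0, 0, 0)), ((r20, r5, r6, r9), r8, (-4, 0, 0, 0)),
   ((r20, r13, r6, r14), r8, (-4, 0, 0, 0)), ((r21, r0, r14, r17), r7, (-4, 0, 0, 0)),
   ((r21, r5, r9, r6), r7, (-4, 0, 0, 0)), ((r21, r12, r14, r6), r7, (-4, 0, 0, 0)),
   ((r22, r2, r8, r16), r6, (-4, 0, 0, 0)), ((r22, r3, r15, r7), r6, (-4, 0, 0, 0)),
   ((r22, r6, r15, r16), r6, (-4, 0, 0, 0)), ((r23, r1, r12, r13), r8, (-2, 0, -2, 0)),
   ((r23, r4, r11, r10), r9, (-2, 0, -2, 0)), ((r23, r7, r11, r13), r9, (-2, 0, -2, 0)),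
   ((r23, r8, r12, r10), r8, (-2, 0, -2, 0)), ((r0, r20, r11, r13), r22, (-2, 0, -2, 0)),
   ((r0, r21, r12, r10), r21, (-2, 0, -2, 0)), ((r1, r12, r8, r16), r22, (-2, 0, -2, 0)),
   ((r1, r13, r15, r7), r22, (-2, 0, 0, -2)), ((r1, r18, r15, r16), r21, (-2, 0, 0, 2)),
   ((r2, r8, r14, r17), r18, (-2, 0, 0, -2)), ((r2, r16, r9, r6), r21, (-2, 0, -2, 0)),
   ((r2, r22, r14, r6), r22, (-2, 0, 0, -2)), ((r3, r7, r17, r14), r18, (-2, 0, -2, 0)),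
   ((r3, r15, r6, r9), r22, (-2, 0, -2, 0)), ((r3, r22, r6, r14), r22, (-2, 0, -2, 0)),
   ((r4, r10, r16, r8), r18, (-2, 0, -2, 0)), ((r4, r11, r7, r15), r21, (-2, 0, -2, 0)),
   ((r4, r23, r7, r8), r21, (-2, 0, -2, 0)), ((r5, r9, r10, r11), r18, (-2, 0, 0, 0)),
   ((r6, r4, r20, r21), r22, (-4, 0, 0, 0)), ((r7, r13, r19, r1), r21, (-4, 0, 0, 0)),
   ((r8, r12, r1, r19), r20, (-4, 0, 0, 0)), ((r9, r19, r2, r3), r19, (-4, 0, 0, 0)),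
   ((r10, r3, r18, r23), r13, (-2, 0, -2, 0)), ((r10, r17, r18, r0), r13, (-2, 0, -2, 0)),
   ((r11, r2, r23, r18), r9, (-2, 0, -2, 0)), ((r11, r17, r0, r18), r22, (-2, 0, -2, 0)),
   ((r12, r6, r23, r5), r8, (-2, 0, -2, 0)), ((r12, r21, r0, r5), r21, (-2, 0, -2, 0)),
   ((r13, r6, r5, r23), r18, (-2, 0, -2, 0)), ((r13, r20, r5, r0), r18, (-2, 0, -2, 0)),
   ((r14, r7, r21, r3), r9, (-2, 0, -2, 0)), ((r14, r8, r2, r20), r9, (-2, 0, 0, -2)),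
   ((r14, r22, r2, r3), r8, (-2, 0, 0, 2)), ((r15, r0, r22, r19), r8, (-2, 0, -2, 0)),
   ((r15, r13, r1, r19), r9, (-2, 0, 0, -2)), ((r15, r18, r1, r4), r18, (-2, 0, 0, -2)),
   ((r16, r0, r19, r22), r9, (-2, 0, -2, 0)), ((r16, r12, r19, r1), r9, (-2, 0, -2, 0)),
   ((r16, r18, r4, r1), r18, (-2, 0, -2, 0)), ((r17, r1, r20, r21), r8, (-2, 0, -2, 0)),
   ((r17, r7, r3, r21), r18, (-2, 0, -2, 0)), ((r17, r8, r20, r2), r8, (-2, 0, -2, 0)),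
   ((r19, r5, r7, r8), r9, (-4, 0, 0, 0)), ((r20, r4, r6, r14), r8, (-4, 0, 0, 0)),
   ((r21, r4, r14, r6), r7, (-4, 0, 0, 0)), ((r22, r0, r15, r16), r6, (-4, 0, 0, 0)),
   ((r23, r2, r11, r13), r9, (-2, 0, -2, 0)), ((r23, r3, r12, r10), r8, (-2, 0, -2, 0))]

/-- the normal vectors of the subsystems `A₃` -/
def NL : List T4 :=
  [(-1, 0, 0, 0), (-1, 0, 0, 1), (-1, 0, 1, 0), (-1, 1, -1, 0), (-1, 1, 0, -1), (-1, 1, 0, 0), (0, -1, 0, 1), (0, -1, 1, 0), (0, -1, 1, 1), (0, 0, -1, 0), (0, 0, -1, 1), (0, 0, 0, -1), (0, 0, 0, 1), (0, 0, 1, -1), (0, 0, 1, 0), (0, 1, -1, -1), (0, 1, -1, 0), (0, 1, 0, -1), (1, -1, 0, 0), (1, -1, 0, 1), (1, -1, 1, 0), (1, 0, -1, 0), (1, 0, 0, -1), (1, 0, 0, 0)]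

/-- the Weyl group -/
def WL : List M4 := PL.map Prod.fst

/-- the identity -/
def id4 : M4 := (r18, r14, r13, r12)

theorem vec_mem : ∀ s < 24, vt (vec chevD4 4 s) ∈ RL := by decide +kernel

theorem mem_vec : (RL.all fun x => (List.range 24).any fun s => vt (vec chevD4 4 s) == x) = true := by decide +kernel

theorem cartan_eq : ∀ i j : Fin 4, cartanOf chevD4 4 i j =
    (![![2, -1, 0, 0], ![-1, 2, -1, -1], ![0, -1, 2, 0], ![0, -1, 0, 2]] : Fin 4 → Fin 4 → ℤ) i j := by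
  decide +kernel

theorem chk_W : (WL.all fun m => [r18, r14, r13, r12].all fun c => WL.contains (rm c m)) = true := by decide +kernel

theorem chk_pp : (PL.all fun p => p.1 == id4 || (RL.contains p.2.1 && ap p.1 p.2.2 - p.2.2 == (4 : ℤ) • p.2.1 &&
    decide (WL.idxOf (rm p.2.1 p.1) < WL.idxOf p.1))) = true := by decide +kernel

theorem chk_perp : (RL.all fun a => RL.any fun c => ip c a == 0) = true := by decide +kernel

theorem chk_g : (RL.all fun a => RL.contains (ap (tm id4) a)) = true := by decide +kernel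

theorem chk_t1 : (WL.all fun m => RL.all fun a => ip (ap (tm m) a) a != 0 ||
    (ip (ap (tm m) (ap (tm m) a)) a == 0 && ip (ap (tm m) (ap (tm m) a)) (ap (tm m) a) == 0 &&
      (ap (tm m) (ap (tm m) (ap (tm m) a)) == a || ap (tm m) (ap (tm m) (ap (tm m) a)) == -a))) = true := by
  decide +kernel

theorem chk_t2 : (WL.all fun m => RL.all fun a => ap (tm m) a != a || RL.all fun c => ip c a != 0 ||
    (ip (ap (tm m) c) c == 0 && ip (ap (tm m) c) a == 0 && ip (ap (tm m) (ap (tm m) c)) a == 0)) = true := by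
  decide +kernel

/-- commuting matrices -/
def cm (t m : M4) : Bool := ap t m.1 == ap m t.1 && ap t m.2.1 == ap m t.2.1 && ap t m.2.2.1 == ap m t.2.2.1 &&
  ap t m.2.2.2 == ap m t.2.2.2

theorem chk_cw : (WL.all fun m => decide ((WL.filter (cm (tm m))).length ≤ 24)) = true := by decide +kernel

theorem chk_tor : (WL.all fun m => decide ((e1 (tm m)).natAbs ≤ 2) && decide ((e2 (tm m)).natAbs ≤ 3) &&
    decide ((e3 (tm m)).natAbs ≤ 2) && (e4 (tm m)).natAbs == 1) = true := by decide +kernel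

theorem chk_six : (RL.all fun a => RL.all fun b => [a, -a].contains b ||
    (decide ((RL.filter fun c => cr a b c == 0).length ≤ 6) && RL.all fun c => cr a b c == 0 || NL.contains (cr a b c) ||
      decide ((RL.filter fun d => !un (dt (cr a b c) d)).length ≤ 6))) = true := by decide +kernel

theorem chk_nl : (WL.all fun m => NL.all fun n => RL.any fun r => dt n r == 0 &&
    dt n (ap (tm m) r) * dt n (ap (tm m) r) == 1) = true := by decide +kernel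

theorem chk_tw : (WL.all fun m => RL.all fun a => ip (ap (tm m) a) a != -1 || ap (tm m) (ap (tm m) a) != a ||
    RL.any fun x => dt (cr a (ap (tm m) a) x) (ap (tm m) x) * dt (cr a (ap (tm m) a) x) (ap (tm m) x) == 1 &&
      [(-1 : ℤ), 0, 1].any fun i => [(-1 : ℤ), 0, 1].any fun j =>
        ap (tm m) (ap (tm m) x) - ap (tm m) x + x == i • a + j • ap (tm m) a) = true := by decide +kernel

/-- the roots which are not orthogonal to their image and keep their sign -/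
def good (t : M4) (a : T4) : Bool :=
  ip (ap t a) a != 0 && (!pos a || pos (ap t a)) && (!pos (-a) || pos (-ap t a))

/-- one pruning step -/
def pr (t : M4) (G : List T4) : List T4 :=
  G.filter fun a => G.contains (ap t a) && (!RL.contains (a - ap t a) || G.contains (a - ap t a))

/-- the final check -/
def fin (t : M4) (G : List T4) : Bool := G.all fun a => G.all fun b => ip a b != 0 ||
  (RL.contains (b - ap t a) && !G.contains (b - ap t a)) || (RL.contains (b + ap t a) && !G.contains (b + ap t a))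

theorem chk_cls : (WL.all fun m => fin (tm m) (pr (tm m) (pr (tm m) (pr (tm m) (pr (tm m) (pr (tm m)
    (RL.filter (good (tm m))))))))) = true := by decide +kernel

/-- the roots of an `A₂` -/
def a2 (a b : T4) : List T4 := [a, b, a + b, -a, -b, -(a + b)]

theorem chk_a2 : (RL.all fun a => RL.all fun c => [a, -a].contains c || ip c a == 0 ||
    [a, c, rf a c, -a, -c, -rf a c].any fun x => [a, c, rf a c, -a, -c, -rf a c].any fun y =>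
      pos x && pos y && ip y x == -1 && (a2 x y).all RL.contains &&
      ((a2 x y).all fun u => (a2 x y).all fun v => !pos u || !pos v || !(a2 x y).contains (u + v) ||
        (u == x && v == y) || (u == y && v == x)) &&
      RL.all fun d => (a2 x y).contains d || ip x d == 0 || ip y d == 0 || ip (x + y) d == 0) = true := by
  decide +kernel

end Cfsg.Agent.SB.Low.Tab.D
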